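import Cfsg.Agent.Lib.LThreeRec.Local
import Cfsg.Agent.Lib.OddOrderTheorem.Basic

/-!
# Characterising `PSL(3, q)`: subgroups of odd order and prime to `p` of `GL(2, q)`

* `comm_of_nonscalar`, `sq_comm`: centralizers of non-scalar matrices
* `Hyp.mem_Zt_of_disc`: a `p'`-element with repeated eigenvalue is scalar
* `Hyp.odd_pprime_comm`: subgroups of `C(t)` of odd order prime to `p` are abelian
-/

set_option autoImplicit false
set_option linter.unusedSectionVars false
set_option linter.style.haveILetI false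

namespace Cfsg.Agent.LThreeRec

open Subgroup
open scoped commutatorElement

variable {F : Type*} [Field F]

/-- Scalar matrices. -/
def Scal (h : GL (Fin 2) F) : Prop := h 0 1 = 0 ∧ h 1 0 = 0 ∧ h 0 0 = h 1 1

theorem comm_of_nonscalar {g h k : GL (Fin 2) F} (h2 : (2 : F) ≠ 0) (hh : ¬ Scal h) (hg : g * h = h * g)
    (hk : k * h = h * k) : g * k = k * g := by
  have a0 := congrArg (fun m : GL (Fin 2) F => m 0 0) hg
  have a1 := congrArg (fun m : GL (Fin 2) F => m 0 1) hg
  have a2 := congrArg (fun m : GL (Fin 2) F => m 1 0) hg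
  have b0 := congrArg (fun m : GL (Fin 2) F => m 0 0) hk
  have b1 := congrArg (fun m : GL (Fin 2) F => m 0 1) hk
  have b2 := congrArg (fun m : GL (Fin 2) F => m 1 0) hk
  simp at a0 a1 a2 b0 b1 b2
  have key : ∀ x : F, (x * h 0 1 = 0 ∧ x * h 1 0 = 0 ∧ x * (h 0 0 - h 1 1) = 0) → x = 0 := by
    rintro x ⟨e1, e2, e3⟩
    by_contra hx
    exact hh ⟨(mul_eq_zero.1 e1).resolve_left hx, (mul_eq_zero.1 e2).resolve_left hx,
      sub_eq_zero.1 ((mul_eq_zero.1 e3).resolve_left hx)⟩
  have m12 : g 0 1 * k 1 0 - k 0 1 * g 1 0 = 0 := key _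
    ⟨by linear_combination k 0 1 * a0 - g 0 1 * b0, by linear_combination k 1 0 * a0 - g 1 0 * b0,
      mul_left_cancel₀ h2 (by linear_combination g 0 1 * b2 - k 0 1 * a2 + (k 0 0 - k 1 1) * a0 - (g 0 0 - g 1 1) * b0 - k 1 0 * a1 + g 1 0 * b1)⟩
  have m1d : g 0 1 * (k 0 0 - k 1 1) - k 0 1 * (g 0 0 - g 1 1) = 0 := key _
    ⟨by linear_combination g 0 1 * b1 - k 0 1 * a1,
      mul_left_cancel₀ h2 (by linear_combination (k 0 0 - k 1 1) * a0 - (g 0 0 - g 1 1) * b0 - g 0 1 * b2 + k 0 1 * a2 - k 1 0 * a1 + g 1 0 * b1),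
      by linear_combination (g 0 0 - g 1 1) * b1 - (k 0 0 - k 1 1) * a1⟩
  have m2d : g 1 0 * (k 0 0 - k 1 1) - k 1 0 * (g 0 0 - g 1 1) = 0 := key _
    ⟨mul_left_cancel₀ h2 (by linear_combination g 1 0 * b1 - k 1 0 * a1 - (k 0 0 - k 1 1) * a0 + (g 0 0 - g 1 1) * b0 - g 0 1 * b2 + k 0 1 * a2),
      by linear_combination k 1 0 * a2 - g 1 0 * b2,
      by linear_combination (k 0 0 - k 1 1) * a2 - (g 0 0 - g 1 1) * b2⟩
  exact ext2 (by simp; linear_combination m12) (by simp; linear_combination -m1d)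
    (by simp; linear_combination m2d) (by simp; linear_combination -m12)

theorem sq_comm {g h k : GL (Fin 2) F} (h2 : (2 : F) ≠ 0) (hgk : g * h = k * g) (hk : k * h = h * k)
    (hd : (h 0 0 - h 1 1) ^ 2 + 4 * (h 0 1 * h 1 0) ≠ 0) : g * g * h = h * (g * g) := by
  have b0 := congrArg (fun m : GL (Fin 2) F => m 0 0) hk
  have b1 := congrArg (fun m : GL (Fin 2) F => m 0 1) hk
  have b2 := congrArg (fun m : GL (Fin 2) F => m 1 0) hk
  simp at b0 b1 b2
  have hconj : (k : Matrix (Fin 2) (Fin 2) F) = (g : Matrix (Fin 2) (Fin 2) F) * h * (g⁻¹ : GL (Fin 2) F) := by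
    rw [← Units.val_mul, ← Units.val_mul, hgk, mul_inv_cancel_right]
  have htr : k 0 0 + k 1 1 = h 0 0 + h 1 1 := by
    have := congrArg Matrix.trace hconj
    rw [Matrix.trace_mul_cycle, ← Units.val_mul, inv_mul_cancel, Units.val_one, one_mul,
      Matrix.trace_fin_two, Matrix.trace_fin_two] at this
    exact this
  have hdet : k 0 0 * k 1 1 - k 0 1 * k 1 0 = h 0 0 * h 1 1 - h 0 1 * h 1 0 := by
    have := congrArg Matrix.det hconj
    rw [Matrix.det_mul_right_comm, Matrix.det_mul, Matrix.det_mul, ← Matrix.det_mul, ← Units.val_mul,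
      mul_inv_cancel, Units.val_one, Matrix.det_one, one_mul, Matrix.det_fin_two, Matrix.det_fin_two] at this
    exact this
  -- so `k` is `h` or its conjugate
  set kd := k 0 0 - k 1 1 with hkd
  set hd' := h 0 0 - h 1 1 with hhd
  have hb : (k 0 1 = h 0 1 ∧ k 1 0 = h 1 0 ∧ kd = hd') ∨ (k 0 1 = -h 0 1 ∧ k 1 0 = -h 1 0 ∧ kd = -hd') := by
    have q1 : kd ^ 2 + 4 * (k 0 1 * k 1 0) = hd' ^ 2 + 4 * (h 0 1 * h 1 0) := by
      linear_combination (k 0 0 + k 1 1 + h 0 0 + h 1 1) * htr - 4 * hdet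
    obtain ⟨β, e1, e2, e3⟩ : ∃ β : F, k 0 1 = β * h 0 1 ∧ k 1 0 = β * h 1 0 ∧ kd = β * hd' := by
      by_cases n1 : h 0 1 = 0
      · by_cases n3 : hd' = 0
        · exact absurd (by rw [n1, n3]; ring) hd
        · refine ⟨kd / hd', ?_, ?_, by field_simp⟩
          · field_simp; linear_combination -b1
          · field_simp; linear_combination b2
      · refine ⟨k 0 1 / h 0 1, by field_simp, ?_, ?_⟩
        · field_simp; linear_combination -b0
        · field_simp; linear_combination b1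
    have hβ : (β - 1) * (β + 1) = 0 := (mul_eq_zero.1 (show (β - 1) * (β + 1) *
      (hd' ^ 2 + 4 * (h 0 1 * h 1 0)) = 0 by rw [e1, e2, e3] at q1; linear_combination q1)).resolve_right hd
    rcases mul_eq_zero.1 hβ with e | e
    · rw [sub_eq_zero.1 e, one_mul] at e1 e2 e3; exact Or.inl ⟨e1, e2, e3⟩
    · rw [eq_neg_of_add_eq_zero_left e, neg_one_mul] at e1 e2 e3; exact Or.inr ⟨e1, e2, e3⟩
  rcases hb with ⟨e1, e2, e3⟩ | ⟨e1, e2, e3⟩
  · have : k = h := ext2 (mul_left_cancel₀ h2 (by linear_combination htr + e3)) e1 e2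
      (mul_left_cancel₀ h2 (by linear_combination htr - e3))
    rw [this] at hgk
    rw [mul_assoc, hgk, ← mul_assoc, hgk, mul_assoc]
  · have e00 : k 0 0 = h 1 1 := mul_left_cancel₀ h2 (by linear_combination htr + e3)
    have e11 : k 1 1 = h 0 0 := mul_left_cancel₀ h2 (by linear_combination htr - e3)
    have c00 := congrArg (fun m : GL (Fin 2) F => m 0 0) hgk
    have c01 := congrArg (fun m : GL (Fin 2) F => m 0 1) hgk
    have c10 := congrArg (fun m : GL (Fin 2) F => m 1 0) hgk
    have c11 := congrArg (fun m : GL (Fin 2) F => m 1 1) hgk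
    simp [e00, e11, e1, e2] at c00 c01 c10 c11
    have hgk2 : g * k = h * g := by
      refine ext2 ?_ ?_ ?_ ?_ <;> simp [e00, e11, e1, e2]
      · linear_combination -c00
      · linear_combination -c01
      · linear_combination -c10
      · linear_combination -c11
    rw [mul_assoc, hgk, ← mul_assoc, hgk2, mul_assoc]

namespace Hyp

variable [Fintype F] {G : Type*} [Group G] [Finite G] [IsSimpleGroup G] (H : Hyp F G) [H.Exact]
include H

theorem π_mem_Zt {g : GL (Fin 2) F} : H.π g ∈ H.Zt ↔ Scal g := by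
  constructor
  · rintro ⟨_, ⟨b, rfl⟩, hb⟩
    set d : GL (Fin 2) F := dg (b, b)
    have hk : g * d⁻¹ ∈ H.π.ker := by rw [MonoidHom.mem_ker, map_mul, map_inv, ← hb]; exact mul_inv_cancel _
    obtain ⟨k01, k10, k00⟩ := center_scalar (H.ker_le hk)
    have e : g = g * d⁻¹ * d := (inv_mul_cancel_right _ _).symm
    generalize g * d⁻¹ = k at k01 k10 k00 e
    subst e
    exact ⟨by simp [d, k01], by simp [d, k10], by simp [d, k00]⟩
  · rintro ⟨h01, h10, h00⟩
    have hd := GLOrder.GL2_det g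
    rw [h10, mul_zero, sub_zero] at hd
    exact ⟨_, ⟨Units.mk0 _ (left_ne_zero_of_mul hd), rfl⟩, congrArg H.π
      (ext2 (by simp) (by simp [h01]) (by simp [h10]) (by simp [h00]))⟩

theorem comm_lift_iff {x y : G} (hx : x ∈ centralizer {H.t}) (hy : y ∈ centralizer {H.t}) {z : G}
    (hz : z ∈ centralizer {H.t}) (hzZ : z ∉ H.Zt) (h1 : x * z = z * x) (h2 : y * z = z * y) :
    x * y = y * x := by
  obtain ⟨a, rfl⟩ := H.exists_of_mem_cent hx
  obtain ⟨b, rfl⟩ := H.exists_of_mem_cent hy
  obtain ⟨c, rfl⟩ := H.exists_of_mem_cent hz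
  exact H.commute_iff.2 (comm_of_nonscalar H.two_ne (fun hs => hzZ (H.π_mem_Zt.2 hs)) (H.commute_iff.1 h1) (H.commute_iff.1 h2))

/-- A `p'`-element with repeated eigenvalue is scalar. -/
theorem mem_Zt_of_disc {p : ℕ} [CharP F p] (hp : p.Prime) {g : GL (Fin 2) F}
    (hd : (g 0 0 - g 1 1) ^ 2 + 4 * (g 0 1 * g 1 0) = 0) (ho : ¬ p ∣ orderOf (H.π g)) : H.π g ∈ H.Zt := by
  haveI := Fact.mk hp
  set μ := (g 0 0 + g 1 1) / 2 with hμ
  set N : Matrix (Fin 2) (Fin 2) F := (g : Matrix (Fin 2) (Fin 2) F) - μ • 1 with hN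
  have h2 := H.two_ne
  have hN2 : N ^ 2 = 0 := by
    rw [sq]
    ext i j
    fin_cases i <;> fin_cases j <;> simp [hN, hμ, Matrix.mul_apply, Fin.sum_univ_two, Matrix.one_apply] <;>
      field_simp <;> first | linear_combination hd | ring
  have hNp : N ^ p = 0 := pow_eq_zero_of_le hp.two_le hN2
  have hgp : ((g ^ p : GL (Fin 2) F) : Matrix (Fin 2) (Fin 2) F) = μ ^ p • 1 := by
    rw [Units.val_pow_eq_pow_val, show (g : Matrix (Fin 2) (Fin 2) F) = N + μ • 1 by rw [hN, sub_add_cancel],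
      add_pow_char_of_commute (p := p) (h := ((Commute.one_right N).smul_right μ)), hNp, zero_add, smul_pow, one_pow]
  have hsc : Scal (g ^ p) := ⟨by simp [hgp], by simp [hgp], by simp [hgp]⟩
  have hz := H.π_mem_Zt.2 hsc
  rw [map_pow] at hz
  obtain ⟨m, hm⟩ := exists_pow_eq_self_of_coprime ((Nat.Prime.coprime_iff_not_dvd hp).2 ho)
  rw [← hm]
  exact pow_mem hz m

/-- Subgroups of odd order prime to `p` are abelian. -/
theorem odd_pprime_comm {p : ℕ} [CharP F p] (hp : p.Prime) {A : Subgroup G} (hA : A ≤ centralizer {H.t})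
    (hodd : Odd (Nat.card A)) (hpA : ¬ p ∣ Nat.card A) : ∀ x ∈ A, ∀ y ∈ A, x * y = y * x := by
  have hord : ∀ x ∈ A, Odd (orderOf x) ∧ ¬ p ∣ orderOf x := fun x hx => by
    have hd : orderOf x ∣ Nat.card A := Subgroup.orderOf_mk x hx ▸ orderOf_dvd_natCard _
    exact ⟨hodd.of_dvd_nat hd, fun h => hpA (h.trans hd)⟩
  obtain ⟨m, hm⟩ := (Group.isSolvable_def A).1 (OddOrderTheorem.solvable hodd)
  haveI := Fact.mk hp
  suffices key : ∀ m, derivedSeries A m = ⊥ → ∀ x y : A, x * y = y * x by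
    exact fun x hx y hy => congrArg Subtype.val (key m hm ⟨x, hx⟩ ⟨y, hy⟩)
  intro m
  induction m with
  | zero =>
    intro h x y
    have hx : x = 1 := by
      have hm : x ∈ derivedSeries A 0 := by rw [derivedSeries_zero]; exact mem_top x
      rwa [h, mem_bot] at hm
    rw [hx, one_mul, mul_one]
  | succ m ih =>
    intro h
    have hD : ∀ x ∈ derivedSeries A m, ∀ y ∈ derivedSeries A m, x * y = y * x := fun x hx y hy => by
      rw [derivedSeries_succ] at h
      have := commutator_mem_commutator (H₁ := derivedSeries A m) (H₂ := derivedSeries A m) hx hy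
      rw [h, mem_bot, commutatorElement_eq_one_iff_mul_comm] at this
      exact this
    by_cases hZ : ∀ x ∈ derivedSeries A m, (x : G) ∈ H.Zt
    · rcases m with _ | m
      · exact fun x y => hD x (by simp) y (by simp)
      refine ih ?_
      rw [derivedSeries_succ, eq_bot_iff, commutator_le]
      intro x hx y hy
      rw [mem_bot]
      have hc := hZ _ (derivedSeries_succ A m ▸ commutator_mem_commutator hx hy)
      obtain ⟨a, ha⟩ := H.exists_of_mem_cent (hA x.2)
      obtain ⟨b, hb⟩ := H.exists_of_mem_cent (hA y.2)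
      set c := a * b * a⁻¹ * b⁻¹ with hcdef
      have hπc : H.π c = ((⁅x, y⁆ : A) : G) := by
        rw [hcdef, map_mul, map_mul, map_mul, map_inv, map_inv, ha, hb]
        simp [commutatorElement_def]
      rw [← hπc] at hc
      obtain ⟨c01, c10, c00⟩ := H.π_mem_Zt.1 hc
      have hdet : (c : Matrix (Fin 2) (Fin 2) F).det = 1 := by
        rw [hcdef, Matrix.GeneralLinearGroup.coe_mul, Matrix.GeneralLinearGroup.coe_mul,
          Matrix.GeneralLinearGroup.coe_mul, Matrix.det_mul, Matrix.det_mul, Matrix.det_mul,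
          Matrix.GeneralLinearGroup.coe_inv, Matrix.GeneralLinearGroup.coe_inv, Matrix.det_nonsing_inv,
          Matrix.det_nonsing_inv]
        simp only [Ring.inverse_eq_inv']
        field_simp [Matrix.GeneralLinearGroup.det_ne_zero]
      rw [Matrix.det_fin_two, c01, c00, zero_mul, sub_zero] at hdet
      refine Subtype.ext ?_
      rw [← hπc, coe_one]
      rcases mul_self_eq_one_iff.1 hdet with e | e
      · rw [show c = 1 from ext2 (by simp [c00, e]) (by simp [c01]) (by simp [c10]) (by simp [e]), map_one]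
      · exfalso
        have ec : c = gt := ext2 (by simp [c00, e]) (by simp [c01]) (by simp [c10]) (by simp [e])
        have hmem : H.t ∈ A := by
          show H.π gt ∈ A
          rw [← ec, hπc]; exact (⁅x, y⁆ : A).2
        have := (hord _ hmem).1
        rw [H.t_order] at this
        exact absurd this (by decide)
    · push Not at hZ
      obtain ⟨h0, h0D, h0Z⟩ := hZ
      obtain ⟨b, hb⟩ := H.exists_of_mem_cent (hA h0.2)
      have hcent : ∀ x : A, (x : G) * h0 = h0 * x := fun x => by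
        obtain ⟨a, ha⟩ := H.exists_of_mem_cent (hA x.2)
        have hk : x * h0 * x⁻¹ ∈ derivedSeries A m := (derivedSeries_normal A m).conj_mem _ h0D _
        have hkc := congrArg Subtype.val (hD _ hk _ h0D)
        push_cast at hkc
        rw [← ha, ← hb, ← map_inv, ← map_mul, ← map_mul, H.commute_iff] at hkc
        have hsq : a * a * b = b * (a * a) := sq_comm H.two_ne (k := a * b * a⁻¹) (by rw [inv_mul_cancel_right]) hkc
          fun hd => h0Z (hb ▸ H.mem_Zt_of_disc hp hd (hb.symm ▸ (hord _ h0.2).2))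
        have h2 : Commute ((x : G) * x) h0 := by
          show _ = _
          rw [← ha, ← hb, ← map_mul, ← map_mul, ← map_mul, hsq]
        obtain ⟨k, hk'⟩ := (hord _ x.2).1
        have e : (x : G) = (((x : G) * x) ^ k)⁻¹ := by
          refine eq_inv_of_mul_eq_one_left ?_
          rw [← sq, ← pow_mul, ← pow_succ', ← hk', pow_orderOf_eq_one]
        rw [e]
        exact (h2.pow_left k).inv_left.eq
      exact fun x y => Subtype.ext (H.comm_lift_iff (hA x.2) (hA y.2) (hA h0.2) h0Z (hcent x) (hcent y))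

end Hyp

end Cfsg.Agent.LThreeRec
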