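import Cfsg.Agent.EqLemmas
import Mathlib.RingTheory.Int.Basic
import Mathlib.NumberTheory.Padics.PadicVal.Basic
import Mathlib.Tactic

/-!
# Characterising `PSL(3, q)` by an involution centralizer: the arithmetic of the bad cases

`q = p ^ n`, `q % 4 = 3`, `q ≥ 7`; `J = |G : C(t)|` and the degree `X` satisfy Brauer's equations.
* `Eqs.none_false` : no solution with Sylow `p`-subgroups of order `q`;
* `Eqs.half_eq`, `Eqs.half_false` : Sylow `p`-subgroups of order `q ^ 2`: only `X = q ^ 2 + q - 1` is left,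
  and it fails the Sylow congruence.
-/

set_option autoImplicit false

namespace Cfsg.Agent.LThreeRec

theorem dvd_of_padic_le {a b : ℤ} (ha : a ≠ 0) (hb : b ≠ 0)
    (h : ∀ r : ℕ, r.Prime → padicValInt r a ≤ padicValInt r b) : a ∣ b := by
  rw [← Int.natAbs_dvd_natAbs]
  refine (Nat.factorization_le_iff_dvd (Int.natAbs_ne_zero.2 ha) (Int.natAbs_ne_zero.2 hb)).1 fun r => ?_
  by_cases hr : r.Prime
  · rw [Nat.factorization_def _ hr, Nat.factorization_def _ hr]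
    exact h r hr
  · rw [Nat.factorization_eq_zero_of_not_prime _ hr]; exact Nat.zero_le _

theorem padic_mono {r : ℕ} [Fact r.Prime] {a b : ℤ} (hb : b ≠ 0) (h : a ∣ b) :
    padicValInt r a ≤ padicValInt r b := by
  have h1 : (r : ℤ) ^ padicValInt r a ∣ b := (padicValInt_dvd a).trans h
  exact ((padicValInt_dvd_iff _ b).1 h1).resolve_left hb

theorem not_pow_succ_dvd {r : ℕ} [Fact r.Prime] {z : ℤ} (hz : z ≠ 0) :
    ¬ (r : ℤ) ^ (padicValInt r z + 1) ∣ z := fun h => by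
  rcases (padicValInt_dvd_iff _ z).1 h with e | e
  · exact hz e
  · omega

/-- The odd part. -/
theorem exists_odd_mul {z : ℤ} (hz : z ≠ 0) : ∃ m : ℤ, Odd m ∧ z = 2 ^ padicValInt 2 z * m := by
  obtain ⟨m, hm⟩ : (2 : ℤ) ^ padicValInt 2 z ∣ z := by
    have := padicValInt_dvd (p := 2) z
    exact_mod_cast this
  refine ⟨m, ?_, hm⟩
  rcases Int.even_or_odd m with ⟨v, hv⟩ | h
  · exfalso
    haveI := Fact.mk Nat.prime_two
    refine not_pow_succ_dvd (r := 2) hz ⟨v, ?_⟩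
    calc z = 2 ^ padicValInt 2 z * m := hm
      _ = _ := by rw [hv]; push_cast; ring
  · exact h

/-- The inequalities of the general case of `Eqs.none_false`. -/
theorem general_case_false {e U W C : ℤ} (he : 3 ≤ e) (hU : 3 ≤ U) (hW : 4 ≤ W)
    (hUW : (U = 3 ∧ W = 4 ∧ e = 7) ∨ 5 ≤ U ∨ 8 ≤ W) (hC1 : (e - 1) * (U * W) ≤ e * (U + W) + C)
    (hC2 : C * (U * W - 1) ≤ e * (U + W) + U * W) : False := by
  rcases hUW with ⟨rfl, rfl, rfl⟩ | hUW
  · norm_num at hC1 hC2; omega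
  have h9 : 9 ≤ 2 * (U * W) - 3 * (U + W) := by
    rcases hUW with h5 | h8
    · linarith [mul_nonneg (show 0 ≤ U - 5 by omega) (show 0 ≤ W - 4 by omega)]
    · linarith [mul_nonneg (show 0 ≤ U - 3 by omega) (show 0 ≤ W - 8 by omega)]
  generalize hT : U * W = T at *
  generalize hS : U + W = S at *
  have hT12 : 12 ≤ T := hT ▸ mul_le_mul hU hW (by norm_num) (by omega)
  have hTS : S ≤ (T - S) * (T - 1) := by
    linarith [mul_le_mul_of_nonneg_right (show 4 ≤ T - S by omega) (show 0 ≤ T - 1 by omega)]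
  have hC3 : (9 + (e - 3) * (T - S)) * (T - 1) ≤ e * S + T :=
    (mul_le_mul_of_nonneg_right (by linarith) (show 0 ≤ T - 1 by omega)).trans hC2
  linarith [mul_le_mul_of_nonneg_left hTS (show 0 ≤ e - 3 by omega)]

/-- The data. -/
structure Eqs (p n q : ℕ) (J : ℕ) (X : ℤ) : Prop where
  prime : p.Prime
  card : q = p ^ n
  one_le : 1 ≤ n
  mod4 : q % 4 = 3
  seven : 7 ≤ q
  ne_zero : X ≠ 0
  ne_one : X ≠ 1
  ne_q : X ≠ q
  index_eq : (J : ℤ) * (X - q) ^ 2 = ((q : ℤ) - 1) * ((q : ℤ) + 1) ^ 2 * q * (X * (X - 1))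
  second : (q : ℤ) ^ 2 - X ∣ X * (X - 1)
  two : padicValInt 2 (X - q) = padicValInt 2 ((q : ℤ) ^ 2 - 1)

namespace Eqs

variable {p n q J : ℕ} {X : ℤ} (h : Eqs p n q J X)
include h

theorem q_ne : (q : ℤ) ≠ 0 := by have := h.seven; omega

theorem p_ne_two : p ≠ 2 := fun e => by
  have h1 := h.mod4
  obtain ⟨m, hm⟩ : 2 ∣ q := by rw [h.card, e]; exact dvd_pow_self 2 (by have := h.one_le; omega)
  omega

theorem prime_dvd_q {r : ℕ} (hr : r.Prime) (hd : (r : ℤ) ∣ (q : ℤ)) : r = p := by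
  have h1 : r ∣ p ^ n := h.card ▸ Int.natCast_dvd_natCast.1 hd
  exact (Nat.prime_dvd_prime_iff_eq hr h.prime).1 (hr.dvd_of_dvd_pow h1)

theorem p_dvd_q : (p : ℤ) ∣ (q : ℤ) :=
  Int.natCast_dvd_natCast.2 (h.card ▸ dvd_pow_self p (by have := h.one_le; omega))

theorem p_not_dvd_one : ¬ (p : ℤ) ∣ 1 := (Nat.prime_iff_prime_int.1 h.prime).not_dvd_one

theorem coprime_q {z : ℤ} (hz : ¬ (p : ℤ) ∣ z) : IsCoprime z (q : ℤ) := by
  rw [h.card, Nat.cast_pow]
  exact ((Nat.prime_iff_prime_int.1 h.prime).coprime_iff_not_dvd.2 hz).symm.pow_right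

theorem sub_ne_zero' : X - q ≠ 0 := sub_ne_zero.2 h.ne_q

theorem sq_ne : (q : ℤ) ^ 2 - 1 ≠ 0 := by
  have h7 : (7 : ℤ) ≤ (q : ℤ) := by exact_mod_cast h.seven
  nlinarith

theorem xx_ne : X * (X - 1) ≠ 0 := mul_ne_zero h.ne_zero (sub_ne_zero.2 h.ne_one)

theorem J_ne : (J : ℤ) ≠ 0 := fun e => by
  have h7 := h.seven
  have h1 := h.index_eq
  rw [e, zero_mul] at h1
  exact mul_ne_zero (mul_ne_zero (mul_ne_zero (by omega) (pow_ne_zero _ (by omega))) h.q_ne) h.xx_ne h1.symm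

theorem vp_index {r : ℕ} [Fact r.Prime] :
    J.factorization r + 2 * padicValInt r (X - q) =
      padicValInt r ((q : ℤ) - 1) + 2 * padicValInt r ((q : ℤ) + 1) + padicValInt r (q : ℤ) +
        padicValInt r (X * (X - 1)) := by
  have h7 := h.seven
  have e := congrArg (padicValInt r) h.index_eq
  have hq1 : ((q : ℤ) - 1) ≠ 0 := by omega
  have hq2 : ((q : ℤ) + 1) ≠ 0 := by omega
  rw [padicValInt.mul h.J_ne (pow_ne_zero _ h.sub_ne_zero'), pow_two, padicValInt.mul h.sub_ne_zero' h.sub_ne_zero',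
    padicValInt.mul (mul_ne_zero (mul_ne_zero hq1 (pow_ne_zero _ hq2)) h.q_ne) h.xx_ne,
    padicValInt.mul (mul_ne_zero hq1 (pow_ne_zero _ hq2)) h.q_ne, padicValInt.mul hq1 (pow_ne_zero _ hq2),
    pow_two, padicValInt.mul hq2 hq2, padicValInt.of_nat,
    ← Nat.factorization_def J (Fact.out : r.Prime)] at e
  omega

theorem p_not_dvd_sq : ¬ (p : ℤ) ∣ (q : ℤ) ^ 2 - 1 := fun e => by
  have h1 := dvd_sub (h.p_dvd_q.trans (dvd_pow_self (q : ℤ) two_ne_zero)) e
  rw [sub_sub_cancel] at h1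
  exact h.p_not_dvd_one h1

/-- The valuations at `p`. -/
theorem vp_p :
    J.factorization p + 2 * padicValInt p (X - q) = n + padicValInt p X + padicValInt p (X - 1) := by
  haveI := Fact.mk h.prime
  have h1 : padicValInt p ((q : ℤ) - 1) = 0 := padicValInt.eq_zero_of_not_dvd fun e =>
    h.p_not_dvd_one (by simpa using dvd_sub h.p_dvd_q e)
  have h2 : padicValInt p ((q : ℤ) + 1) = 0 := padicValInt.eq_zero_of_not_dvd fun e =>
    h.p_not_dvd_one (by simpa using dvd_sub e h.p_dvd_q)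
  have h3 : padicValInt p (q : ℤ) = n := by rw [padicValInt.of_nat, h.card, padicValNat.prime_pow]
  have := h.vp_index (r := p)
  rw [padicValInt.mul h.ne_zero (sub_ne_zero.2 h.ne_one), h1, h2, h3] at this
  omega

theorem two_sq : padicValInt 2 ((q : ℤ) ^ 2 - 1) = padicValNat 2 (q + 1) + 1 ∧ 2 ≤ padicValNat 2 (q + 1) := by
  haveI := Fact.mk Nat.prime_two
  have h7 := h.seven
  have h4 := h.mod4
  constructor
  · obtain ⟨m, hm⟩ : ∃ m : ℕ, q - 1 = 2 * m ∧ ¬ 2 ∣ m := ⟨(q - 1) / 2, by omega, by omega⟩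
    have e1 : padicValInt 2 ((q : ℤ) - 1) = 1 := by
      rw [padicValInt, show ((q : ℤ) - 1).natAbs = q - 1 by omega, hm.1,
        padicValNat.mul two_ne_zero (by omega), padicValNat.self one_lt_two,
        padicValNat.eq_zero_of_not_dvd hm.2]
    have e2 : padicValInt 2 ((q : ℤ) + 1) = padicValNat 2 (q + 1) := by
      rw [padicValInt, show ((q : ℤ) + 1).natAbs = q + 1 by omega]
    rw [show (q : ℤ) ^ 2 - 1 = ((q : ℤ) - 1) * ((q : ℤ) + 1) by ring,
      padicValInt.mul (by omega) (by omega), e1, e2, add_comm]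
  · exact (padicValNat_dvd_iff_le (by omega)).1 (by norm_num; omega)

/-- The `p'`-part of `X - q` divides `q ^ 2 - 1`. -/
theorem sub_part_dvd {f : ℤ} (hf : f ∣ X - q) (hpf : ¬ (p : ℤ) ∣ f) : f ∣ (q : ℤ) ^ 2 - 1 := by
  have h3 := h.seven
  have hf0 : f ≠ 0 := fun e => hpf (e ▸ dvd_zero _)
  refine dvd_of_padic_le hf0 h.sq_ne fun r hr => ?_
  haveI := Fact.mk hr
  by_cases hrp : r = p
  · subst hrp
    rw [padicValInt.eq_zero_of_not_dvd hpf]
    exact Nat.zero_le _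
  refine le_trans (padic_mono h.sub_ne_zero' hf) ?_
  by_cases hr2 : r = 2
  · subst hr2; exact h.two.le
  by_cases hrf : (r : ℤ) ∣ X - q
  swap
  · rw [padicValInt.eq_zero_of_not_dvd hrf]; exact Nat.zero_le _
  have key := h.vp_index (r := r)
  have hq0 : padicValInt r (q : ℤ) = 0 :=
    padicValInt.eq_zero_of_not_dvd fun e => hrp (h.prime_dvd_q hr e)
  have hX : ¬ (r : ℤ) ∣ X := fun e => hrp (h.prime_dvd_q hr (by simpa using dvd_sub e hrf))
  rw [padicValInt.mul h.ne_zero (sub_ne_zero.2 h.ne_one), padicValInt.eq_zero_of_not_dvd hX, zero_add,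
    hq0, add_zero] at key
  have hv : padicValInt r ((q : ℤ) ^ 2 - 1) =
      padicValInt r ((q : ℤ) - 1) + padicValInt r ((q : ℤ) + 1) := by
    rw [show (q : ℤ) ^ 2 - 1 = ((q : ℤ) - 1) * ((q : ℤ) + 1) by ring,
      padicValInt.mul (by omega) (by omega)]
  rw [hv]
  by_contra hlt
  have hX1v : padicValInt r ((q : ℤ) - 1) < padicValInt r (X - 1) := by omega
  have hf1 : padicValInt r ((q : ℤ) - 1) + 1 ≤ padicValInt r (X - q) := by omega
  refine not_pow_succ_dvd (r := r) (show (q : ℤ) - 1 ≠ 0 by omega) ?_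
  have e1 : (r : ℤ) ^ (padicValInt r ((q : ℤ) - 1) + 1) ∣ X - q :=
    (padicValInt_dvd_iff _ _).2 (Or.inr hf1)
  have e2 : (r : ℤ) ^ (padicValInt r ((q : ℤ) - 1) + 1) ∣ X - 1 :=
    (padicValInt_dvd_iff _ _).2 (Or.inr hX1v)
  simpa using dvd_sub e2 e1

/-- The `p'`-part of `q ^ 2 - X` divides `q ^ 2 - 1`. -/
theorem second_part_dvd {d : ℤ} (hd : d ∣ (q : ℤ) ^ 2 - X) (hpd : ¬ (p : ℤ) ∣ d) :
    d ∣ (q : ℤ) ^ 2 - 1 := by
  refine ((h.coprime_q hpd).pow_right (n := 2)).dvd_of_dvd_mul_left ?_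
  have h1 : (q : ℤ) ^ 2 * ((q : ℤ) ^ 2 - 1) =
      X * (X - 1) + ((q : ℤ) ^ 2 - X) * ((q : ℤ) ^ 2 + X - 1) := by ring
  rw [h1]; exact dvd_add (hd.trans h.second) (hd.trans (dvd_mul_right _ _))

/-- Sylow subgroups of order `q`: the shape of `X`. -/
theorem none_shape (hJ : ¬ p ∣ J) : ∃ x : ℤ, X = q * x ∧ ¬ (p : ℤ) ∣ x ∧ ¬ (p : ℤ) ∣ x - 1 := by
  haveI := Fact.mk h.prime
  have key := h.vp_p
  rw [Nat.factorization_eq_zero_of_not_dvd hJ, zero_add] at key
  have hn := h.one_le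
  have hX : (p : ℤ) ∣ X := by
    by_contra hX
    rw [padicValInt.eq_zero_of_not_dvd fun e : (p : ℤ) ∣ X - q =>
      hX (by simpa using dvd_add e h.p_dvd_q)] at key
    omega
  have hX1 : padicValInt p (X - 1) = 0 := padicValInt.eq_zero_of_not_dvd fun e =>
    h.p_not_dvd_one (by simpa using dvd_sub hX e)
  rw [hX1, add_zero] at key
  have hqn : (q : ℤ) = (p : ℤ) ^ n := by rw [h.card]; push_cast; rfl
  set m := padicValInt p X with hm
  have hmn : m = n := by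
    rcases lt_trichotomy m n with hlt | e | hgt
    · exfalso
      have h1 : (p : ℤ) ^ (m + 1) ∣ X - q := (padicValInt_dvd_iff _ _).2 (Or.inr (by omega))
      have h2 : (p : ℤ) ^ (m + 1) ∣ (q : ℤ) := hqn ▸ pow_dvd_pow _ (by omega)
      exact not_pow_succ_dvd h.ne_zero (by simpa using dvd_add h1 h2)
    · exact e
    · exfalso
      have h1 : (p : ℤ) ^ (n + 1) ∣ X - q := (padicValInt_dvd_iff _ _).2 (Or.inr (by omega))
      have h2 : (p : ℤ) ^ (n + 1) ∣ X := (padicValInt_dvd_iff _ _).2 (Or.inr (by omega))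
      refine not_pow_succ_dvd (r := p) h.q_ne ?_
      rw [padicValInt.of_nat, h.card, padicValNat.prime_pow, ← h.card]
      simpa using dvd_sub h2 h1
  obtain ⟨x, hx⟩ : (q : ℤ) ∣ X := by rw [hqn, ← hmn, hm]; exact padicValInt_dvd X
  refine ⟨x, hx, fun e => ?_, fun e => ?_⟩
  · refine not_pow_succ_dvd (r := p) h.ne_zero ?_
    rw [← hm, hmn, hx, pow_succ, ← hqn]
    exact mul_dvd_mul_left _ e
  · have h1 : (p : ℤ) ^ (n + 1) ∣ X - q := by
      rw [pow_succ, ← hqn, show X - (q : ℤ) = (q : ℤ) * (x - 1) by rw [hx]; ring]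
      exact mul_dvd_mul_left _ e
    have := ((padicValInt_dvd_iff _ _).1 h1).resolve_left h.sub_ne_zero'
    omega

set_option maxHeartbeats 1600000 in
/-- No solution with Sylow `p`-subgroups of order `q`. -/
theorem none_false (hJ : ¬ p ∣ J) (hcongr : J % q = 1)
    (hcount : ((2 ^ (padicValNat 2 (q + 1) + 2) : ℕ) : ℤ) ∣
      (J : ℤ) - (((q : ℤ) * (q + 1)) ^ 2 - (q : ℤ) * (q + 1) + 1)) : False := by
  haveI := Fact.mk Nat.prime_two
  obtain ⟨x, hx, hpx, hpx1⟩ := h.none_shape hJ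
  have h7 : (7 : ℤ) ≤ (q : ℤ) := by exact_mod_cast h.seven
  have hq4 : (q : ℤ) % 4 = 3 := by exact_mod_cast h.mod4
  obtain ⟨h2sq, ha2⟩ := h.two_sq
  set a := padicValNat 2 (q + 1) with ha
  -- the equation
  have heq : (J : ℤ) * (x - 1) ^ 2 =
      ((q : ℤ) - 1) * ((q : ℤ) + 1) ^ 2 * (x * ((q : ℤ) * x - 1)) := by
    refine mul_left_cancel₀ (pow_ne_zero 2 h.q_ne) ?_
    have := h.index_eq
    rw [hx] at this
    linear_combination this
  -- the two divisors
  have hA : (q : ℤ) - x ∣ (q : ℤ) ^ 2 - 1 := h.second_part_dvd ⟨q, by rw [hx]; ring⟩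
    fun e => hpx (by simpa using dvd_sub h.p_dvd_q e)
  have hB : x - 1 ∣ (q : ℤ) ^ 2 - 1 := h.sub_part_dvd ⟨q, by rw [hx]; ring⟩ hpx1
  have hB0 : x - 1 ≠ 0 := fun e => hpx1 (e ▸ dvd_zero _)
  have hvB : padicValInt 2 (x - 1) = a + 1 := by
    have e1 := h.two
    have e2 : padicValInt 2 (q : ℤ) = 0 :=
      padicValInt.eq_zero_of_not_dvd (by push_cast; omega)
    rw [show X - (q : ℤ) = (q : ℤ) * (x - 1) by rw [hx]; ring, padicValInt.mul h.q_ne hB0, e2, zero_add,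
      h2sq] at e1
    exact e1
  obtain ⟨l, hl, hBl⟩ := exists_odd_mul hB0
  rw [hvB] at hBl
  obtain ⟨m, hm, hqm⟩ : ∃ m : ℤ, Odd m ∧ (q : ℤ) + 1 = 2 ^ a * m := by
    obtain ⟨m, hm, e⟩ := exists_odd_mul (show (q : ℤ) + 1 ≠ 0 by omega)
    rw [show (q : ℤ) + 1 = ((q + 1 : ℕ) : ℤ) by push_cast; rfl, padicValInt.of_nat, ← ha] at e
    exact ⟨m, hm, by rw [← e]; push_cast; rfl⟩
  -- the common divisor
  set d : ℤ := (Int.gcd ((q : ℤ) - x) (x - 1) : ℤ) with hd
  obtain ⟨u, hu⟩ : d ∣ (q : ℤ) - x := Int.gcd_dvd_left ..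
  obtain ⟨w, hw⟩ : d ∣ x - 1 := Int.gcd_dvd_right ..
  obtain ⟨α, β, hαβ⟩ : ∃ α β : ℤ, α * u + β * w = 1 := by
    have e := Int.gcd_eq_gcd_ab ((q : ℤ) - x) (x - 1)
    rw [← hd] at e
    generalize Int.gcdA ((q : ℤ) - x) (x - 1) = α at e
    generalize Int.gcdB ((q : ℤ) - x) (x - 1) = β at e
    refine ⟨α, β, ?_⟩
    have hd0 : d ≠ 0 := fun e0 => hB0 (by rw [hw, e0, zero_mul])
    refine mul_left_cancel₀ hd0 ?_
    rw [hu, hw] at e
    linear_combination -e
  have hdnn : 0 ≤ d := by rw [hd]; positivity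
  have hde : d * (u + w) = (q : ℤ) - 1 := by linear_combination -hu - hw
  have hepos : 0 < u + w := by
    by_contra hc
    nlinarith [mul_nonpos_of_nonneg_of_nonpos hdnn (not_lt.1 hc)]
  have hdpos : 0 < d := by
    rcases hdnn.lt_or_eq with h0 | h0
    · exact h0
    · exfalso; rw [← h0, zero_mul] at hde; omega
  -- parities
  obtain ⟨d', hd'⟩ : (2 : ℤ) ∣ d := by
    have hb : (2 : ℤ) ∣ x - 1 := by rw [hBl, pow_succ']; exact dvd_mul_of_dvd_left (dvd_mul_right _ _) _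
    exact Int.dvd_coe_gcd (by omega) hb
  have hpd' : Odd d' ∧ Odd (u + w) := by
    have e : Odd (d' * (u + w)) := by
      refine Int.odd_iff.2 ?_
      rw [hd', mul_assoc] at hde
      omega
    exact Int.odd_mul.1 e
  obtain ⟨w₀, hw₀, hwodd⟩ : ∃ w₀ : ℤ, w = 2 ^ a * w₀ ∧ Odd w₀ := by
    have e : d' * w = 2 ^ a * l := by
      refine mul_left_cancel₀ (two_ne_zero (α := ℤ)) ?_
      rw [← mul_assoc, ← hd', ← hw, hBl, pow_succ']
      ring
    have hc : IsCoprime ((2 : ℤ) ^ a) d' := by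
      refine IsCoprime.pow_left (Int.prime_two.coprime_iff_not_dvd.2 fun e2 => ?_)
      have := Int.odd_iff.1 hpd'.1
      omega
    obtain ⟨w₀, hw₀⟩ := hc.dvd_of_dvd_mul_left ⟨l, e⟩
    refine ⟨w₀, hw₀, (Int.odd_mul.1 (?_ : Odd (d' * w₀))).2⟩
    have : d' * w₀ = l := mul_left_cancel₀ (pow_ne_zero a (two_ne_zero (α := ℤ))) (by rw [← e, hw₀]; ring)
    rwa [this]
  have hw4 : (4 : ℤ) ∣ w := hw₀ ▸ dvd_mul_of_dvd_left (by
    simpa using pow_dvd_pow (2 : ℤ) ha2) _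
  have hw0 : w ≠ 0 := fun e => hB0 (by rw [hw, e, mul_zero])
  have hu_odd : Odd u := by
    have := Int.odd_iff.1 hpd'.2
    exact Int.odd_iff.2 (by omega)
  -- `u w` divides `q + 1`
  have hue : IsCoprime u (u + w) := ⟨α - β, β, by linear_combination hαβ⟩
  have hwe : IsCoprime w (u + w) := ⟨β - α, α, by linear_combination hαβ⟩
  have huw : IsCoprime u w := ⟨α, β, hαβ⟩
  obtain ⟨k, hk⟩ : u * w ∣ (q : ℤ) + 1 := by
    refine huw.mul_dvd (hue.dvd_of_dvd_mul_left ?_) (hwe.dvd_of_dvd_mul_left ?_) <;>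
      refine (mul_dvd_mul_iff_left hdpos.ne').1 ?_ <;>
      rw [← mul_assoc, hde, show ((q : ℤ) - 1) * ((q : ℤ) + 1) = (q : ℤ) ^ 2 - 1 by ring]
    · rw [← hu]; exact hA
    · rw [← hw]; exact hB
  have hkodd : Odd k := by
    have e : m = u * w₀ * k := by
      refine mul_left_cancel₀ (pow_ne_zero a (two_ne_zero (α := ℤ))) ?_
      rw [← hqm, hk, hw₀]; ring
    exact (Int.odd_mul.1 (e ▸ hm)).2
  -- the congruence modulo `q`
  obtain ⟨c, hc⟩ : (q : ℤ) ∣ w ^ 2 - u * w - u ^ 2 := by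
    obtain ⟨j, hj⟩ : ∃ j : ℤ, (J : ℤ) = (q : ℤ) * j + 1 := ⟨((J / q : ℕ) : ℤ), by
      have := Nat.div_add_mod J q
      rw [hcongr] at this
      exact_mod_cast this.symm⟩
    obtain ⟨c₀, hc₀⟩ : (q : ℤ) ∣ (x - 1) ^ 2 - x :=
      ⟨x * (((q : ℤ) ^ 2 + q - 1) * ((q : ℤ) * x - 1) - x) - j * (x - 1) ^ 2, by
        rw [hj] at heq; linear_combination heq⟩
    refine ⟨(u + w) ^ 2 * c₀ - ((q : ℤ) - 2) * w ^ 2 + (u + w) * w, ?_⟩
    have hB2 : (x - 1) ^ 2 - x = (d * w) ^ 2 - d * w - 1 := by rw [← hw]; ring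
    rw [hB2] at hc₀
    linear_combination (u + w) ^ 2 * hc₀ - w * (w * (d * (u + w) + ((q : ℤ) - 1)) - (u + w)) * hde
  have hcodd : Odd c := by
    have e : Odd ((q : ℤ) * c) := by
      rw [← hc]
      obtain ⟨w', hw'⟩ := hw4
      exact Int.odd_iff.2 (by
        rw [hw', show (4 * w') ^ 2 - u * (4 * w') - u ^ 2 = 2 * (8 * w' ^ 2 - 2 * u * w') - u ^ 2 by ring]
        have := Int.odd_iff.1 (hu_odd.pow (n := 2))
        omega)
    exact (Int.odd_mul.1 e).2
  set L := c * k with hL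
  have hLeq : (L + 1) * (u * w) = w ^ 2 - u ^ 2 + c := by
    rw [hL]; linear_combination -hc - c * hk
  have hce : u + w ∣ c - u ^ 2 :=
    ⟨w - 2 * u - d * c, by linear_combination -hc + c * hde⟩
  have heL : u + w ∣ L + 2 := by
    refine hue.symm.dvd_of_dvd_mul_left (hue.symm.dvd_of_dvd_mul_left ?_)
    rw [show u * (u * (L + 2)) =
      (u + w) * ((L + 1) * u - (w - u)) - (c - u ^ 2) by linear_combination -hLeq]
    exact dvd_sub (dvd_mul_right _ _) hce
  have hLodd : Odd L := hcodd.mul hkodd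
  have hL2 : L + 2 ≠ 0 := fun e => by have := Int.odd_iff.1 hLodd; omega
  have heL' : u + w ≤ |L + 2| :=
    Int.le_of_dvd (abs_pos.2 hL2) ((dvd_abs _ _).2 heL)
  have hkne : k ≠ 0 := fun e => by rw [e, mul_zero] at hk; omega
  have hqlow : |u| * |w| - 1 ≤ (q : ℤ) := by
    have e : |u| * |w| * |k| = (q : ℤ) + 1 := by
      rw [← abs_mul, ← abs_mul, ← hk]; exact abs_of_pos (by omega)
    nlinarith [Int.one_le_abs hkne, mul_nonneg (abs_nonneg u) (abs_nonneg w)]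
  have he1 : u + w = 1 ∨ 3 ≤ u + w := by have := Int.odd_iff.1 hpd'.2; omega
  rcases he1 with he1 | he3
  · -- `e = 1`
    have hwu : w = 1 - u := by linarith
    subst hwu
    have hc' : u ^ 2 - 3 * u + 1 = (q : ℤ) * c := by rw [← hc]; ring
    have hu2 := Int.odd_iff.1 hu_odd
    have hu3 : u ≤ -3 ∨ 5 ≤ u := by omega
    have hq1 : u * (u - 1) - 1 ≤ (q : ℤ) := by
      rw [show |u| * |1 - u| = u * (u - 1) by
        rw [← abs_mul, show u * (1 - u) = -(u * (u - 1)) by ring, abs_neg]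
        exact abs_of_nonneg (by rcases hu3 with h | h <;> nlinarith)] at hqlow
      exact hqlow
    have hu9 : 9 ≤ u ^ 2 := by rcases hu3 with h | h <;> nlinarith
    rcases hu3 with hneg | hpos
    · have hpos' : 0 < u ^ 2 - 3 * u + 1 := by nlinarith
      have hc1 : 0 < c := by
        by_contra hh
        nlinarith [mul_nonneg_of_nonpos_of_nonpos (not_lt.1 hh) (show -(q : ℤ) ≤ 0 by omega)]
      have hc3 : c = 1 := by
        by_contra hh
        have := Int.odd_iff.1 hcodd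
        nlinarith [mul_le_mul (show 3 ≤ c by omega) hq1 (by nlinarith) hc1.le]
      rw [hc3, mul_one] at hc'
      have hdu : u ∣ 2 := ⟨(1 - u) * k - (u - 3), by linear_combination hk + hc'⟩
      have := Int.le_of_dvd two_pos ((abs_dvd _ _).2 hdu)
      rw [abs_of_neg (by omega : u < 0)] at this
      omega
    · have hpos' : 0 < u ^ 2 - 3 * u + 1 := by nlinarith
      have hc1 : 1 ≤ c := by
        by_contra hh
        nlinarith [mul_nonneg_of_nonpos_of_nonpos (show c ≤ 0 by omega) (show -(q : ℤ) ≤ 0 by omega)]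
      nlinarith [mul_le_mul_of_nonneg_left hc1 (show (0 : ℤ) ≤ q by omega)]
  · have hCq : |c| * (q : ℤ) ≤ (u + w) * (|u| + |w|) + |u| * |w| := by
      have e : |c| * (q : ℤ) = |(u + w) * (w - u) - u * w| := by
        rw [show (u + w) * (w - u) - u * w = c * (q : ℤ) by linear_combination hc, abs_mul, Nat.abs_cast]
      rw [e]
      refine (abs_sub _ _).trans (add_le_add ?_ (abs_mul u w).le)
      rw [abs_mul, abs_of_pos hepos]
      exact mul_le_mul_of_nonneg_left ((abs_sub _ _).trans (add_comm _ _).le) hepos.le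
    by_cases hU : |u| = 1
    · -- `u = ± 1`
      have huu : u ^ 2 = 1 := by rw [← sq_abs, hU, one_pow]
      have hw4' : 4 ≤ w := by have := abs_le.1 hU.le; omega
      have hwc : w ∣ c - 1 := ⟨c * k * u - w + u, by linear_combination hc + c * hk + huu⟩
      have hec : u + w ∣ c - 1 := huu ▸ hce
      have hwec : w * (u + w) ∣ c - 1 := hwe.mul_dvd hwc hec
      rw [hU, one_mul, abs_of_pos (by omega : 0 < w)] at hCq hqlow
      have hc1 : c = 1 := by
        by_contra hh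
        have e1 := Int.le_of_dvd (abs_pos.2 (sub_ne_zero.2 hh)) ((dvd_abs _ _).2 hwec)
        have e2 : |c - 1| ≤ |c| + 1 := by simpa using abs_sub c 1
        have e4 : u + w ≤ w + 1 := by have := abs_le.1 hU.le; omega
        have e5 : |c| * (w - 1) ≤ (w + 1) * (w + 1) + w :=
          le_trans (le_trans (mul_le_mul_of_nonneg_left hqlow (abs_nonneg c)) hCq)
            (by nlinarith)
        nlinarith [mul_le_mul_of_nonneg_left he3 (show 0 ≤ w by omega)]
      subst hc1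
      rw [mul_one] at hc
      have hdw : d = w - 2 * u := by
        refine mul_right_cancel₀ hepos.ne' ?_
        linear_combination hde - hc + huu
      have hxw : x = (w - u) ^ 2 := by
        linear_combination hw + w * hdw - huu
      have hJw : (J : ℤ) = (u + w) * x ^ 2 * ((u + w) * x + w) := by
        refine mul_left_cancel₀ (mul_ne_zero (pow_ne_zero 2 hdpos.ne') (pow_ne_zero 2 hw0)) ?_
        have hq1 : (q : ℤ) + 1 = w * (w - u) := by linear_combination -hc - huu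
        have hqx : (q : ℤ) * x - 1 = d * ((u + w) * x + w) := by linear_combination -x * hde + hw
        rw [hw, hq1, ← hde, hqx] at heq
        linear_combination heq - d ^ 2 * w ^ 2 * (u + w) * x * ((u + w) * x + w) * hxw
      have hkey : ((2 : ℤ) ^ (a + 2)) ∣ 2 * u * w := by
        have e1 : ((2 : ℤ) ^ (a + 2)) ∣ w ^ 2 := by
          rw [hw₀, mul_pow, ← pow_mul]
          exact dvd_mul_of_dvd_left (pow_dvd_pow _ (by omega)) _
        have e2 : ((2 : ℤ) ^ (a + 2)) ∣ (J : ℤ) - (((q : ℤ) * (q + 1)) ^ 2 - (q : ℤ) * (q + 1) + 1) := by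
          exact_mod_cast hcount
        have e3 : w ^ 2 ∣ (J : ℤ) - (((q : ℤ) * (q + 1)) ^ 2 - (q : ℤ) * (q + 1) + 1) + 2 * u * w := by
          refine ⟨w * (4 * u - 3 * w - u * w ^ 2 + w ^ 3), ?_⟩
          rw [hJw, hxw, ← hc]
          rcases (abs_eq zero_le_one).1 hU with rfl | rfl <;> ring
        simpa using dvd_sub (e1.trans e3) e2
      obtain ⟨v, hv⟩ := hkey
      have e4 : u * w₀ = 2 * v := by
        refine mul_left_cancel₀ (pow_ne_zero (a + 1) (two_ne_zero (α := ℤ))) ?_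
        rw [hw₀] at hv
        linear_combination hv
      have := Int.odd_iff.1 (hu_odd.mul hwodd)
      omega
    · -- the general case
      have hu2 := Int.odd_iff.1 hu_odd
      have hU3 : 3 ≤ |u| := by
        rcases abs_cases u with ⟨e, _⟩ | ⟨e, _⟩ <;> omega
      have hW4 : 4 ≤ |w| := by rcases abs_cases w with ⟨e, _⟩ | ⟨e, _⟩ <;> omega
      have hT : |L + 1| * (|u| * |w|) ≤ (u + w) * (|u| + |w|) + |c| := by
        rw [← abs_mul u w, ← abs_mul, hLeq, show w ^ 2 - u ^ 2 = (u + w) * (w - u) by ring]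
        refine (abs_add_le _ _).trans (add_le_add ?_ le_rfl)
        rw [abs_mul, abs_of_pos hepos]
        exact mul_le_mul_of_nonneg_left ((abs_sub _ _).trans (add_comm _ _).le) hepos.le
      have hL1 : u + w - 1 ≤ |L + 1| := by
        have := abs_sub (L + 2) 1
        rw [show L + 2 - 1 = L + 1 by ring] at this
        rcases abs_cases (L + 2) with ⟨e, _⟩ | ⟨e, _⟩ <;> rcases abs_cases (L + 1) with ⟨e', _⟩ | ⟨e', _⟩ <;> omega
      refine general_case_false he3 hU3 hW4 ?_ ((mul_le_mul_of_nonneg_right hL1 (by positivity)).trans hT)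
        ((mul_le_mul_of_nonneg_left hqlow (abs_nonneg c)).trans hCq)
      obtain ⟨w', hw'⟩ := hw4
      rcases abs_cases u with ⟨e, _⟩ | ⟨e, _⟩ <;> rcases abs_cases w with ⟨e', _⟩ | ⟨e', _⟩ <;> omega

/-- The index for `X = q ^ 2 + q - 1`. -/
theorem index_of_eq (hX : X = (q : ℤ) ^ 2 + q - 1) :
    (J : ℤ) = (q : ℤ) * (((q : ℤ) ^ 2 + q - 1) * ((q : ℤ) + 2)) := by
  refine mul_right_cancel₀ (pow_ne_zero 2 h.sq_ne) ?_
  have e := h.index_eq
  rw [hX] at e
  linear_combination e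

/-- Sylow `p`-subgroups of order `q ^ 2`, `p` prime to `X`. -/
theorem eq_of_coprime (hpX : ¬ (p : ℤ) ∣ X) : X = (q : ℤ) ^ 2 + q - 1 := by
  haveI := Fact.mk Nat.prime_two
  have h7 : (7 : ℤ) ≤ (q : ℤ) := by exact_mod_cast h.seven
  have hpf : ¬ (p : ℤ) ∣ X - q := fun e => hpX (by simpa using dvd_add e h.p_dvd_q)
  have hpd : ¬ (p : ℤ) ∣ (q : ℤ) ^ 2 - X := fun e => hpX (by
    simpa using dvd_sub (h.p_dvd_q.trans (dvd_pow_self (q : ℤ) two_ne_zero)) e)
  have hfd := h.sub_part_dvd dvd_rfl hpf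
  have hdd := h.second_part_dvd dvd_rfl hpd
  set g : ℤ := (Int.gcd ((q : ℤ) ^ 2 - X) (X - q) : ℤ) with hg
  obtain ⟨A, hA⟩ : g ∣ (q : ℤ) ^ 2 - X := Int.gcd_dvd_left ..
  obtain ⟨B, hB⟩ : g ∣ X - q := Int.gcd_dvd_right ..
  have hg0 : g ≠ 0 := fun e => h.sub_ne_zero' (by rw [hB, e, zero_mul])
  obtain ⟨α, β, hαβ⟩ : ∃ α β : ℤ, α * A + β * B = 1 := by
    have e := Int.gcd_eq_gcd_ab ((q : ℤ) ^ 2 - X) (X - q)
    rw [← hg] at e
    generalize Int.gcdA ((q : ℤ) ^ 2 - X) (X - q) = α at e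
    generalize Int.gcdB ((q : ℤ) ^ 2 - X) (X - q) = β at e
    refine ⟨α, β, ?_⟩
    refine mul_left_cancel₀ hg0 ?_
    rw [hA, hB] at e
    linear_combination -e
  have hsum : g * (A + B) = (q : ℤ) * ((q : ℤ) - 1) := by linear_combination -hA - hB
  obtain ⟨e₁, he₁⟩ : g ∣ (q : ℤ) - 1 := by
    refine (h.coprime_q fun e => hpf (hB ▸ dvd_mul_of_dvd_left e _)).dvd_of_dvd_mul_left ?_
    exact ⟨A + B, hsum.symm⟩
  have hAB : A + B = (q : ℤ) * e₁ := by
    refine mul_left_cancel₀ hg0 ?_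
    rw [hsum, he₁]; ring
  have hgpos : 0 < g := lt_of_le_of_ne (by rw [hg]; positivity) (Ne.symm hg0)
  have he1 : 1 ≤ e₁ := by
    by_contra hc
    nlinarith [mul_nonpos_of_nonneg_of_nonpos hgpos.le (show e₁ ≤ 0 by omega)]
  have hAe : IsCoprime A e₁ := by
    have hq : IsCoprime A ((q : ℤ) * e₁) := ⟨α - β, β, by linear_combination hαβ - β * hAB⟩
    exact hq.of_mul_right_right
  have hBe : IsCoprime B e₁ := by
    have hq : IsCoprime B ((q : ℤ) * e₁) := ⟨β - α, α, by linear_combination hαβ - α * hAB⟩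
    exact hq.of_mul_right_right
  have hsq : (q : ℤ) ^ 2 - 1 = g * (e₁ * ((q : ℤ) + 1)) := by
    rw [← mul_assoc, ← he₁]; ring
  have hA1 : A ∣ (q : ℤ) + 1 := hAe.dvd_of_dvd_mul_left ((mul_dvd_mul_iff_left hg0).1 (by rw [← hA, ← hsq]; exact hdd))
  have hB1 : B ∣ (q : ℤ) + 1 := hBe.dvd_of_dvd_mul_left ((mul_dvd_mul_iff_left hg0).1 (by rw [← hB, ← hsq]; exact hfd))
  have hAB1 : A * B ∣ (q : ℤ) + 1 := IsCoprime.mul_dvd ⟨α, β, hαβ⟩ hA1 hB1
  have hA0 : A ≠ 0 := fun e => hpd (by rw [hA, e, mul_zero]; exact dvd_zero _)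
  have hB0 : B ≠ 0 := fun e => hpf (by rw [hB, e, mul_zero]; exact dvd_zero _)
  have hle := Int.le_of_dvd (show (0 : ℤ) < (q : ℤ) + 1 by omega) ((abs_dvd _ _).2 hAB1)
  rw [abs_mul] at hle
  have hsum' : (q : ℤ) * e₁ ≤ |A| + |B| := hAB ▸ (le_abs_self _).trans (abs_add_le A B)
  have hone : |A| = 1 ∨ |B| = 1 := by
    by_contra hc
    push Not at hc
    have h1 := Int.one_le_abs hA0
    have h2 := Int.one_le_abs hB0
    nlinarith [mul_nonneg (show 0 ≤ |A| - 2 by omega) (show 0 ≤ |B| - 2 by omega),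
      mul_le_mul_of_nonneg_left he1 (show (0 : ℤ) ≤ q by omega)]
  have he : e₁ = 1 := by
    by_contra hc
    have := mul_le_mul_of_nonneg_left (show 2 ≤ e₁ by omega) (show (0 : ℤ) ≤ q by omega)
    rcases hone with e | e <;> rw [e] at hle hsum' <;> omega
  subst he
  rw [mul_one] at he₁ hAB
  rcases hone with e | e
  · rcases (abs_eq zero_le_one).1 e with rfl | rfl
    · exfalso
      have hd : (q : ℤ) - 1 ∣ 2 := by
        have e1 : (q : ℤ) - 1 ∣ (q : ℤ) + 1 := by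
          have : B = (q : ℤ) - 1 := by linarith
          exact this ▸ hB1
        simpa [show (q : ℤ) + 1 - ((q : ℤ) - 1) = 2 by ring] using dvd_sub e1 (dvd_refl ((q : ℤ) - 1))
      have := Int.le_of_dvd two_pos hd
      omega
    · have : B = (q : ℤ) + 1 := by linarith
      rw [this, ← he₁] at hB
      linear_combination hB
  · exfalso
    have h1 := h.two
    rw [hB, ← he₁, h.two_sq.1] at h1
    have hval : padicValInt 2 (((q : ℤ) - 1) * B) = 1 := by
      obtain ⟨v, hv, hv2⟩ : ∃ v : ℕ, q - 1 = 2 * v ∧ ¬ 2 ∣ v :=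
        ⟨(q - 1) / 2, by have := h.mod4; omega, by have := h.mod4; omega⟩
      rw [padicValInt, Int.natAbs_mul, show B.natAbs = 1 by
          rcases (abs_eq zero_le_one).1 e with rfl | rfl <;> rfl, mul_one,
        show ((q : ℤ) - 1).natAbs = q - 1 by omega, hv, padicValNat.mul two_ne_zero (by omega),
        padicValNat.self one_lt_two, padicValNat.eq_zero_of_not_dvd hv2]
    have := h.two_sq.2
    omega

/-- Sylow `p`-subgroups of order `q ^ 2`, `q ^ 2 ∣ X`. -/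
theorem not_sq_dvd {x : ℤ} (hx : X = (q : ℤ) ^ 2 * x) (hpx : ¬ (p : ℤ) ∣ x) : False := by
  haveI := Fact.mk Nat.prime_two
  have h7 : (7 : ℤ) ≤ (q : ℤ) := by exact_mod_cast h.seven
  have hx1 : x ≠ 1 := fun e => by
    have h1 := h.second
    rw [hx, e, mul_one, sub_self, zero_dvd_iff] at h1
    exact h.xx_ne (by rw [hx, e, mul_one]; exact h1)
  have hfd : (q : ℤ) * x - 1 ∣ (q : ℤ) ^ 2 - 1 := h.sub_part_dvd ⟨q, by rw [hx]; ring⟩ fun e =>
    h.p_not_dvd_one (by simpa using dvd_sub (dvd_mul_of_dvd_left h.p_dvd_q x) e)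
  have hf2 : (q : ℤ) * x - 1 ∣ x ^ 2 - 1 := by
    rw [show x ^ 2 - 1 = ((q : ℤ) * x - 1) * ((q : ℤ) * x + 1) - x ^ 2 * ((q : ℤ) ^ 2 - 1) by ring]
    exact dvd_sub (dvd_mul_right _ _) (dvd_mul_of_dvd_right hfd _)
  rcases eq_or_ne x (-1) with rfl | hxn
  · have h1 := h.two
    rw [hx, h.two_sq.1, show (q : ℤ) ^ 2 * -1 - q = (q : ℤ) * (-((q : ℤ) + 1)) by ring,
      padicValInt.mul h.q_ne (by omega),
      padicValInt.eq_zero_of_not_dvd (show ¬ ((2 : ℕ) : ℤ) ∣ (q : ℤ) by have := h.mod4; omega),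
      padicValInt, Int.natAbs_neg, show ((q : ℤ) + 1).natAbs = q + 1 by omega] at h1
    omega
  have hx0 : x ≠ 0 := fun e => hpx (e ▸ dvd_zero _)
  have hxsq : 0 < x ^ 2 - 1 := by
    have : 2 ≤ |x| := by rcases abs_cases x with ⟨e, _⟩ | ⟨e, _⟩ <;> omega
    nlinarith [sq_abs x]
  have hlo := Int.le_of_dvd hxsq ((abs_dvd _ _).2 hf2)
  have hhi := Int.le_of_dvd (by nlinarith : (0 : ℤ) < (q : ℤ) ^ 2 - 1) ((abs_dvd _ _).2 hfd)
  have hlow : (q : ℤ) * |x| - 1 ≤ |(q : ℤ) * x - 1| := by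
    have := abs_sub_abs_le_abs_sub ((q : ℤ) * x) 1
    rwa [abs_mul, Nat.abs_cast, abs_one] at this
  have h1 : (q : ℤ) ≤ |x| := by
    by_contra hc
    nlinarith [sq_abs x, mul_lt_mul_of_pos_right (not_le.1 hc) (abs_pos.2 hx0)]
  have h2 : |x| ≤ (q : ℤ) := by
    by_contra hc
    nlinarith [mul_lt_mul_of_pos_left (not_le.1 hc) (show (0 : ℤ) < q by omega)]
  exact hpx ((dvd_abs _ _).1 (le_antisymm h1 h2 ▸ h.p_dvd_q))

/-- Sylow `p`-subgroups of order `q ^ 2`. -/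
theorem half_eq (hJ : J.factorization p = n) : X = (q : ℤ) ^ 2 + q - 1 := by
  haveI := Fact.mk h.prime
  have key := h.vp_p
  rw [hJ] at key
  have hn := h.one_le
  by_cases hX : (p : ℤ) ∣ X
  swap
  · exact h.eq_of_coprime hX
  exfalso
  have hX1 : padicValInt p (X - 1) = 0 := padicValInt.eq_zero_of_not_dvd fun e =>
    h.p_not_dvd_one (by simpa using dvd_sub hX e)
  rw [hX1, add_zero] at key
  have hm0 : 1 ≤ padicValInt p X := ((padicValInt_dvd_iff 1 X).1 (by rwa [pow_one])).resolve_left h.ne_zero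
  have hqn : (q : ℤ) = (p : ℤ) ^ n := by rw [h.card]; push_cast; rfl
  set m := padicValInt p X with hm
  have hm2 : m = 2 * n := by
    rcases lt_trichotomy m n with hlt | e | hgt
    · exfalso
      have h1 : (p : ℤ) ^ m ∣ X - q :=
        dvd_sub ((padicValInt_dvd_iff _ _).2 (Or.inr (le_of_eq hm))) (hqn ▸ pow_dvd_pow _ hlt.le)
      have := ((padicValInt_dvd_iff _ _).1 h1).resolve_left h.sub_ne_zero'
      omega
    · exfalso
      have h1 : (p : ℤ) ^ n ∣ X - q :=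
        dvd_sub ((padicValInt_dvd_iff _ _).2 (Or.inr (by omega))) (hqn ▸ dvd_rfl)
      have := ((padicValInt_dvd_iff _ _).1 h1).resolve_left h.sub_ne_zero'
      omega
    · have h1 : (p : ℤ) ^ n ∣ X - q :=
        dvd_sub ((padicValInt_dvd_iff _ _).2 (Or.inr (by omega))) (hqn ▸ dvd_rfl)
      have h2 := ((padicValInt_dvd_iff _ _).1 h1).resolve_left h.sub_ne_zero'
      have h3 : ¬ (p : ℤ) ^ (n + 1) ∣ X - q := fun e => by
        have h4 : (p : ℤ) ^ (n + 1) ∣ X := (padicValInt_dvd_iff _ _).2 (Or.inr (by omega))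
        refine not_pow_succ_dvd (r := p) h.q_ne ?_
        rw [padicValInt.of_nat, h.card, padicValNat.prime_pow, ← h.card]
        simpa using dvd_sub h4 e
      have h5 : padicValInt p (X - q) ≤ n := by
        by_contra hc
        exact h3 ((padicValInt_dvd_iff _ _).2 (Or.inr (by omega)))
      omega
  obtain ⟨x, hx⟩ : (q : ℤ) ^ 2 ∣ X := by
    rw [hqn, ← pow_mul, mul_comm, ← hm2, hm]; exact padicValInt_dvd X
  refine h.not_sq_dvd hx fun e => not_pow_succ_dvd (r := p) h.ne_zero ?_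
  rw [← hm, hm2, hx, pow_succ, mul_comm 2 n, pow_mul, ← hqn]
  exact mul_dvd_mul_left _ e

/-- Sylow `p`-subgroups of order `q ^ 2` fail the Sylow congruence. -/
theorem half_false (hJ : J.factorization p = n) {np : ℕ} (hnp : 2 * (np * q) = (q + 1) * J)
    (hmod : np % p = 1) : False := by
  have e1 : (2 : ℤ) * ((np : ℤ) * q) = ((q : ℤ) + 1) * J := by exact_mod_cast hnp
  rw [h.index_of_eq (h.half_eq hJ)] at e1
  have e2 : (2 : ℤ) * np = ((q : ℤ) + 1) * (((q : ℤ) ^ 2 + q - 1) * ((q : ℤ) + 2)) := by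
    refine mul_right_cancel₀ h.q_ne ?_
    linear_combination e1
  obtain ⟨j, hj⟩ : ∃ j : ℤ, (np : ℤ) = (p : ℤ) * j + 1 := ⟨((np / p : ℕ) : ℤ), by
    have := Nat.div_add_mod np p
    rw [hmod] at this
    exact_mod_cast this.symm⟩
  obtain ⟨i, hi⟩ := h.p_dvd_q
  have h4 : (p : ℤ) ∣ 4 := by
    refine ⟨i * ((q : ℤ) ^ 3 + 4 * (q : ℤ) ^ 2 + 4 * q - 1) - 2 * j, ?_⟩
    rw [hj] at e2
    linear_combination e2 + ((q : ℤ) ^ 3 + 4 * (q : ℤ) ^ 2 + 4 * q - 1) * hi
  have h5 : p ∣ 2 ^ 2 := by exact_mod_cast h4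
  exact h.p_ne_two ((Nat.prime_dvd_prime_iff_eq h.prime Nat.prime_two).1 (h.prime.dvd_of_dvd_pow h5))

end Eqs

end Cfsg.Agent.LThreeRec
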