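import Cfsg.Agent.Lib.LThreeRec.Matrix
import Cfsg.Agent.Lib.Transfer.WreathedOrSemidihedral
import Cfsg.Agent.Lib.Involution.StronglyEmbedded
import Cfsg.Agent.Lib.Involution.KleinFour
import Cfsg.Agent.S1217

/-!
# Characterising `PSL(3, q)` by an involution centralizer: the set-up

* `Hyp`: `π : GL(2, q) → G` has central kernel of odd order and image a normal subgroup of odd index
  of the centralizer of `t = π(-1)`, on which `C(t)` acts semilinearly;
  `Hyp.Exact`: the image is the whole centralizer.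
* `commute_iff`, `mem_T_iff`: `C(t) ∩ C(s) = T`, the image of the diagonal, in the exact case;
  `mem_of_two`, `mem_of_inverted`: elements of `C(t)` in the image in general.
* `isConj_t`: one class of involutions; `exists_sigma`: a rotation of `t, s, ts`.

-/

set_option autoImplicit false

namespace Cfsg.Agent.LThreeRec

open Matrix Subgroup

universe u

variable {F : Type*} [Field F]

/-- The element `-1`. -/
noncomputable abbrev gt : GL (Fin 2) F := dg (-1, -1)

/-- The element `diag(1, -1)`. -/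
noncomputable abbrev gs : GL (Fin 2) F := dg (1, -1)

theorem center_scalar {k : GL (Fin 2) F} (hk : k ∈ center (GL (Fin 2) F)) :
    k 0 1 = 0 ∧ k 1 0 = 0 ∧ k 0 0 = k 1 1 := by
  have h1 := mem_center_iff.1 hk (u (1 : F))
  have h2 := mem_center_iff.1 hk (v (1 : F))
  have e00 := congrArg (fun g : GL (Fin 2) F => g 0 0) h1
  have e01 := congrArg (fun g : GL (Fin 2) F => g 0 1) h1
  have f11 := congrArg (fun g : GL (Fin 2) F => g 1 1) h2
  simp at e00 e01 f11
  exact ⟨f11, e00, by linear_combination -e01⟩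

theorem gt_central : (gt : GL (Fin 2) F) ∈ center (GL (Fin 2) F) :=
  mem_center_iff.2 fun g => ext2 (by simp) (by simp) (by simp) (by simp)

theorem gt_sq : (gt : GL (Fin 2) F) * gt = 1 := by rw [gt, ← map_mul]; simp [← Prod.one_eq_mk]

theorem gs_sq : (gs : GL (Fin 2) F) * gs = 1 := by rw [gs, ← map_mul]; simp [← Prod.one_eq_mk]

/-- The hypothesis. -/
structure Hyp (F : Type*) [Field F] (G : Type*) [Group G] where
  /-- the map onto the centralizer -/
  π : GL (Fin 2) F →* G
  ker_le : π.ker ≤ center (GL (Fin 2) F)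
  ker_odd : Odd (Nat.card π.ker)
  range_le : π.range ≤ centralizer {π gt}
  odd_index : Odd (π.range.relIndex (centralizer {π gt}))
  /-- `C(t)` acts semilinearly on the image, and only the image acts linearly. -/
  field : ∀ x ∈ centralizer {π gt}, ∃ (g : GL (Fin 2) F) (e : F ≃+* F),
    (∀ h, x * π h * x⁻¹ = π (g * GeneralLinearGroup.map e.toRingHom h * g⁻¹)) ∧
      ((∀ a, e a = a) → x ∈ π.range)
  two_ne : (2 : F) ≠ 0

namespace Hyp

variable {G : Type u} [Group G] (H : Hyp F G)

/-- The central involution. -/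
noncomputable def t : G := H.π gt

/-- The involution `diag(1,-1)`. -/
noncomputable def s : G := H.π gs

/-- The image of the diagonal. -/
noncomputable def T : Subgroup G := (dg (F := F)).range.map H.π

/-- The upper root group. -/
noncomputable def Xp : Subgroup G := (up (F := F)).range.map H.π

/-- The lower root group. -/
noncomputable def Xm : Subgroup G := (lo (F := F)).range.map H.π

include H

theorem π_mem_cent (g : GL (Fin 2) F) : H.π g ∈ centralizer {H.t} := H.range_le ⟨g, rfl⟩

theorem π_t_comm (g : GL (Fin 2) F) : H.π g * H.t = H.t * H.π g :=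
  mem_centralizer_singleton_iff.1 (H.π_mem_cent g)

omit H in
/-- The image of `π` is the whole centralizer. -/
class Exact (H : Hyp F G) : Prop where
  range_eq : H.π.range = centralizer {H.t}

theorem range_eq [H.Exact] : H.π.range = centralizer {H.π gt} := Exact.range_eq

theorem range_t [H.Exact] : H.π.range = centralizer {H.t} := Exact.range_eq

theorem exists_of_mem_cent [H.Exact] {x : G} (hx : x ∈ centralizer {H.t}) : ∃ g, H.π g = x := by
  rwa [← H.range_t] at hx

/-- `C(t)` normalizes the image. -/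
theorem conj_range {x y : G} (hx : x ∈ centralizer {H.t}) (hy : y ∈ H.π.range) :
    x * y * x⁻¹ ∈ H.π.range := by
  obtain ⟨g, e, hg, -⟩ := H.field x hx
  obtain ⟨h, rfl⟩ := hy
  exact ⟨_, (hg h).symm⟩

/-- Elements of `2`-power order of `C(t)` lie in the image. -/
theorem mem_of_two {x : G} (hx : x ∈ centralizer {H.t}) {k : ℕ} (hk : x ^ 2 ^ k = 1) : x ∈ H.π.range := by
  set C := centralizer ({H.t} : Set G)
  haveI : (H.π.range.subgroupOf C).Normal :=
    ⟨fun a ha c => mem_subgroupOf.2 (H.conj_range c.2 (mem_subgroupOf.1 ha))⟩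
  have h := mem_subgroupOf.1 ((H.π.range.subgroupOf C).pow_index_mem ⟨x, hx⟩)
  have hodd : Odd (H.π.range.subgroupOf C).index := H.odd_index
  obtain ⟨j, hj⟩ := exists_pow_eq_self_of_coprime (x := x) (n := (H.π.range.subgroupOf C).index)
    (Nat.Coprime.coprime_dvd_right (orderOf_dvd_of_pow_eq_one hk) ((Nat.coprime_two_right.2 hodd).pow_right k))
  rw [← hj]
  exact pow_mem h j

theorem mem_of_invol {x : G} (hx : x ∈ centralizer {H.t}) (h2 : orderOf x = 2) : x ∈ H.π.range :=
  H.mem_of_two hx (k := 1) (by rw [pow_one, ← h2, pow_orderOf_eq_one])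

/-- An element of odd order inverted by an element of the image lies in the image. -/
theorem mem_of_inverted {a y : G} (ha : a ∈ H.π.range) (hy : y ∈ centralizer {H.t})
    (hinv : a * y * a⁻¹ = y⁻¹) (hodd : Odd (orderOf y)) : y ∈ H.π.range := by
  have h2 : y * y ∈ H.π.range := by
    have h := mul_mem (H.conj_range hy ha) (inv_mem ha)
    rwa [show y * a * y⁻¹ * a⁻¹ = y * (a * y * a⁻¹)⁻¹ by group, hinv, inv_inv] at h
  obtain ⟨m, hm⟩ := hodd
  have e : y = (y * y) ^ (m + 1) := by
    rw [← sq, ← pow_mul, show 2 * (m + 1) = orderOf y + 1 by omega, pow_succ, pow_orderOf_eq_one, one_mul]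
  rw [e]
  exact pow_mem h2 _

/-- A kernel element of square one is trivial. -/
theorem eq_one_of_sq {k : GL (Fin 2) F} (hk : H.π k = 1) (h2 : k * k = 1) : k = 1 := by
  have h1 : orderOf (⟨k, hk⟩ : H.π.ker) ∣ 2 := orderOf_dvd_of_pow_eq_one (Subtype.ext (by simp [pow_two, h2]))
  rcases (Nat.dvd_prime Nat.prime_two).1 h1 with h | h
  · exact congrArg Subtype.val (orderOf_eq_one_iff.1 h)
  · exfalso
    obtain ⟨m, hm⟩ := H.ker_odd
    have := orderOf_dvd_natCard (⟨k, hk⟩ : H.π.ker)
    rw [h, hm] at this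
    omega

/-- `π g` and `π h` commute only if `g` and `h` do. -/
theorem commute_iff {g h : GL (Fin 2) F} : H.π g * H.π h = H.π h * H.π g ↔ g * h = h * g := by
  refine ⟨fun e => ?_, fun e => by rw [← map_mul, e, map_mul]⟩
  set k := g * h * g⁻¹ * h⁻¹ with hk
  have hπ : H.π k = 1 := by rw [hk, map_mul, map_mul, map_mul, e, map_inv, map_inv]; group
  obtain ⟨a, b, c⟩ := center_scalar (H.ker_le hπ)
  have hdet : (k : Matrix (Fin 2) (Fin 2) F).det = 1 := by
    rw [hk, GeneralLinearGroup.coe_mul, GeneralLinearGroup.coe_mul, GeneralLinearGroup.coe_mul, det_mul, det_mul,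
      det_mul, GeneralLinearGroup.coe_inv, GeneralLinearGroup.coe_inv, det_nonsing_inv, det_nonsing_inv]
    simp only [Ring.inverse_eq_inv']
    field_simp [GeneralLinearGroup.det_ne_zero]
  rw [det_fin_two, a, b, c, mul_zero, sub_zero] at hdet
  have h1 : k = 1 := H.eq_one_of_sq hπ (ext2 (by simp [a, c, hdet]) (by simp [a, b]) (by simp [a, b]) (by simp [b, hdet]))
  calc g * h = k * (h * g) := by rw [hk]; group
    _ = h * g := by rw [h1, one_mul]

theorem π_u_injective {c : F} (h : H.π (u c) = 1) : c = 0 := by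
  simpa using (center_scalar (H.ker_le h)).1

theorem π_v_injective {c : F} (h : H.π (v c) = 1) : c = 0 := by
  simpa using (center_scalar (H.ker_le h)).2.1

theorem one_ne_neg_one : (1 : Fˣ) ≠ -1 := fun e => H.two_ne (by
  have := congrArg Units.val e
  simp at this
  linear_combination this)

theorem orderOf_π {g : GL (Fin 2) F} (h2 : g * g = 1) (h1 : g ≠ 1) : orderOf (H.π g) = 2 :=
  Involution.orderOf_of_sq (by rw [← map_mul, h2, map_one]) fun e => h1 (H.eq_one_of_sq e h2)

theorem t_order : orderOf H.t = 2 := H.orderOf_π gt_sq fun e =>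
  H.one_ne_neg_one (congrArg Prod.fst (dg_injective (e.trans (map_one _).symm))).symm

theorem s_order : orderOf H.s = 2 := H.orderOf_π gs_sq fun e =>
  H.one_ne_neg_one (congrArg Prod.snd (dg_injective (e.trans (map_one _).symm))).symm

theorem s_ne_t : H.s ≠ H.t := fun e => by
  have h := (H.commute_iff (g := gs) (h := u 1)).1 (by
    rw [show H.π gs = H.t from e]
    exact (H.π_t_comm _).symm)
  have := congrArg (fun g : GL (Fin 2) F => g 0 1) h
  simp at this
  exact H.two_ne (by linear_combination this)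

theorem s_mem : H.s ∈ centralizer {H.t} := H.π_mem_cent _

theorem st_comm : H.s * H.t = H.t * H.s := H.π_t_comm _

theorem ts_order : orderOf (H.t * H.s) = 2 := by
  refine Involution.orderOf_of_sq ?_ fun e => H.s_ne_t ?_
  · rw [mul_assoc, ← mul_assoc H.s, H.st_comm, mul_assoc, Involution.mul_self H.s_order, mul_one,
      Involution.mul_self H.t_order]
  · rw [← mul_one H.t, ← e, ← mul_assoc, Involution.mul_self H.t_order, one_mul]

theorem conj_w : H.π ww * H.s * (H.π ww)⁻¹ = H.t * H.s := by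
  rw [mul_inv_eq_iff_eq_mul, s, t, ← map_mul, ← map_mul, ← map_mul]
  congr 1
  exact ext2 (by simp) (by simp) (by simp) (by simp)

/-- `C(t) ∩ C(s)` is the image of the diagonal. -/
theorem T_cent {x : G} (hx : x ∈ H.T) : x ∈ centralizer {H.t} ∧ x * H.s = H.s * x := by
  obtain ⟨_, ⟨a, rfl⟩, rfl⟩ := hx
  refine ⟨H.π_mem_cent _, ?_⟩
  rw [s, ← map_mul, ← map_mul, gs, ← map_mul, ← map_mul, mul_comm]

theorem mem_T_of {x : G} (hx : x ∈ H.π.range) (hs : x * H.s = H.s * x) : x ∈ H.T := by
    obtain ⟨g, rfl⟩ := hx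
    have e := H.commute_iff.1 hs
    have e01 := congrArg (fun k : GL (Fin 2) F => k 0 1) e
    have e10 := congrArg (fun k : GL (Fin 2) F => k 1 0) e
    simp at e01 e10
    refine ⟨g, mem_dg ?_ ?_, rfl⟩
    · exact (mul_eq_zero.1 (show (2 : F) * g 0 1 = 0 by linear_combination -e01)).resolve_left H.two_ne
    · exact (mul_eq_zero.1 (show (2 : F) * g 1 0 = 0 by linear_combination e10)).resolve_left H.two_ne

theorem mem_T_iff [H.Exact] {x : G} : x ∈ H.T ↔ x ∈ centralizer {H.t} ∧ x * H.s = H.s * x :=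
  ⟨H.T_cent, fun h => H.mem_T_of (H.range_t.symm ▸ h.1) h.2⟩

theorem T_comm {a b : G} (ha : a ∈ H.T) (hb : b ∈ H.T) : a * b = b * a := by
  obtain ⟨_, ⟨x, rfl⟩, rfl⟩ := ha
  obtain ⟨_, ⟨y, rfl⟩, rfl⟩ := hb
  rw [← map_mul, ← map_mul, ← map_mul, ← map_mul, mul_comm]

theorem T_le : H.T ≤ centralizer {H.t} := fun _ hx => (H.T_cent hx).1

theorem s_mem_T : H.s ∈ H.T := H.mem_T_of ⟨_, rfl⟩ rfl

theorem t_mem_T : H.t ∈ H.T := H.mem_T_of ⟨_, rfl⟩ H.st_comm.symm

/-- Involutions of `C(t)` other than `t` are conjugate to `s` there. -/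
theorem exists_conj_s {x : G} (hx : x ∈ centralizer {H.t}) (h2 : orderOf x = 2) (hne : x ≠ H.t) :
    ∃ c ∈ centralizer {H.t}, c * H.s * c⁻¹ = x := by
  obtain ⟨g, rfl⟩ := H.mem_of_invol hx h2
  have hk : g * g ∈ H.π.ker := by rw [MonoidHom.mem_ker, map_mul, Involution.mul_self h2]
  obtain ⟨m, hm⟩ := H.ker_odd
  set j := (g * g) ^ m with hj
  have hjc : j ∈ center (GL (Fin 2) F) := H.ker_le (pow_mem hk m)
  have hgk : (g * g) ^ (2 * m + 1) = 1 := by
    have := congrArg Subtype.val (pow_card_eq_one' (x := (⟨g * g, hk⟩ : H.π.ker)))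
    rw [hm] at this
    simpa using this
  set h := g * j with hh
  have hh2 : h * h = 1 := by
    have e1 : j * g = g * j := (mem_center_iff.1 hjc g).symm
    calc h * h = g * (j * g) * j := by rw [hh]; group
      _ = (g * g) * ((g * g) ^ m * (g * g) ^ m) := by rw [e1, hj]; group
      _ = 1 := by rw [← pow_add, ← pow_succ', ← two_mul, hgk]
  have hπ : H.π h = H.π g := by rw [hh, map_mul, pow_mem hk m, mul_one]
  have hns : ¬ GLTwoChar.IsScalar (h : Matrix (Fin 2) (Fin 2) F) := fun hs => by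
    obtain ⟨a, b, c⟩ := hs
    have e := congrArg (fun k : GL (Fin 2) F => k 0 0) hh2
    simp [a, b] at e
    rcases mul_self_eq_one_iff.1 e with e | e
    · refine Involution.ne_one h2 ?_
      rw [← hπ, ext2 (g := h) (h := (1 : GL (Fin 2) F)) (by simp [e]) (by simp [a]) (by simp [b]) (by simp [← c, e]), map_one]
    · refine hne ?_
      rw [← hπ, t, ext2 (g := h) (h := (gt : GL (Fin 2) F)) (by simp [e]) (by simp [a]) (by simp [b]) (by simp [← c, e])]
  have e00 := congrArg (fun k : GL (Fin 2) F => k 0 0) hh2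
  have e01 := congrArg (fun k : GL (Fin 2) F => k 0 1) hh2
  have e10 := congrArg (fun k : GL (Fin 2) F => k 1 0) hh2
  have e11 := congrArg (fun k : GL (Fin 2) F => k 1 1) hh2
  simp at e00 e01 e10 e11
  have htr : h 0 0 + h 1 1 = 0 := by
    by_contra htr
    have a : h 0 1 = 0 := (mul_eq_zero.1 (show h 0 1 * (h 0 0 + h 1 1) = 0 by linear_combination e01)).resolve_right htr
    have b : h 1 0 = 0 := (mul_eq_zero.1 (show h 1 0 * (h 0 0 + h 1 1) = 0 by linear_combination e10)).resolve_right htr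
    refine hns ⟨a, b, ?_⟩
    have : (h 0 0 - h 1 1) * (h 0 0 + h 1 1) = 0 := by linear_combination e00 - e11
    exact sub_eq_zero.1 ((mul_eq_zero.1 this).resolve_right htr)
  obtain ⟨c, hc⟩ := isConj_iff.1 (GLTwoChar.isConj_of_tr_det (g := (gs : GL (Fin 2) F)) (h := h)
    (fun hs => H.two_ne (by simpa [GLTwoChar.IsScalar, one_add_one_eq_two, eq_neg_iff_add_eq_zero] using hs.2.2))
    hns (by rw [htr]; simp) (by rw [det_fin_two, det_fin_two]; simp; linear_combination e00 - h 0 0 * htr))
  exact ⟨H.π c, H.π_mem_cent c, by rw [← hπ, ← hc, map_mul, map_mul, map_inv, s]⟩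

section finite

variable [Finite G] [IsSimpleGroup G]

theorem not_comm : ∃ a b : G, a * b ≠ b * a :=
  ⟨H.π (u 1), H.π gs, fun e => by
    have := congrArg (fun g : GL (Fin 2) F => g 0 1) (H.commute_iff.1 e)
    simp at this
    exact H.two_ne (by linear_combination -this)⟩

theorem index_ne_two (K : Subgroup G) : K.index ≠ 2 := fun hK => by
  haveI := normal_of_index_eq_two hK
  rcases Normal.eq_bot_or_eq_top (H := K) inferInstance with h | h
  · obtain ⟨a, b, hab⟩ := H.not_comm
    rw [h, index_bot] at hK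
    haveI : IsCyclic G := isCyclic_of_prime_card hK
    exact hab (IsCyclic.commutative.is_comm.comm a b)
  · rw [h, index_top] at hK
    omega

variable [Fintype F]

theorem card_gl_eq [H.Exact] : Nat.card (GL (Fin 2) F) = Nat.card (centralizer {H.t}) * Nat.card H.π.ker := by
  rw [← H.range_t, ← index_ker, mul_comm, card_mul_index]

/-- A Sylow `2`-subgroup inside `C(t)`, containing `U`. -/
theorem exists_sylow_le :
    ∃ R : Sylow 2 G, (R : Subgroup G) ≤ centralizer {H.t} ∧ H.t ∈ R ∧ H.s ∈ R ∧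
      (Cfsg.IsQuasiDihedral (R : Subgroup G) ∨ Cfsg.IsWreathed (R : Subgroup G)) := by
  haveI : Fact (Nat.Prime 2) := ⟨Nat.prime_two⟩
  have hne : (gs : GL (Fin 2) F) ≠ ww := fun e => by
    simpa using congrArg (fun g : GL (Fin 2) F => g 0 1) e
  have hp : IsPGroup 2 (closure ({gs, ww} : Set (GL (Fin 2) F))) :=
    Involution.isPGroup_closure_pair
      (Involution.orderOf_of_sq gs_sq fun e => Involution.ne_one H.s_order (by rw [s, e, map_one]))
      (Involution.orderOf_of_sq (ext2 (by simp) (by simp) (by simp) (by simp)) fun e => by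
        simpa using congrArg (fun g : GL (Fin 2) F => g 0 1) e) hne (a := 2)
      (ext2 (by simp [pow_succ]) (by simp [pow_succ]) (by simp [pow_succ]) (by simp [pow_succ]))
  obtain ⟨P, hP⟩ := hp.exists_le_sylow
  set R₀ : Subgroup G := (P : Subgroup (GL (Fin 2) F)).map H.π with hR₀
  have hR₀2 : IsPGroup 2 R₀ := P.isPGroup'.map _
  have hinj : Function.Injective (H.π.subgroupMap (P : Subgroup (GL (Fin 2) F))) := by
    rw [injective_iff_map_eq_one]
    intro x hx
    have hx' : H.π (x : GL (Fin 2) F) = 1 := congrArg Subtype.val hx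
    obtain ⟨k, hk⟩ := P.isPGroup' x
    obtain ⟨m, hm⟩ := H.ker_odd
    have h1 : orderOf x ∣ 2 ^ k := orderOf_dvd_of_pow_eq_one hk
    have h2 : orderOf x ∣ 2 * m + 1 := by
      rw [← hm, ← orderOf_coe]
      exact (orderOf_coe (⟨(x : GL (Fin 2) F), hx'⟩ : H.π.ker)).symm ▸ orderOf_dvd_natCard _
    rw [← orderOf_eq_one_iff]
    exact Nat.eq_one_of_dvd_coprimes (Nat.Coprime.pow_left k (by simp)) h1 h2
  let e : (P : Subgroup (GL (Fin 2) F)) ≃* R₀ :=
    MulEquiv.ofBijective (H.π.subgroupMap _) ⟨hinj, H.π.subgroupMap_surjective _⟩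
  have hsR : H.s ∈ R₀ := ⟨gs, hP (subset_closure (by simp)), rfl⟩
  have hwR : H.π ww ∈ R₀ := ⟨ww, hP (subset_closure (by simp)), rfl⟩
  have hsw : H.s * H.π ww ≠ H.π ww * H.s := fun h => by
    have := congrArg (fun g : GL (Fin 2) F => g 0 1) (H.commute_iff.1 h)
    simp at this
    exact H.two_ne (by linear_combination this)
  -- `R₀` is a Sylow subgroup of `C(t)`
  have hcard : Nat.card R₀ = 2 ^ (Nat.card (centralizer {H.t})).factorization 2 := by
    have h1 : Nat.card (GL (Fin 2) F) = Nat.card H.π.range * Nat.card H.π.ker := by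
      rw [← index_ker, mul_comm, card_mul_index]
    have h3 : Nat.card (centralizer {H.t}) = Nat.card H.π.range * H.π.range.relIndex (centralizer {H.t}) := by
      rw [← Nat.card_congr (subgroupOfEquivOfLe (show H.π.range ≤ centralizer {H.t} from H.range_le)).toEquiv]
      exact (card_mul_index _).symm
    rw [← Nat.card_congr e.toEquiv, P.card_eq_multiplicity, h1, h3, Nat.factorization_mul Nat.card_pos.ne'
      Nat.card_pos.ne', Nat.factorization_mul Nat.card_pos.ne' (show H.π.range.relIndex (centralizer {H.t}) ≠ 0 from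
        index_ne_zero_of_finite), Finsupp.add_apply,
      Finsupp.add_apply, Nat.factorization_eq_zero_of_not_dvd (n := Nat.card H.π.ker)
      (fun h => Nat.not_even_iff_odd.2 H.ker_odd (even_iff_two_dvd.2 h)), Nat.factorization_eq_zero_of_not_dvd
      (n := H.π.range.relIndex (centralizer {H.t}))
      (fun h => Nat.not_even_iff_odd.2 H.odd_index (even_iff_two_dvd.2 h))]
  have hle : R₀ ≤ centralizer {H.t} := fun _ ⟨g, _, hg⟩ => hg ▸ H.π_mem_cent g
  have hrange : R₀ ≤ H.π.range := fun _ ⟨g, _, hg⟩ => ⟨g, hg⟩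
  have htR : H.t ∈ R₀ := by
    have : H.s * (H.π ww * H.s * (H.π ww)⁻¹) = H.t := by
      rw [H.conj_w, ← mul_assoc, H.st_comm, mul_assoc, Involution.mul_self H.s_order, mul_one]
    rw [← this]
    exact mul_mem hsR (mul_mem (mul_mem hwR hsR) (inv_mem hwR))
  obtain ⟨R, hR⟩ := hR₀2.exists_le_sylow
  have heq : (R : Subgroup G) ⊓ centralizer {H.t} = R₀ := by
    refine (eq_of_le_of_card_ge (le_inf hR hle) ?_).symm
    obtain ⟨k, hk⟩ := IsPGroup.iff_card.1 (R.isPGroup'.to_le inf_le_left : IsPGroup 2 ↥((R : Subgroup G) ⊓ centralizer {H.t}))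
    rw [hcard, hk]
    refine Nat.pow_le_pow_right two_pos ((Nat.Prime.pow_dvd_iff_le_factorization Nat.prime_two Nat.card_pos.ne').1 ?_)
    rw [← hk]; exact card_dvd_of_le inf_le_right
  have hR' : (R : Subgroup G) = R₀ := by
    by_contra hne'
    haveI : Group.IsNilpotent (R : Subgroup G) := R.isPGroup'.isNilpotent
    have hlt : R₀.subgroupOf R < ⊤ := lt_top_iff_ne_top.2 fun h => hne' (le_antisymm (subgroupOf_eq_top.1 h) hR)
    obtain ⟨g, hg, hgn⟩ := SetLike.exists_of_lt (normalizerCondition_of_isNilpotent _ hlt)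
    refine hgn (mem_subgroupOf.2 (heq ▸ mem_inf.2 ⟨g.2, mem_centralizer_singleton_iff.2 ?_⟩))
    have key : ∀ y ∈ R₀, (g : G) * y * (g : G)⁻¹ ∈ R₀ := fun y hy =>
      mem_subgroupOf.1 ((mem_normalizer_iff.1 hg ⟨y, hR hy⟩).1 (mem_subgroupOf.2 hy))
    set z := (g : G)⁻¹ * H.t * g
    have key' : ∀ y ∈ R₀, (g : G)⁻¹ * y * g ∈ R₀ := fun y hy => by
      simpa using mem_subgroupOf.1 ((mem_normalizer_iff.1 (inv_mem hg) ⟨y, hR hy⟩).1 (mem_subgroupOf.2 hy))
    have hz2 : orderOf ((g : G) * H.t * (g : G)⁻¹) = 2 := by rw [Involution.orderOf_conj, H.t_order]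
    have hzc : ∀ y ∈ R₀, ((g : G) * H.t * (g : G)⁻¹) * y = y * ((g : G) * H.t * (g : G)⁻¹) := fun y hy => by
      have := mem_centralizer_singleton_iff.1 (hle (key' y hy))
      calc ((g : G) * H.t * (g : G)⁻¹) * y = (g : G) * (H.t * ((g : G)⁻¹ * y * g)) * (g : G)⁻¹ := by group
        _ = y * ((g : G) * H.t * (g : G)⁻¹) := by rw [← this]; group
    by_contra hgt
    obtain ⟨c, hc, hcz⟩ := H.exists_conj_s (hle (key _ htR)) hz2 (fun e => hgt (mul_inv_eq_iff_eq_mul.1 e))
    have hT : ∀ y ∈ R₀, c⁻¹ * y * c ∈ H.T := fun y hy => H.mem_T_of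
      (by simpa using H.conj_range (inv_mem hc) (hrange hy)) (by
        have := hzc y hy
        rw [← hcz] at this
        calc c⁻¹ * y * c * H.s = c⁻¹ * (y * (c * H.s * c⁻¹)) * c := by group
          _ = H.s * (c⁻¹ * y * c) := by rw [← this]; group)
    refine hsw ?_
    have := H.T_comm (hT _ hsR) (hT _ hwR)
    calc H.s * H.π ww = c * ((c⁻¹ * H.s * c) * (c⁻¹ * H.π ww * c)) * c⁻¹ := by group
      _ = H.π ww * H.s := by rw [this]; group
  refine ⟨R, hR'.le.trans hle, hR htR, hR hsR, ?_⟩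
  have hodd : Odd (Fintype.card F) := by
    rw [Nat.odd_iff]
    by_contra h
    exact H.two_ne (by
      have h2 : ringChar F = 2 := FiniteField.even_card_iff_char_two.2 (by omega)
      simpa [h2] using ringChar.Nat.cast_ringChar (R := F))
  have h4 : Fintype.card F % 4 = 3 ∨ Fintype.card F % 4 = 1 := by
    have := Nat.odd_iff.1 hodd; omega
  let e' : (P : Subgroup (GL (Fin 2) F)) ≃* (R : Subgroup G) := e.trans (MulEquiv.subgroupCongr hR'.symm)
  rcases h4 with h | h
  · obtain ⟨n, ⟨d⟩⟩ := QDWreath.nonempty_qdData ((S1217.result P).1 h)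
    have d' := Transfer.qdMap d e'
    exact Or.inl ⟨n, d'.hn, d'.card, d'.x, d'.y, d'.order_x, d'.order_y, d'.rel⟩
  · obtain ⟨n, ⟨d⟩⟩ := QDWreath.nonempty_wrData ((S1217.result P).2 h)
    exact Or.inr (by
      have d' := Transfer.wrMap d e'
      exact ⟨n, d'.hn, d'.card, d'.x, d'.y, d'.z, d'.order_x, d'.comm, d'.disj, d'.order_z, d'.rel⟩)

/-- All involutions are conjugate. -/
theorem isConj_t {x : G} (hx : orderOf x = 2) : IsConj H.t x := by
  obtain ⟨R, -, -, -, hR⟩ := H.exists_sylow_le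
  rcases hR with hR | hR
  · obtain ⟨n, ⟨d⟩⟩ := QDWreath.nonempty_qdData hR
    exact (Transfer.SD.involutions_conj d H.index_ne_two H.t_order).symm.trans
      (Transfer.SD.involutions_conj d H.index_ne_two hx)
  · obtain ⟨n, ⟨d⟩⟩ := QDWreath.nonempty_wrData hR
    exact (Transfer.WR.involutions_conj d H.index_ne_two H.t_order).symm.trans
      (Transfer.WR.involutions_conj d H.index_ne_two hx)

end finite

/-- The hypothesis transported by conjugation. -/
noncomputable def conj (g : G) : Hyp F G where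
  π := (MulAut.conj g).toMonoidHom.comp H.π
  ker_le := by
    rw [MonoidHom.ker_comp_of_injective _ _ (MulAut.conj g).injective]
    exact H.ker_le
  ker_odd := by
    rw [MonoidHom.ker_comp_of_injective _ _ (MulAut.conj g).injective]
    exact H.ker_odd
  range_le := by
    rintro _ ⟨h, rfl⟩
    rw [mem_centralizer_singleton_iff]
    simp only [MonoidHom.comp_apply, MulEquiv.coe_toMonoidHom, ← map_mul]
    rw [mem_center_iff.1 gt_central h]
  odd_index := by
    have hC : centralizer {(MulAut.conj g).toMonoidHom (H.π gt)} =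
        (centralizer {H.π gt}).map (MulAut.conj g).toMonoidHom := by
      ext x
      rw [mem_map]
      simp only [mem_centralizer_singleton_iff, MulEquiv.coe_toMonoidHom, MulAut.conj_apply]
      constructor
      · intro hx
        refine ⟨g⁻¹ * x * g, ?_, by group⟩
        calc g⁻¹ * x * g * H.π gt = g⁻¹ * (x * (g * H.π gt * g⁻¹)) * g := by group
          _ = H.π gt * (g⁻¹ * x * g) := by rw [hx]; group
      · rintro ⟨y, hy, rfl⟩
        calc g * y * g⁻¹ * (g * H.π gt * g⁻¹) = g * (y * H.π gt) * g⁻¹ := by group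
          _ = g * H.π gt * g⁻¹ * (g * y * g⁻¹) := by rw [hy]; group
    rw [MonoidHom.range_comp, MonoidHom.comp_apply, hC, relIndex_map_map_of_injective _ _ (MulAut.conj g).injective]
    exact H.odd_index
  field x hx := by
    have hx' : g⁻¹ * x * g ∈ centralizer {H.π gt} := by
      rw [mem_centralizer_singleton_iff] at hx ⊢
      simp only [MonoidHom.coe_comp, Function.comp_apply, MulEquiv.coe_toMonoidHom, MulAut.conj_apply] at hx
      calc g⁻¹ * x * g * H.π gt = g⁻¹ * (x * (g * H.π gt * g⁻¹)) * g := by group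
        _ = H.π gt * (g⁻¹ * x * g) := by rw [hx]; group
    obtain ⟨c, e, hc, he⟩ := H.field _ hx'
    refine ⟨c, e, fun h => ?_, fun hid => ?_⟩
    · simp only [MonoidHom.coe_comp, Function.comp_apply, MulEquiv.coe_toMonoidHom, MulAut.conj_apply, ← hc]
      group
    · obtain ⟨k, hk⟩ := he hid
      exact ⟨k, by simp [hk, mul_assoc]⟩
  two_ne := H.two_ne

@[simp] theorem conj_π (g : G) (x : GL (Fin 2) F) : (H.conj g).π x = g * H.π x * g⁻¹ := rfl

instance [h : H.Exact] (g : G) : (H.conj g).Exact where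
  range_eq := by
    rw [show (H.conj g).π = (MulAut.conj g).toMonoidHom.comp H.π from rfl, MonoidHom.range_comp, h.range_eq]
    ext x
    rw [mem_map]
    simp only [mem_centralizer_singleton_iff, MulEquiv.coe_toMonoidHom, MulAut.conj_apply]
    rw [show (H.conj g).t = g * H.t * g⁻¹ from rfl]
    constructor
    · rintro ⟨y, hy, rfl⟩
      calc g * y * g⁻¹ * (g * H.t * g⁻¹) = g * (y * H.t) * g⁻¹ := by group
        _ = g * H.t * g⁻¹ * (g * y * g⁻¹) := by rw [hy]; group
    · intro hx
      refine ⟨g⁻¹ * x * g, ?_, by group⟩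
      calc g⁻¹ * x * g * H.t = g⁻¹ * (x * (g * H.t * g⁻¹)) * g := by group
        _ = H.t * (g⁻¹ * x * g) := by rw [hx]; group

theorem conj_t (g : G) : (H.conj g).t = g * H.t * g⁻¹ := rfl

theorem conj_s (g : G) : (H.conj g).s = g * H.s * g⁻¹ := rfl

theorem conj_T (g : G) : (H.conj g).T = H.T.map (MulAut.conj g).toMonoidHom :=
  (map_map _ _ _).symm

theorem conj_Xp (g : G) : (H.conj g).Xp = H.Xp.map (MulAut.conj g).toMonoidHom :=
  (map_map _ _ _).symm

theorem conj_Xm (g : G) : (H.conj g).Xm = H.Xm.map (MulAut.conj g).toMonoidHom :=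
  (map_map _ _ _).symm

/-- Conjugation of the involutions of `U` other than `s` inside `C(s)`. -/
theorem exists_conj_in_cent {g : G} {a b : G} (hga : g * H.t * g⁻¹ = a) (hb : b * a = a * b)
    (hb2 : orderOf b = 2) (hne : b ≠ a) {c : G} (hc : c * a = a * c) (hc2 : orderOf c = 2) (hne' : c ≠ a) :
    ∃ h : G, h * a = a * h ∧ h * b * h⁻¹ = c := by
  have ha : (H.conj g).t = a := by rw [conj_t, hga]
  obtain ⟨x, hx, hxb⟩ := (H.conj g).exists_conj_s (x := b) (by rw [ha, mem_centralizer_singleton_iff, hb]) hb2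
    (by rwa [ha])
  obtain ⟨y, hy, hyc⟩ := (H.conj g).exists_conj_s (x := c) (by rw [ha, mem_centralizer_singleton_iff, hc]) hc2
    (by rwa [ha])
  rw [ha] at hx hy
  refine ⟨y * x⁻¹, mem_centralizer_singleton_iff.1 (mul_mem hy (inv_mem hx)), ?_⟩
  rw [← hxb, ← hyc]
  group

theorem t_ne_ts : H.t ≠ H.t * H.s := fun e => Involution.ne_one H.s_order (by simpa using e.symm)

theorem s_ne_ts : H.s ≠ H.t * H.s := fun e => Involution.ne_one H.t_order (by simpa using e.symm)

theorem t_ts_comm : H.t * (H.t * H.s) = H.t * H.s * H.t := by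
  rw [mul_assoc H.t H.s, H.st_comm]

theorem s_ts_comm : H.s * (H.t * H.s) = H.t * H.s * H.s := by
  rw [← mul_assoc, H.st_comm]

/-- A rotation of the three involutions of `U`. -/
theorem exists_sigma [Fintype F] [Finite G] [IsSimpleGroup G] :
    ∃ σ : G, σ * H.t * σ⁻¹ = H.s ∧ σ * H.s * σ⁻¹ = H.t * H.s := by
  obtain ⟨g, hg⟩ := isConj_iff.1 (H.isConj_t H.s_order)
  obtain ⟨h, hh, hh'⟩ := H.exists_conj_in_cent hg (b := g * H.s * g⁻¹) (c := H.t * H.s) (by
      have e := congrArg (MulAut.conj g) H.st_comm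
      rw [map_mul, map_mul, MulAut.conj_apply, MulAut.conj_apply, hg] at e
      exact e)
    (by rw [Involution.orderOf_conj, H.s_order])
    (fun e => H.s_ne_t (mul_left_cancel (mul_right_cancel (e.trans hg.symm))))
    H.s_ts_comm.symm H.ts_order H.s_ne_ts.symm
  refine ⟨h * g, ?_, ?_⟩
  · rw [show h * g * H.t * (h * g)⁻¹ = h * (g * H.t * g⁻¹) * h⁻¹ by group, hg, hh, mul_inv_cancel_right]
  · rw [← hh']; group

end Hyp

end Cfsg.Agent.LThreeRec
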