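import Cfsg.Agent.EqLemmas
import Mathlib.LinearAlgebra.Matrix.SpecialLinearGroup
import Mathlib.FieldTheory.Finite.Basic
import Mathlib.GroupTheory.Index
import Mathlib.Tactic

/-!
# A natural module for an image of `SL₂` (helper60, S0484 good case)

If `Y` is a group of order `q` fixed by the upper root group and normalised by the torus, commuting with
its conjugate under `w`, and `[u a, w Y w⁻¹] ≤ Y`, then `Y` is a line of a natural module: it is
parametrised by `F` with the linear action.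
-/

set_option autoImplicit false
set_option linter.unusedSectionVars false

open scoped commutatorElement

namespace Cfsg.Agent.LThreeRec

variable {F : Type*} [Field F]

local notation "SL2" => Matrix.SpecialLinearGroup (Fin 2) F

/-- Upper root element. -/
def uS (a : F) : SL2 := ⟨!![1, a; 0, 1], by simp [Matrix.det_fin_two]⟩
/-- Lower root element. -/
def vS (a : F) : SL2 := ⟨!![1, 0; a, 1], by simp [Matrix.det_fin_two]⟩
/-- The monomial element. -/
def wS : SL2 := ⟨!![0, 1; -1, 0], by simp [Matrix.det_fin_two]⟩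
/-- Torus element. -/
def hS (a : Fˣ) : SL2 :=
  ⟨!![(a : F), 0; 0, ((a⁻¹ : Fˣ) : F)], by simp [Matrix.det_fin_two]⟩

theorem uS_add (a b : F) : (uS a : SL2) * uS b = uS (a + b) := by
  apply Subtype.ext; simp only [Matrix.SpecialLinearGroup.coe_mul]; ext i j; fin_cases i <;> fin_cases j <;>
    simp [uS, Matrix.mul_apply, Fin.sum_univ_two, add_comm]

theorem vS_eq (a : F) : (vS a : SL2) = wS * uS (-a) * wS⁻¹ := by
  rw [eq_mul_inv_iff_mul_eq]
  apply Subtype.ext; simp only [Matrix.SpecialLinearGroup.coe_mul]; ext i j; fin_cases i <;> fin_cases j <;>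
    simp [uS, vS, wS, Matrix.mul_apply, Fin.sum_univ_two]

theorem vS_add (a b : F) : (vS a : SL2) * vS b = vS (a + b) := by
  apply Subtype.ext; simp only [Matrix.SpecialLinearGroup.coe_mul]; ext i j; fin_cases i <;> fin_cases j <;>
    simp [vS, Matrix.mul_apply, Fin.sum_univ_two]

theorem hS_mul (a b : Fˣ) : (hS a : SL2) * hS b = hS (a * b) := by
  apply Subtype.ext; simp only [Matrix.SpecialLinearGroup.coe_mul]; ext i j; fin_cases i <;> fin_cases j <;>
    simp [hS, Matrix.mul_apply, Fin.sum_univ_two, mul_comm]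

theorem hS_one : (hS 1 : SL2) = 1 := by
  apply Subtype.ext; ext i j; fin_cases i <;> fin_cases j <;> simp [hS]

theorem wS_hS (a : Fˣ) : (wS : SL2) * hS a⁻¹ = hS a * wS := by
  apply Subtype.ext; simp only [Matrix.SpecialLinearGroup.coe_mul]; ext i j; fin_cases i <;> fin_cases j <;>
    simp [hS, wS, Matrix.mul_apply, Fin.sum_univ_two]

theorem wS_sq : (wS : SL2) * wS = hS (-1) := by
  apply Subtype.ext; simp only [Matrix.SpecialLinearGroup.coe_mul]; ext i j; fin_cases i <;> fin_cases j <;>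
    simp [hS, wS, Matrix.mul_apply, Fin.sum_univ_two]

theorem hS_uS (a : Fˣ) (b : F) : (hS a : SL2) * uS b = uS ((a : F) ^ 2 * b) * hS a := by
  apply Subtype.ext; simp only [Matrix.SpecialLinearGroup.coe_mul]; ext i j; fin_cases i <;> fin_cases j <;>
    simp [hS, uS, Matrix.mul_apply, Fin.sum_univ_two]
  field_simp

theorem weyl (a : Fˣ) : (uS (a : F) : SL2) * vS (-(a : F)⁻¹) * uS (a : F) = hS a * wS := by
  apply Subtype.ext; simp only [Matrix.SpecialLinearGroup.coe_mul]; ext i j; fin_cases i <;> fin_cases j <;>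
    simp [hS, wS, uS, vS, Matrix.mul_apply, Fin.sum_univ_two]

variable {G : Type*} [Group G]

/-- Conjugation by an element of the image. -/
def cj (φ : SL2 →* G) (g : SL2) (x : G) : G := φ g * x * (φ g)⁻¹

theorem cj_def (φ : SL2 →* G) (g : SL2) (x : G) : cj φ g x = φ g * x * (φ g)⁻¹ := rfl

theorem cj_mul (φ : SL2 →* G) (g : SL2) (x y : G) : cj φ g (x * y) = cj φ g x * cj φ g y := by
  simp [cj_def, mul_assoc]

theorem cj_inv (φ : SL2 →* G) (g : SL2) (x : G) : cj φ g x⁻¹ = (cj φ g x)⁻¹ := by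
  simp [cj_def, mul_assoc]

theorem cj_one (φ : SL2 →* G) (g : SL2) : cj φ g 1 = 1 := by simp [cj_def]

theorem cj_id (φ : SL2 →* G) (x : G) : cj φ 1 x = x := by simp [cj_def]

theorem cj_cj (φ : SL2 →* G) (g g' : SL2) (x : G) : cj φ g (cj φ g' x) = cj φ (g * g') x := by
  simp [cj_def, mul_assoc]

/-- `Y` is one of the two lines of a module for the image of `φ`. -/
structure ModData (φ : SL2 →* G) (Y : Subgroup G) : Prop where
  abel : ∀ y ∈ Y, ∀ z ∈ Y, y * z = z * y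
  cent : ∀ (a : F), ∀ y ∈ Y, φ (uS a) * y = y * φ (uS a)
  torus : ∀ (a : Fˣ), ∀ y ∈ Y, cj φ (hS a) y ∈ Y
  wcomm : ∀ y ∈ Y, ∀ z ∈ Y, y * cj φ wS z = cj φ wS z * y
  disj : ∀ y ∈ Y, cj φ wS y ∈ Y → y = 1
  shift : ∀ (a : F), ∀ y ∈ Y, ⁅φ (uS a), cj φ wS y⁆ ∈ Y

namespace ModData

variable {φ : Matrix.SpecialLinearGroup (Fin 2) F →* G} {Y : Subgroup G} (M : ModData φ Y)
include M

theorem cj_u (a : F) {y : G} (hy : y ∈ Y) : cj φ (uS a) y = y := by
  simp only [cj_def]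
  rw [M.cent a y hy, mul_inv_cancel_right]

theorem cj_uW (a : F) (y : G) :
    cj φ (uS a) (cj φ wS y) = ⁅φ (uS a), cj φ wS y⁆ * cj φ wS y := by
  simp only [cj_def, commutatorElement_def]; group

theorem cj_v (b : F) {z : G} (hz : z ∈ Y) :
    cj φ (vS b) z = cj φ wS ⁅φ (uS (-b)), cj φ wS (cj φ (hS (-1)) z)⁆ * z := by
  have e : cj φ wS (cj φ wS (cj φ (hS (-1)) z)) = z := by
    rw [cj_cj, cj_cj, ← wS_sq]
    have : (wS : SL2) * wS * (wS * wS) = 1 := by rw [wS_sq, hS_mul]; simp [hS_one]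
    rw [← mul_assoc] at this
    simp only [mul_assoc] at this ⊢
    rw [this, cj_id]
  calc cj φ (vS b) z = cj φ (vS b) (cj φ wS (cj φ wS (cj φ (hS (-1)) z))) := by rw [e]
    _ = cj φ wS (cj φ (uS (-b)) (cj φ wS (cj φ (hS (-1)) z))) := by
      simp only [cj_cj]
      congr 1
      rw [vS_eq]; group
    _ = _ := by
      rw [M.cj_uW, cj_mul, e]

theorem key (a : Fˣ) {z : G} (hz : z ∈ Y) :
    ⁅φ (uS ((a⁻¹ : Fˣ) : F)), cj φ wS (cj φ (hS (-1)) z)⁆ = cj φ (hS a⁻¹) z ∧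
      ⁅φ (uS (a : F)), cj φ wS (cj φ (hS a⁻¹) z)⁆ = z⁻¹ := by
  set m := ⁅φ (uS ((a⁻¹ : Fˣ) : F)), cj φ wS (cj φ (hS (-1)) z)⁆ with hm
  have hmY : m ∈ Y := M.shift _ _ (M.torus _ _ hz)
  set n := ⁅φ (uS (a : F)), cj φ wS m⁆ with hn
  have hnY : n ∈ Y := M.shift _ _ hmY
  have h1 : cj φ (hS a * wS) z = n * cj φ wS m * z := by
    rw [← weyl, ← cj_cj, ← cj_cj, M.cj_u _ hz, M.cj_v _ hz, neg_neg]
    rw [show ((a : F))⁻¹ = ((a⁻¹ : Fˣ) : F) from (Units.val_inv_eq_inv_val a).symm]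
    rw [← hm, cj_mul, M.cj_u _ hz, M.cj_uW _ m]
  rw [← wS_hS, ← cj_cj] at h1
  have hr : cj φ (hS a⁻¹) z ∈ Y := M.torus _ _ hz
  have h2 : n * z = cj φ wS (cj φ (hS a⁻¹) z * m⁻¹) := by
    rw [cj_mul, cj_inv, h1]
    have c : Commute z (cj φ wS m) := M.wcomm z hz m hmY
    rw [mul_assoc n, ← c.eq, mul_assoc, mul_assoc, mul_inv_cancel, mul_one]
  have h3 := M.disj _ (Y.mul_mem hr (Y.inv_mem hmY)) (h2 ▸ Y.mul_mem hnY hz)
  have e : m = cj φ (hS a⁻¹) z := (mul_inv_eq_one.1 h3).symm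
  refine ⟨e, ?_⟩
  have h4 : n * z = 1 := by rw [h2, h3, cj_one]
  rw [← e]
  exact eq_inv_of_mul_eq_one_left h4

theorem cj_neg {z : G} (hz : z ∈ Y) : cj φ (hS (-1)) z = z⁻¹ := by
  obtain ⟨h1, -⟩ := M.key 1 hz
  obtain ⟨-, h2⟩ := M.key 1 (M.torus (-1) z hz)
  simp only [inv_one, hS_one, cj_id, Units.val_one] at h1 h2
  rw [h1] at h2
  exact inv_eq_iff_eq_inv.mp h2.symm

theorem bracket (a : Fˣ) {y : G} (hy : y ∈ Y) :
    ⁅φ (uS (a : F)), cj φ wS y⁆ = (cj φ (hS a) y)⁻¹ := by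
  have h := (M.key a (M.torus a y hy)).2
  rwa [cj_cj φ (hS a⁻¹), hS_mul, inv_mul_cancel, hS_one, cj_id] at h

/-- The scalar action. -/
noncomputable def sc (φ : SL2 →* G) (a : F) (y : G) : G :=
  open Classical in if h : a = 0 then 1 else cj φ (hS (Units.mk0 a h)) y

theorem sc_unit (a : Fˣ) (y : G) : sc φ (a : F) y = cj φ (hS a) y := by
  simp [sc, a.ne_zero]

theorem sc_zero (y : G) : sc φ (0 : F) y = 1 := by simp [sc]

theorem sc_mem (a : F) {y : G} (hy : y ∈ Y) : sc φ a y ∈ Y := by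
  rcases eq_or_ne a 0 with rfl | h
  · rw [M.sc_zero]; exact Y.one_mem
  · lift a to Fˣ using isUnit_iff_ne_zero.2 h
    rw [M.sc_unit]; exact M.torus _ _ hy

theorem bracket' (a : F) {y : G} (hy : y ∈ Y) :
    ⁅φ (uS a), cj φ wS y⁆ = (sc φ a y)⁻¹ := by
  rcases eq_or_ne a 0 with rfl | h
  · have : (uS (0 : F) : SL2) = 1 := by
      apply Subtype.ext; ext i j; fin_cases i <;> fin_cases j <;> simp [uS]
    rw [this, M.sc_zero, map_one]; simp
  · lift a to Fˣ using isUnit_iff_ne_zero.2 h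
    rw [M.sc_unit]; exact M.bracket _ hy

theorem sc_add (a b : F) {y : G} (hy : y ∈ Y) : sc φ (a + b) y = sc φ a y * sc φ b y := by
  have h : ⁅φ (uS (a + b)), cj φ wS y⁆ =
      φ (uS a) * ⁅φ (uS b), cj φ wS y⁆ * (φ (uS a))⁻¹ * ⁅φ (uS a), cj φ wS y⁆ := by
    rw [← uS_add, map_mul]; simp only [commutatorElement_def]; group
  rw [M.bracket' _ hy, M.bracket' _ hy, M.bracket' _ hy,
    M.cent a _ (Y.inv_mem (M.sc_mem b hy)), mul_inv_cancel_right, ← mul_inv_rev] at h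
  exact inv_injective h

theorem sc_one {y : G} (hy : y ∈ Y) : sc φ (1 : F) y = y := by
  have := M.sc_unit 1 y
  simpa [hS_one, cj_id] using this

theorem sc_sc (a b : F) {y : G} (hy : y ∈ Y) : sc φ a (sc φ b y) = sc φ (a * b) y := by
  rcases eq_or_ne a 0 with rfl | ha
  · rw [zero_mul, M.sc_zero, M.sc_zero]
  rcases eq_or_ne b 0 with rfl | hb
  · lift a to Fˣ using isUnit_iff_ne_zero.2 ha
    rw [mul_zero, M.sc_zero, M.sc_unit, cj_one]
  lift a to Fˣ using isUnit_iff_ne_zero.2 ha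
  lift b to Fˣ using isUnit_iff_ne_zero.2 hb
  rw [← Units.val_mul, M.sc_unit, M.sc_unit, M.sc_unit, cj_cj, hS_mul]

theorem sc_neg (a : F) {y : G} (hy : y ∈ Y) : sc φ (-a) y = (sc φ a y)⁻¹ := by
  apply eq_inv_of_mul_eq_one_left
  rw [← M.sc_add _ _ hy, neg_add_cancel, M.sc_zero]

theorem sc_surj [Fintype F] [Finite G] (hcard : Nat.card Y = Fintype.card F) {y : G} (hy : y ∈ Y)
    (hy1 : y ≠ 1) : ∀ z ∈ Y, ∃ a : F, sc φ a y = z := by
  intro z hz
  have hf : Function.Injective fun a : F => (⟨sc φ a y, M.sc_mem a hy⟩ : Y) := by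
    intro a b h
    have h' : sc φ a y = sc φ b y := congrArg Subtype.val h
    by_contra hne
    have h0 : sc φ (a - b) y = 1 := by
      rw [sub_eq_add_neg, M.sc_add _ _ hy, M.sc_neg _ hy, h', mul_inv_cancel]
    apply hy1
    have := M.sc_sc (a - b)⁻¹ (a - b) hy
    rw [h0, inv_mul_cancel₀ (sub_ne_zero.2 hne), M.sc_one hy] at this
    rw [← this]
    simp [sc, cj_one]
  obtain ⟨a, ha⟩ := ((Nat.bijective_iff_injective_and_card _).2
    ⟨hf, by rw [hcard, Nat.card_eq_fintype_card]⟩).surjective ⟨z, hz⟩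
  exact ⟨a, congrArg Subtype.val ha⟩

theorem wline_add (a b : F) {y : G} (hy : y ∈ Y) :
    cj φ wS (sc φ (a + b) y) = cj φ wS (sc φ a y) * cj φ wS (sc φ b y) := by
  rw [M.sc_add _ _ hy, cj_mul]

theorem u_comm_w (a b : F) {y : G} (hy : y ∈ Y) :
    ⁅φ (uS a), cj φ wS (sc φ b y)⁆ = sc φ (-(a * b)) y := by
  rw [M.bracket' _ (M.sc_mem b hy), M.sc_sc _ _ hy, M.sc_neg _ hy]

theorem v_comm (a b : F) {y : G} (hy : y ∈ Y) :
    ⁅φ (vS a), sc φ b y⁆ = cj φ wS (sc φ (-(a * b)) y) := by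
  have hz := M.sc_mem b hy
  have e : ⁅φ (vS a), sc φ b y⁆ = cj φ (vS a) (sc φ b y) * (sc φ b y)⁻¹ := by
    simp [commutatorElement_def, cj_def]
  rw [e, M.cj_v _ hz, mul_inv_cancel_right, M.cj_neg hz, ← M.sc_neg _ hy, M.u_comm_w _ _ hy]
  congr 1
  congr 1
  ring

end ModData

end Cfsg.Agent.LThreeRec
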