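import Cfsg.Agent.EqLemmas
import Cfsg.Agent.Lib.LThreeRec.Module
import Mathlib.LinearAlgebra.Matrix.GeneralLinearGroup.Card

/-!
# The involution centraliser `GL₂(q)/Z` (helper60, S0484)

* `LData` : the hypotheses (the image of `GL₂(q)` may be a proper normal subgroup of odd index of
  `C(t)`; `LData.Exact` if it is not); `φ`, `T`, `u`, `X`, `X'`, `w`
* `cent_u`, `cent_root` : centralisers inside `C(t)`
* `root_cases` : `p`-subgroups of `C(t)` normalised by `u` lie in `X` or `X'`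
* `oneClass` : the involutions of `C(t)` other than `t`
-/

set_option autoImplicit false
set_option linter.unusedSectionVars false
set_option linter.style.haveILetI false

namespace Cfsg.Agent.LThreeRec

open Subgroup

variable {F : Type*} [Field F] [Fintype F] {G : Type*} [Group G] [Finite G]

/-- Matrix of a unit. -/
abbrev mG (g : GL (Fin 2) F) : Matrix (Fin 2) (Fin 2) F := (g : Matrix (Fin 2) (Fin 2) F)

/-- Invertible diagonal matrices. -/
def dG : Fˣ × Fˣ →* GL (Fin 2) F where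
  toFun a := ⟨!![(a.1 : F), 0; 0, (a.2 : F)], !![((a.1⁻¹ : Fˣ) : F), 0; 0, ((a.2⁻¹ : Fˣ) : F)],
    by ext i j; fin_cases i <;> fin_cases j <;> simp [Matrix.mul_apply, Fin.sum_univ_two],
    by ext i j; fin_cases i <;> fin_cases j <;> simp [Matrix.mul_apply, Fin.sum_univ_two]⟩
  map_one' := by apply Units.ext; ext i j; fin_cases i <;> fin_cases j <;> simp
  map_mul' a b := by
    apply Units.ext; ext i j; fin_cases i <;> fin_cases j <;>
      simp [Matrix.mul_apply, Fin.sum_univ_two]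

theorem mG_dG (a b : Fˣ) : mG (dG (a, b)) = !![(a : F), 0; 0, (b : F)] := rfl

/-- The inclusion of the special linear group. -/
abbrev iG : Matrix.SpecialLinearGroup (Fin 2) F →* GL (Fin 2) F := Matrix.SpecialLinearGroup.toGL

theorem mG_iG (g : Matrix.SpecialLinearGroup (Fin 2) F) : mG (iG g) = g.1 := rfl

theorem mG_mul (g h : GL (Fin 2) F) : mG (g * h) = mG g * mG h := rfl

theorem mG_ext {g h : GL (Fin 2) F} (h1 : mG g = mG h) : g = h := Units.ext h1

/-- An involution centraliser of type `GL₂(q)/Z`. -/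
structure LData (G : Type*) [Group G] (F : Type*) [Field F] [Fintype F] where
  π : GL (Fin 2) F →* G
  t : G
  two_ne : (2 : F) ≠ 0
  π_neg : π (dG (-1, -1)) = t
  range_le : π.range ≤ centralizer ({t} : Set G)
  normal : ∀ x ∈ centralizer ({t} : Set G), ∀ y ∈ π.range, x * y * x⁻¹ ∈ π.range
  odd_index : Odd (π.range.relIndex (centralizer ({t} : Set G)))
  cent_X : ∀ x ∈ centralizer ({t} : Set G),
    (∀ a : F, x * π (iG (uS a)) = π (iG (uS a)) * x) → x ∈ π.range
  cent_T : ∀ x ∈ centralizer ({t} : Set G), (∀ a : Fˣ × Fˣ, x * π (dG a) = π (dG a) * x) → x ∈ π.range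
  norm_X : ∀ x ∈ centralizer ({t} : Set G), x * π (dG (1, -1)) = π (dG (1, -1)) * x →
    ∀ a : F, ∃ b : F, π (iG (uS b)) = x * π (iG (uS a)) * x⁻¹
  ker_center : π.ker ≤ Subgroup.center (GL (Fin 2) F)
  ker_odd : Odd (Nat.card π.ker)

namespace LData

variable (D : LData G F)

/-- The image of `SL₂`. -/
def φ : Matrix.SpecialLinearGroup (Fin 2) F →* G := D.π.comp iG

/-- The torus. -/
def T : Subgroup G := (D.π.comp dG).range

/-- The second involution. -/
def u : G := D.π (dG (1, -1))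

/-- The upper root group. -/
def X : Subgroup G where
  carrier := Set.range fun a : F => D.φ (uS a)
  one_mem' := ⟨0, by
    have e : (uS (0 : F) : Matrix.SpecialLinearGroup (Fin 2) F) = 1 := by
      apply Subtype.ext; ext i j; fin_cases i <;> fin_cases j <;> simp [uS]
    simp [e]⟩
  mul_mem' := by
    rintro _ _ ⟨a, rfl⟩ ⟨b, rfl⟩
    exact ⟨a + b, by simp only [← map_mul, uS_add]⟩
  inv_mem' := by
    rintro _ ⟨a, rfl⟩
    refine ⟨-a, ?_⟩
    simp only
    rw [← map_inv]; congr 1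
    apply eq_inv_of_mul_eq_one_left
    rw [uS_add, neg_add_cancel]
    apply Subtype.ext; ext i j; fin_cases i <;> fin_cases j <;> simp [uS]

/-- The swap. -/
def w : G := D.φ wS

/-- The lower root group. -/
def X' : Subgroup G := D.X.map (MulAut.conj D.w).toMonoidHom

theorem mem_X {x : G} : x ∈ D.X ↔ ∃ a : F, D.φ (uS a) = x := Iff.rfl

theorem φ_apply (g : Matrix.SpecialLinearGroup (Fin 2) F) : D.φ g = D.π (iG g) := rfl

theorem mem_X' {x : G} : x ∈ D.X' ↔ ∃ a : F, D.φ (vS a) = x := by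
  have e : ∀ a : F, MulAut.conj D.w (D.φ (uS a)) = D.φ (vS (-a)) := fun a => by
    rw [MulAut.conj_apply, vS_eq, neg_neg, map_mul, map_mul, map_inv]; rfl
  constructor
  · rintro ⟨_, ⟨a, rfl⟩, rfl⟩; exact ⟨-a, (e a).symm⟩
  · rintro ⟨a, rfl⟩; exact ⟨_, ⟨-a, rfl⟩, (e _).trans (by rw [neg_neg])⟩

include D

theorem dG_one : (dG (1, 1) : GL (Fin 2) F) = 1 := map_one _

theorem neg_one_ne : (-1 : Fˣ) ≠ 1 := fun h => D.two_ne (by
  have h' : (-1 : F) = 1 := by simpa using congrArg Units.val h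
  linear_combination -h')

theorem scalar_of_center {g : GL (Fin 2) F} (hg : g ∈ Subgroup.center (GL (Fin 2) F)) :
    mG g 0 1 = 0 ∧ mG g 1 0 = 0 ∧ mG g 0 0 = mG g 1 1 := by
  rw [Subgroup.mem_center_iff] at hg
  have h1 := congrArg mG (hg (iG (uS 1)))
  have h2 := congrArg mG (hg (iG (vS 1)))
  rw [mG_mul, mG_mul, mG_iG] at h1 h2
  have a := congrFun (congrFun h1 0) 0
  have b := congrFun (congrFun h1 0) 1
  have c := congrFun (congrFun h2 0) 0
  simp [uS, vS, Matrix.mul_apply, Fin.sum_univ_two] at a b c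
  exact ⟨c, a, by linear_combination -b⟩

theorem dG_center (a : Fˣ) : (dG (a, a) : GL (Fin 2) F) ∈ Subgroup.center (GL (Fin 2) F) := by
  rw [Subgroup.mem_center_iff]
  intro g
  apply mG_ext
  rw [mG_mul, mG_mul, mG_dG]
  ext i j; fin_cases i <;> fin_cases j <;> simp [Matrix.mul_apply, Fin.sum_univ_two, mul_comm]

theorem eq_dG_of_center {g : GL (Fin 2) F} (hg : g ∈ Subgroup.center (GL (Fin 2) F)) :
    ∃ a : Fˣ, g = dG (a, a) := by
  obtain ⟨h1, h2, h3⟩ := D.scalar_of_center hg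
  have hdet : (mG g).det ≠ 0 := (Matrix.GeneralLinearGroup.det g).ne_zero
  rw [Matrix.det_fin_two, h1, zero_mul, sub_zero] at hdet
  refine ⟨Units.mk0 (mG g 0 0) (left_ne_zero_of_mul hdet), mG_ext ?_⟩
  rw [mG_dG]
  ext i j; fin_cases i <;> fin_cases j <;> simp [h1, h2, ← h3]

theorem ker_pow_ne {g : GL (Fin 2) F} (hg : g ∈ D.π.ker) (h2 : g * g = 1) : g = 1 := by
  by_contra hne
  have ho : orderOf (⟨g, hg⟩ : D.π.ker) = 2 := by
    rw [Subgroup.orderOf_mk]; exact orderOf_eq_prime (by rw [sq, h2]) hne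
  refine Nat.not_even_iff_odd.2 D.ker_odd (even_iff_two_dvd.2 ?_)
  exact (dvd_of_eq ho.symm).trans (orderOf_dvd_natCard _)

/-- Commuting images come from commuting matrices. -/
theorem comm_lift {g h : GL (Fin 2) F} (hc : D.π g * D.π h = D.π h * D.π g) : g * h = h * g := by
  have hk : g * h * (h * g)⁻¹ ∈ D.π.ker := by
    rw [MonoidHom.mem_ker, map_mul, map_inv, map_mul, map_mul, hc, mul_inv_cancel]
  obtain ⟨a, ha⟩ := D.eq_dG_of_center (D.ker_center hk)
  have hdet := congrArg Matrix.GeneralLinearGroup.det ha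
  rw [map_mul, map_inv, map_mul, map_mul, mul_comm (Matrix.GeneralLinearGroup.det g),
    mul_inv_cancel] at hdet
  have haa : (a : F) * a = 1 := by
    have h' := congrArg Units.val hdet.symm
    rw [Matrix.GeneralLinearGroup.val_det_apply, Units.val_one] at h'
    change (mG (dG (a, a))).det = 1 at h'
    simpa [mG_dG, Matrix.det_fin_two] using h'
  have h1 := D.ker_pow_ne hk (by
    rw [ha, ← map_mul, Prod.mk_mul_mk, show a * a = 1 from Units.ext haa]; exact map_one _)
  exact mul_inv_eq_one.1 h1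

omit D in
/-- The image of `π` is the whole centralizer. -/
class Exact (D : LData G F) : Prop where
  range_eq : D.π.range = centralizer ({D.t} : Set G)

theorem range_eq [D.Exact] : D.π.range = centralizer ({D.t} : Set G) := Exact.range_eq

/-- An element of odd order inverted by an element of the image lies in the image. -/
theorem mem_of_inverted {a y : G} (ha : a ∈ D.π.range) (hy : y * D.t = D.t * y)
    (hinv : a * y * a⁻¹ = y⁻¹) (hodd : Odd (orderOf y)) : ∃ g, D.π g = y := by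
  have h2 : y * y ∈ D.π.range := by
    have h := mul_mem (D.normal y (mem_centralizer_singleton_iff.2 hy) a ha) (inv_mem ha)
    rwa [show y * a * y⁻¹ * a⁻¹ = y * (a * y * a⁻¹)⁻¹ by group, hinv, inv_inv] at h
  obtain ⟨m, hm⟩ := hodd
  have e : y = (y * y) ^ (m + 1) := by
    rw [← sq, ← pow_mul, show 2 * (m + 1) = orderOf y + 1 by omega, pow_succ, pow_orderOf_eq_one, one_mul]
  rw [e]
  exact pow_mem h2 _

/-- Elements of `2`-power order of `C(t)` lie in the image. -/
theorem mem_of_two {x : G} (hx : x * D.t = D.t * x) {k : ℕ} (hk : x ^ 2 ^ k = 1) : ∃ g, D.π g = x := by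
  set C := centralizer ({D.t} : Set G)
  haveI : (D.π.range.subgroupOf C).Normal :=
    ⟨fun a ha c => mem_subgroupOf.2 (D.normal _ c.2 _ (mem_subgroupOf.1 ha))⟩
  have h := mem_subgroupOf.1
    ((D.π.range.subgroupOf C).pow_index_mem ⟨x, mem_centralizer_singleton_iff.2 hx⟩)
  have hodd : Odd (D.π.range.subgroupOf C).index := D.odd_index
  obtain ⟨j, hj⟩ := exists_pow_eq_self_of_coprime (x := x) (n := (D.π.range.subgroupOf C).index)
    (Nat.Coprime.coprime_dvd_right (orderOf_dvd_of_pow_eq_one hk) ((Nat.coprime_two_right.2 hodd).pow_right k))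
  rw [← hj]
  exact MonoidHom.mem_range.1 (pow_mem h j)

theorem exists_lift [D.Exact] {x : G} (h : x * D.t = D.t * x) : ∃ g, D.π g = x := by
  have : x ∈ D.π.range := by rw [D.range_eq]; exact mem_centralizer_singleton_iff.2 h
  exact this

theorem comm_t (g : GL (Fin 2) F) : D.π g * D.t = D.t * D.π g := by
  rw [← D.π_neg, ← map_mul, ← map_mul, Subgroup.mem_center_iff.1 (D.dG_center (-1)) g]

theorem orderOf_t : orderOf D.t = 2 := by
  refine orderOf_eq_prime ?_ fun h => D.neg_one_ne ?_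
  · rw [sq, ← D.π_neg, ← map_mul, ← map_mul]; simp [D.dG_one]
  · have h1 := D.ker_pow_ne (g := dG (-1, -1)) (by rw [MonoidHom.mem_ker, D.π_neg, h])
      (by rw [← map_mul]; simp [D.dG_one])
    have := congrFun (congrFun (congrArg mG h1) 0) 0
    simp [mG_dG] at this
    exact Units.ext (by simpa using this)

theorem φ_neg : D.φ (hS (-1)) = D.t := by
  rw [φ_apply, ← D.π_neg]; congr 1
  apply mG_ext
  rw [mG_iG, mG_dG]
  ext i j; fin_cases i <;> fin_cases j <;> simp [hS]

theorem T_cent {x : G} (hx : x ∈ D.T) : x * D.t = D.t * x ∧ x * D.u = D.u * x := by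
  obtain ⟨⟨a, b⟩, rfl⟩ := hx
  refine ⟨D.comm_t _, ?_⟩
  rw [MonoidHom.comp_apply, u, ← map_mul, ← map_mul, ← map_mul, ← map_mul, mul_comm (a, b)]

theorem mem_T_of {x : G} (hx : ∃ g, D.π g = x) (h2 : x * D.u = D.u * x) : x ∈ D.T := by
    obtain ⟨g, rfl⟩ := hx
    have h := congrArg mG (D.comm_lift h2)
    rw [mG_mul, mG_mul, mG_dG] at h
    have a := congrFun (congrFun h 0) 1
    have b := congrFun (congrFun h 1) 0
    simp [Matrix.mul_apply, Fin.sum_univ_two] at a b
    have a' : mG g 0 1 = 0 := by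
      have : (2 : F) * mG g 0 1 = 0 := by linear_combination -a
      exact (mul_eq_zero.1 this).resolve_left D.two_ne
    have b' : mG g 1 0 = 0 := by
      have : (2 : F) * mG g 1 0 = 0 := by linear_combination b
      exact (mul_eq_zero.1 this).resolve_left D.two_ne
    have hdet : (mG g).det ≠ 0 := (Matrix.GeneralLinearGroup.det g).ne_zero
    rw [Matrix.det_fin_two, a', zero_mul, sub_zero] at hdet
    refine ⟨(Units.mk0 _ (left_ne_zero_of_mul hdet), Units.mk0 _ (right_ne_zero_of_mul hdet)), ?_⟩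
    rw [MonoidHom.comp_apply]; congr 1
    apply mG_ext; rw [mG_dG]
    ext i j; fin_cases i <;> fin_cases j <;> simp [a', b']

/-- `C(t) ∩ C(u)` is the torus. -/
theorem cent_u [D.Exact] {x : G} : x ∈ D.T ↔ x * D.t = D.t * x ∧ x * D.u = D.u * x :=
  ⟨D.T_cent, fun h => D.mem_T_of (D.exists_lift h.1) h.2⟩

theorem T_comm {x y : G} (hx : x ∈ D.T) (hy : y ∈ D.T) : x * y = y * x := by
  obtain ⟨a, rfl⟩ := hx; obtain ⟨b, rfl⟩ := hy
  rw [← map_mul, ← map_mul, mul_comm]

theorem u_mem : D.u ∈ D.T := ⟨(1, -1), rfl⟩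

theorem t_mem : D.t ∈ D.T := ⟨(-1, -1), D.π_neg⟩

theorem orderOf_u : orderOf D.u = 2 := by
  refine orderOf_eq_prime ?_ fun h => D.neg_one_ne ?_
  · rw [sq, u, ← map_mul, ← map_mul]; simp [D.dG_one]
  · have h1 := D.ker_pow_ne (g := dG (1, -1)) (by rw [MonoidHom.mem_ker]; exact h)
      (by rw [← map_mul]; simp [D.dG_one])
    have := congrFun (congrFun (congrArg mG h1) 1) 1
    simp [mG_dG] at this
    exact Units.ext (by simpa using this)

theorem u_ne_t : D.u ≠ D.t := fun h => by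
  have hk : (dG (1, -1) * dG (-1, -1) : GL (Fin 2) F) ∈ D.π.ker := by
    rw [MonoidHom.mem_ker, map_mul, D.π_neg]
    show D.u * D.t = 1
    rw [h]
    have := pow_orderOf_eq_one D.t
    rwa [D.orderOf_t, sq] at this
  have h1 := D.ker_pow_ne hk (by rw [← map_mul, ← map_mul]; simp [D.dG_one])
  have := congrFun (congrFun (congrArg mG h1) 0) 0
  rw [← map_mul] at this
  simp [mG_dG] at this
  exact D.neg_one_ne (Units.ext (by simpa using this))

/-- The torus acts on the root groups. -/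
theorem T_normal_X {h x : G} (hh : h ∈ D.T) (hx : x ∈ D.X) : h * x * h⁻¹ ∈ D.X := by
  obtain ⟨⟨a, b⟩, rfl⟩ := hh
  obtain ⟨c, rfl⟩ := hx
  refine ⟨(a : F) * (b : F)⁻¹ * c, ?_⟩
  simp only
  rw [MonoidHom.comp_apply, eq_mul_inv_iff_mul_eq, φ_apply, φ_apply, ← map_mul, ← map_mul]
  congr 1
  apply mG_ext
  rw [mG_mul, mG_mul, mG_dG, mG_iG, mG_iG]
  ext i j; fin_cases i <;> fin_cases j <;> simp [uS, Matrix.mul_apply, Fin.sum_univ_two]
  field_simp

theorem T_normal_X' {h x : G} (hh : h ∈ D.T) (hx : x ∈ D.X') : h * x * h⁻¹ ∈ D.X' := by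
  obtain ⟨⟨a, b⟩, rfl⟩ := hh
  obtain ⟨c, rfl⟩ := D.mem_X'.1 hx
  refine D.mem_X'.2 ⟨(b : F) * (a : F)⁻¹ * c, ?_⟩
  rw [MonoidHom.comp_apply, eq_mul_inv_iff_mul_eq, φ_apply, φ_apply, ← map_mul, ← map_mul]
  congr 1
  apply mG_ext
  rw [mG_mul, mG_mul, mG_dG, mG_iG, mG_iG]
  ext i j; fin_cases i <;> fin_cases j <;> simp [vS, Matrix.mul_apply, Fin.sum_univ_two]
  field_simp

theorem T_normal_range {h x : G} (hh : h ∈ D.T) (hx : x ∈ D.φ.range) :
    h * x * h⁻¹ ∈ D.φ.range := by
  obtain ⟨g, rfl⟩ := hx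
  induction g using Matrix.SL2.transvection_induction with
  | htransvec i j hij a =>
    fin_cases i <;> fin_cases j
    · exact absurd rfl hij
    · have e : Matrix.SpecialLinearGroup.transvection hij a = (uS a : Matrix.SpecialLinearGroup (Fin 2) F) := by
        apply Subtype.ext; ext i j; fin_cases i <;> fin_cases j <;>
          simp [uS, Matrix.SpecialLinearGroup.transvection, Matrix.transvection]
      obtain ⟨b, hb⟩ := D.T_normal_X hh (D.mem_X.2 ⟨a, rfl⟩)
      exact ⟨uS b, hb.trans (by rw [show uS a = _ from e.symm])⟩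
    · have e : Matrix.SpecialLinearGroup.transvection hij a = (vS a : Matrix.SpecialLinearGroup (Fin 2) F) := by
        apply Subtype.ext; ext i j; fin_cases i <;> fin_cases j <;>
          simp [vS, Matrix.SpecialLinearGroup.transvection, Matrix.transvection]
      obtain ⟨b, hb⟩ := D.mem_X'.1 (D.T_normal_X' hh (D.mem_X'.2 ⟨a, rfl⟩))
      exact ⟨vS b, hb.trans (by rw [show vS a = _ from e.symm])⟩
    · exact absurd rfl hij
  | hmul x z hx hz =>
    rw [map_mul, show h * (D.φ x * D.φ z) * h⁻¹ = (h * D.φ x * h⁻¹) * (h * D.φ z * h⁻¹) by group]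
    exact D.φ.range.mul_mem hx hz

theorem range_le_sup : D.π.range ≤ D.φ.range ⊔ D.T := by
  rintro _ ⟨g, rfl⟩
  set d := Matrix.GeneralLinearGroup.det g
  have hd : Matrix.GeneralLinearGroup.det (g * dG (d⁻¹, 1)) = 1 := by
    have e : Matrix.GeneralLinearGroup.det (dG (d⁻¹, 1) : GL (Fin 2) F) = d⁻¹ := by
      apply Units.ext
      rw [Matrix.GeneralLinearGroup.val_det_apply]
      change (mG (dG (d⁻¹, 1))).det = _
      simp [mG_dG, Matrix.det_fin_two]
    rw [map_mul, e, mul_inv_cancel]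
  have hd' : (mG (g * dG (d⁻¹, 1))).det = 1 := by
    have := congrArg Units.val hd
    rwa [Matrix.GeneralLinearGroup.val_det_apply, Units.val_one] at this
  have e : iG ⟨mG (g * dG (d⁻¹, 1)), hd'⟩ = g * dG (d⁻¹, 1) := mG_ext rfl
  have : D.π g = D.π (iG ⟨mG (g * dG (d⁻¹, 1)), hd'⟩) * D.π (dG (d, 1)) := by
    rw [e, ← map_mul, mul_assoc, ← map_mul dG]; simp [D.dG_one]
  rw [this]
  exact mul_mem (le_sup_left (b := D.T) ⟨_, rfl⟩) (le_sup_right (a := D.φ.range) ⟨_, rfl⟩)

theorem cent_le [D.Exact] : centralizer ({D.t} : Set G) ≤ D.φ.range ⊔ D.T :=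
  D.range_eq ▸ D.range_le_sup

theorem φ_inj_root {a : F} (h : D.φ (uS a) = 1) : a = 0 := by
  have := D.scalar_of_center (D.ker_center (MonoidHom.mem_ker.2 h))
  have h' : (uS a : Matrix.SpecialLinearGroup (Fin 2) F).1 0 1 = 0 := this.1
  simpa [uS] using h'

theorem card_X : Nat.card D.X = Fintype.card F := by
  have hinj : Function.Injective fun a : F => D.φ (uS a) := fun a b h => by
    have h' : D.φ (uS (a - b)) = 1 := by
      have e : D.φ (uS (a - b)) * D.φ (uS b) = D.φ (uS a) := by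
        rw [← map_mul, uS_add, sub_add_cancel]
      rw [show D.φ (uS b) = D.φ (uS a) from h.symm] at e
      simpa using e
    exact sub_eq_zero.1 (D.φ_inj_root h')
  rw [← Nat.card_eq_fintype_card]
  exact Nat.card_congr (Equiv.ofInjective _ hinj).symm

/-- Centraliser of a root element in the image. -/
theorem cent_root_of {x : G} {a : F} (ha : a ≠ 0) (hx : ∃ g, D.π g = x)
    (hc : x * D.φ (uS a) = D.φ (uS a) * x) :
    ∃ (b : Fˣ) (c : F), x = D.π (dG (b, b)) * D.φ (uS c) := by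
  obtain ⟨g, rfl⟩ := hx
  have h := congrArg mG (D.comm_lift (g := g) (h := iG (uS a)) hc)
  rw [mG_mul, mG_mul, mG_iG] at h
  have e0 := congrFun (congrFun h 0) 0
  have e1 := congrFun (congrFun h 0) 1
  simp [uS, Matrix.mul_apply, Fin.sum_univ_two] at e0 e1
  have h10 : mG g 1 0 = 0 := e0.resolve_left ha
  have h11 : mG g 0 0 = mG g 1 1 := mul_right_cancel₀ ha (by linear_combination e1)
  have hdet : (mG g).det ≠ 0 := (Matrix.GeneralLinearGroup.det g).ne_zero
  rw [Matrix.det_fin_two, h10, mul_zero, sub_zero] at hdet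
  refine ⟨Units.mk0 _ (left_ne_zero_of_mul hdet), mG g 0 1 * (mG g 0 0)⁻¹, ?_⟩
  rw [φ_apply, ← map_mul]; congr 1
  apply mG_ext
  rw [mG_mul, mG_dG, mG_iG]
  ext i j; fin_cases i <;> fin_cases j <;>
    simp [uS, h10, ← h11, Matrix.mul_apply, Fin.sum_univ_two]
  field_simp [left_ne_zero_of_mul hdet]

/-- Centraliser of a root element in `C(t)`. -/
theorem cent_root [D.Exact] {x : G} {a : F} (ha : a ≠ 0) (hx : x * D.t = D.t * x)
    (hc : x * D.φ (uS a) = D.φ (uS a) * x) :
    ∃ (b : Fˣ) (c : F), x = D.π (dG (b, b)) * D.φ (uS c) :=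
  D.cent_root_of ha (D.exists_lift hx) hc

end LData

end Cfsg.Agent.LThreeRec
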