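import Cfsg.Agent.Lib.LThreeRec.Basic
import Mathlib.LinearAlgebra.Matrix.GeneralLinearGroup.Card

/-!
# Characterising `PSL(3, q)`: a congruence for the number of involutions

`Hyp.index_congr`: for `q % 4 = 3` the number `J` of involutions is congruent to `N² - N + 1`, `N = q(q+1)`,
modulo the 2-part of `|C(t)|`.
-/

set_option autoImplicit false
set_option linter.unusedSectionVars false

namespace Cfsg.Agent.LThreeRec

open Matrix Subgroup

/-- The conjugates of `x` under `K`. -/
theorem card_conj_set {G : Type*} [Group G] (K : Subgroup G) (x : G) :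
    Nat.card {y : G // ∃ c ∈ K, c * x * c⁻¹ = y} = (centralizer {x}).relIndex K := by
  rw [relIndex, index, eq_comm]
  refine Nat.card_congr (Equiv.ofBijective
    (Quotient.lift (fun c : K => (⟨(c : G) * x * (c : G)⁻¹, c, c.2, rfl⟩ : {y : G // ∃ c ∈ K, c * x * c⁻¹ = y}))
      ?_) ⟨?_, ?_⟩)
  · intro a b hab
    have h := mem_centralizer_singleton_iff.1 (mem_subgroupOf.1 (QuotientGroup.leftRel_apply.1 hab))
    apply Subtype.ext
    simp only [Subgroup.coe_mul, InvMemClass.coe_inv] at h ⊢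
    calc (a : G) * x * (a : G)⁻¹ = (a : G) * (x * ((a : G)⁻¹ * b)) * (b : G)⁻¹ := by group
      _ = (b : G) * x * (b : G)⁻¹ := by rw [← h]; group
  · intro a b
    induction a using Quotient.inductionOn with | _ a => ?_
    induction b using Quotient.inductionOn with | _ b => ?_
    intro hab
    have h : (a : G) * x * (a : G)⁻¹ = (b : G) * x * (b : G)⁻¹ := congrArg Subtype.val hab
    refine Quotient.sound (QuotientGroup.leftRel_apply.2 (mem_subgroupOf.2 (mem_centralizer_singleton_iff.2 ?_)))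
    simp only [Subgroup.coe_mul, InvMemClass.coe_inv]
    calc (a : G)⁻¹ * b * x = (a : G)⁻¹ * ((b : G) * x * (b : G)⁻¹) * b := by group
      _ = x * ((a : G)⁻¹ * b) := by rw [← h]; group
  · rintro ⟨y, c, hc, rfl⟩
    exact ⟨Quotient.mk _ ⟨c, hc⟩, rfl⟩

universe u

variable {F : Type*} [Field F]

namespace Hyp

variable {G : Type u} [Group G] (H : Hyp F G) [H.Exact]
include H

/-- The index of `T` in `C(t)`. -/
theorem relIndex_T [Fintype F] [Finite G] :
    H.T.relIndex (centralizer {H.t}) = Fintype.card F * (Fintype.card F + 1) := by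
  classical
  have hker : H.π.ker ≤ (dg (F := F)).range := fun k hk => by
    obtain ⟨a, b, -⟩ := center_scalar (H.ker_le hk)
    exact mem_dg a b
  have h1 : H.T.relIndex (centralizer {H.t}) * (centralizer {H.t}).index = H.T.index :=
    relIndex_mul_index H.T_le
  have h2 : H.T.index = (dg (F := F)).range.index * (centralizer {H.t}).index := by
    rw [T, index_map, sup_eq_left.2 hker, H.range_t]
  have h0 : 0 < (centralizer {H.t}).index := Nat.pos_of_ne_zero index_ne_zero_of_finite
  have h3 : H.T.relIndex (centralizer {H.t}) = (dg (F := F)).range.index :=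
    Nat.eq_of_mul_eq_mul_right h0 (h1.trans h2)
  rw [h3]
  have h4 := (dg (F := F)).range.card_mul_index
  rw [← Nat.card_congr (MonoidHom.ofInjective dg_injective).toEquiv, Nat.card_prod, Nat.card_units,
    Matrix.card_GL_field, Fin.prod_univ_two, Nat.card_eq_fintype_card] at h4
  simp only [Fin.val_zero, Fin.val_one, pow_zero, pow_one] at h4
  obtain ⟨r, hr⟩ := Nat.exists_eq_add_of_lt (Fintype.one_lt_card (α := F))
  rw [hr] at h4 ⊢
  have e1 : (1 + r + 1) ^ 2 - 1 = (1 + r) * (1 + r + 1 + 1) := by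
    apply Nat.sub_eq_of_eq_add; ring
  have e2 : (1 + r + 1) ^ 2 - (1 + r + 1) = (1 + r) * (1 + r + 1) := by
    apply Nat.sub_eq_of_eq_add; ring
  rw [show 1 + r + 1 - 1 = 1 + r from rfl, e1, e2] at h4
  exact Nat.eq_of_mul_eq_mul_left (show 0 < (1 + r) * (1 + r) by positivity) (h4.trans (by ring))

/-- Elements of `T` of 2-power order come from the elements of 2-power order of the diagonal. -/
theorem exists_lift_T {x : G} (hx : x ∈ H.T) {k : ℕ} (hk : x ^ 2 ^ k = 1) :
    ∃ a : Fˣ × Fˣ, a ^ 2 ^ k = 1 ∧ H.π (dg a) = x := by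
  obtain ⟨_, ⟨a, rfl⟩, rfl⟩ := hx
  set c := Nat.card H.π.ker
  obtain ⟨m, hm⟩ : ∃ m, c = 2 * m + 1 := H.ker_odd
  -- the kernel part of `dg a ^ 2 ^ k`
  have hker : (⟨dg a ^ 2 ^ k, by rw [MonoidHom.mem_ker, map_pow, hk]⟩ : H.π.ker) ^ c = 1 := pow_card_eq_one'
  have hpow : a ^ (2 ^ k * c) = 1 := dg_injective (by
    rw [map_pow, pow_mul, map_one]
    exact congrArg Subtype.val hker)
  -- an exponent congruent to 1 modulo `2 ^ k` and divisible by `c`
  obtain ⟨e, he⟩ : ∃ e, (c * e) % 2 ^ k = 1 % 2 ^ k := by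
    refine ⟨c ^ ((2 ^ k).totient - 1), ?_⟩
    rw [← pow_succ', Nat.sub_add_cancel (Nat.totient_pos.2 (Nat.two_pow_pos k))]
    exact Nat.ModEq.pow_totient (by rw [hm]; exact Nat.Coprime.pow_right k (by simp))
  refine ⟨a ^ (c * e), ?_, ?_⟩
  · rw [← pow_mul, show c * e * 2 ^ k = 2 ^ k * c * e by ring, pow_mul, hpow, one_pow]
  · have hdiv : orderOf (H.π (dg a)) ∣ 2 ^ k := orderOf_dvd_of_pow_eq_one hk
    rw [map_pow, map_pow]
    conv_rhs => rw [← pow_one (H.π (dg a))]
    exact pow_eq_pow_iff_modEq.2 ((Nat.ModEq.of_dvd hdiv) he)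

/-- The involutions of `T`. -/
theorem invol_T {x : G} (hx : x ∈ H.T) (h2 : orderOf x = 2) : x = H.t ∨ x = H.s ∨ x = H.t * H.s := by
  obtain ⟨⟨a, b⟩, ha, rfl⟩ := H.exists_lift_T hx (k := 1) (by rw [pow_one, pow_two, Involution.mul_self h2])
  have ha1 : (a : F) = 1 ∨ (a : F) = -1 := mul_self_eq_one_iff.1 (by
    have := congrArg (fun z : Fˣ × Fˣ => (z.1 : F)) ha
    simpa [pow_two] using this)
  have hb1 : (b : F) = 1 ∨ (b : F) = -1 := mul_self_eq_one_iff.1 (by
    have := congrArg (fun z : Fˣ × Fˣ => (z.2 : F)) ha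
    simpa [pow_two] using this)
  have hu : ∀ {z : Fˣ}, ((z : F) = 1 ∨ (z : F) = -1) → z = 1 ∨ z = -1 := fun h =>
    h.imp (fun e => Units.ext e) (fun e => Units.ext (by simpa using e))
  rcases hu ha1 with rfl | rfl <;> rcases hu hb1 with rfl | rfl
  · exact absurd (by rw [← Prod.one_eq_mk, map_one, map_one]) (Involution.ne_one h2)
  · exact Or.inr (Or.inl rfl)
  · refine Or.inr (Or.inr ?_)
    rw [t, s, gt, gs, ← map_mul, ← map_mul]
    simp
  · exact Or.inl rfl

section Finite

variable [Fintype F] [Finite G] [IsSimpleGroup G]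

/-- For `q % 4 = 3`, elements of 2-power order of `T` have square one. -/
theorem sq_eq_one_T (h3 : Fintype.card F % 4 = 3) {x : G} (hx : x ∈ H.T) {k : ℕ} (hk : x ^ 2 ^ k = 1) :
    x * x = 1 := by
  classical
  obtain ⟨a, ha, rfl⟩ := H.exists_lift_T hx hk
  have key : ∀ z : Fˣ, z ^ 2 ^ k = 1 → z ^ 2 = 1 := by
    intro z hz
    refine orderOf_dvd_iff_pow_eq_one.1 ?_
    obtain ⟨j, -, hj⟩ := (Nat.dvd_prime_pow Nat.prime_two).1 (orderOf_dvd_of_pow_eq_one hz)
    have h1 : orderOf z ∣ Fintype.card F - 1 := Fintype.card_units F ▸ orderOf_dvd_card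
    rw [hj] at h1 ⊢
    rcases Nat.lt_or_ge j 2 with hj2 | hj2
    · exact (pow_dvd_pow 2 (show j ≤ 1 by omega)).trans (by rw [pow_one])
    · exfalso
      have h4 : 4 ∣ Fintype.card F - 1 := (pow_dvd_pow 2 hj2).trans h1
      omega
  have : a * a = 1 := Prod.ext
    (by rw [Prod.fst_mul, ← pow_two]; exact key _ (congrArg Prod.fst ha))
    (by rw [Prod.snd_mul, ← pow_two]; exact key _ (congrArg Prod.snd ha))
  rw [← map_mul, ← map_mul, this, map_one, map_one]

/-- A noncentral involution of `C(t)`: what commutes with it there. -/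
theorem cent_z {z : G} (hz : orderOf z = 2) (hzC : z ∈ centralizer {H.t}) (hzt : z ≠ H.t)
    {x : G} (hxC : x ∈ centralizer {H.t}) (hxz : x * z = z * x) :
    (orderOf x = 2 → x = H.t ∨ x = z ∨ x = H.t * z) ∧
      (Fintype.card F % 4 = 3 → ∀ k, x ^ 2 ^ k = 1 → x * x = 1) := by
  obtain ⟨c, hc, hcz⟩ := H.exists_conj_s hzC hz hzt
  have hct : c * H.t = H.t * c := mem_centralizer_singleton_iff.1 hc
  have hy : c⁻¹ * x * c ∈ H.T := H.mem_T_iff.2 ⟨mul_mem (mul_mem (inv_mem hc) hxC) hc, by
    rw [← hcz] at hxz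
    calc c⁻¹ * x * c * H.s = c⁻¹ * (x * (c * H.s * c⁻¹)) * c := by group
      _ = H.s * (c⁻¹ * x * c) := by rw [hxz]; group⟩
  refine ⟨fun h2 => ?_, fun h3 k hk => ?_⟩
  · have h2' : orderOf (c⁻¹ * x * c) = 2 := by
      simpa [h2] using Involution.orderOf_conj c⁻¹ x
    have hx : x = c * (c⁻¹ * x * c) * c⁻¹ := by group
    rcases H.invol_T hy h2' with e | e | e <;> rw [e] at hx
    · exact Or.inl (by rw [hx, hct, mul_inv_cancel_right])
    · exact Or.inr (Or.inl (hx.trans hcz))
    · refine Or.inr (Or.inr ?_)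
      rw [hx, ← hcz, ← mul_assoc, hct]
      group
  · have hk' : (c⁻¹ * x * c) ^ 2 ^ k = 1 := by
      have := conj_pow (i := 2 ^ k) (a := c⁻¹) (b := x)
      rw [inv_inv] at this
      rw [this, hk]; group
    have := H.sq_eq_one_T h3 hy hk'
    calc x * x = c * ((c⁻¹ * x * c) * (c⁻¹ * x * c)) * c⁻¹ := by group
      _ = 1 := by rw [this]; group

/-- The 2-adic congruence for the number of involutions. -/
theorem index_congr (h3 : Fintype.card F % 4 = 3) :
    ((2 ^ (Nat.card (centralizer {H.t})).factorization 2 : ℕ) : ℤ) ∣ ((centralizer {H.t}).index : ℤ) -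
      (((Fintype.card F * (Fintype.card F + 1) : ℕ) : ℤ) ^ 2 - ((Fintype.card F * (Fintype.card F + 1) : ℕ) : ℤ) + 1) := by
  classical
  haveI : Fintype G := Fintype.ofFinite G
  haveI : Fact (Nat.Prime 2) := ⟨Nat.prime_two⟩
  set C := centralizer ({H.t} : Set G) with hC
  set N := Fintype.card F * (Fintype.card F + 1) with hN
  set a := (Nat.card C).factorization 2
  have hCt : ∀ {x : G}, x ∈ C ↔ x * H.t = H.t * x := mem_centralizer_singleton_iff
  have htC : H.t ∈ C := hCt.2 rfl
  let Z := Finset.univ.filter fun x : G => orderOf x = 2 ∧ x ∈ C ∧ x ≠ H.t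
  let I' := Finset.univ.filter fun x : G => orderOf x = 2 ∧ x ∉ C
  let μ : G → ℕ := fun i => (Z.filter fun z => i * z = z * i).card
  have hZ : Z.card = N := by
    rw [hN, ← H.relIndex_T, show H.T.relIndex C = (centralizer {H.s}).relIndex C by
      rw [← inf_relIndex_right (centralizer {H.s}) C]
      congr 1
      ext x
      rw [H.mem_T_iff, mem_inf, and_comm, hCt, mem_centralizer_singleton_iff], ← card_conj_set,
      Nat.card_eq_fintype_card, Fintype.card_subtype]
    refine congrArg Finset.card (Finset.filter_congr fun x _ => ?_)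
    refine ⟨fun ⟨h2, hxC, hxt⟩ => H.exists_conj_s hxC h2 hxt, ?_⟩
    rintro ⟨c, hc, rfl⟩
    refine ⟨by rw [Involution.orderOf_conj, H.s_order], mul_mem (mul_mem hc H.s_mem) (inv_mem hc), fun e => ?_⟩
    exact H.s_ne_t (mul_left_cancel (mul_right_cancel (e.trans
      (show H.t = c * H.t * c⁻¹ by rw [hCt.1 hc, mul_inv_cancel_right]))))
  have hJ : (Finset.univ.filter fun x : G => orderOf x = 2).card = C.index := by
    rw [hC, ← relIndex_top_right, ← card_conj_set, Nat.card_eq_fintype_card, Fintype.card_subtype]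
    refine congrArg Finset.card (Finset.filter_congr fun x _ => ?_)
    refine ⟨fun h => ?_, fun ⟨c, _, e⟩ => by rw [← e, Involution.orderOf_conj, H.t_order]⟩
    obtain ⟨c, hc⟩ := isConj_iff.1 (H.isConj_t h)
    exact ⟨c, mem_top c, hc⟩
  have hsplit : (Finset.univ.filter fun x : G => orderOf x = 2) = insert H.t Z ∪ I' := by
    ext x
    simp only [Z, I', Finset.mem_union, Finset.mem_insert, Finset.mem_filter, Finset.mem_univ, true_and]
    constructor
    · intro h
      by_cases hx : x ∈ C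
      · by_cases e : x = H.t
        · exact Or.inl (Or.inl e)
        · exact Or.inl (Or.inr ⟨h, hx, e⟩)
      · exact Or.inr ⟨h, hx⟩
    · rintro ((rfl | h) | h)
      exacts [H.t_order, h.1, h.1]
  have hI : C.index = 1 + N + I'.card := by
    rw [← hJ, hsplit, Finset.card_union_of_disjoint, Finset.card_insert_of_notMem (by simp [Z]), hZ]
    · ring
    · rw [Finset.disjoint_left]
      intro x hx hx'
      rcases Finset.mem_insert.1 hx with rfl | h
      · exact (Finset.mem_filter.1 hx').2.2 htC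
      · exact (Finset.mem_filter.1 hx').2.2 (Finset.mem_filter.1 h).2.2.1
  -- each noncentral involution of `C` commutes with `N - 2` involutions outside
  have hinC : ∀ z ∈ Z, (I'.filter fun i => i * z = z * i).card + 3 = 1 + N := by
    intro z hz
    obtain ⟨hz2, hzC, hzt⟩ := (Finset.mem_filter.1 hz).2
    obtain ⟨g, hg⟩ := isConj_iff.1 (H.isConj_t hz2)
    have hcomm : ∀ x : G, (g * x * g⁻¹) * z = z * (g * x * g⁻¹) ↔ x * H.t = H.t * x := by
      intro x
      rw [← hg]
      constructor <;> intro h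
      · calc x * H.t = g⁻¹ * (g * x * g⁻¹ * (g * H.t * g⁻¹)) * g := by group
          _ = H.t * x := by rw [h]; group
      · calc g * x * g⁻¹ * (g * H.t * g⁻¹) = g * (x * H.t) * g⁻¹ := by group
          _ = g * H.t * g⁻¹ * (g * x * g⁻¹) := by rw [h]; group
    have hall : (Finset.univ.filter fun x : G => orderOf x = 2 ∧ x * z = z * x).card = 1 + N := by
      rw [← hZ, add_comm, ← Finset.card_insert_of_notMem (show H.t ∉ Z by simp [Z])]
      refine Finset.card_bij' (fun x _ => g⁻¹ * x * g) (fun x _ => g * x * g⁻¹) ?_ ?_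
        (fun x _ => by group) (fun x _ => by group)
      · intro x hx
        obtain ⟨h2, hxz⟩ := (Finset.mem_filter.1 hx).2
        rw [show x = g * (g⁻¹ * x * g) * g⁻¹ by group, hcomm] at hxz
        simp only [Z, Finset.mem_insert, Finset.mem_filter, Finset.mem_univ, true_and]
        by_cases e : g⁻¹ * x * g = H.t
        · exact Or.inl e
        · exact Or.inr ⟨by rw [← h2]; simpa using Involution.orderOf_conj g⁻¹ x, hCt.2 hxz, e⟩
      · intro x hx
        refine Finset.mem_filter.2 ⟨Finset.mem_univ _, ?_, (hcomm x).2 ?_⟩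
        · rw [Involution.orderOf_conj]
          rcases Finset.mem_insert.1 hx with rfl | h
          exacts [H.t_order, (Finset.mem_filter.1 h).2.1]
        · rcases Finset.mem_insert.1 hx with rfl | h
          exacts [rfl, hCt.1 (Finset.mem_filter.1 h).2.2.1]
    have htz : H.t * z = z * H.t := (hCt.1 hzC).symm
    have ho : orderOf (H.t * z) = 2 := by
      refine Involution.orderOf_of_sq ?_ fun e => hzt ?_
      · rw [mul_assoc, ← mul_assoc z, ← htz, mul_assoc, Involution.mul_self hz2, mul_one, Involution.mul_self H.t_order]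
      · rw [← mul_one H.t, ← e, ← mul_assoc, Involution.mul_self H.t_order, one_mul]
    have h3' : ({H.t, z, H.t * z} : Finset G).card = 3 := by
      rw [Finset.card_insert_of_notMem, Finset.card_pair (fun e => Involution.ne_one H.t_order (right_eq_mul.1 e))]
      simp only [Finset.mem_insert, Finset.mem_singleton, not_or]
      exact ⟨hzt.symm, fun e => Involution.ne_one hz2 (left_eq_mul.1 e)⟩
    rw [← hall, ← h3', ← Finset.card_union_of_disjoint]
    · congr 1
      ext x
      simp only [I', Finset.mem_union, Finset.mem_filter, Finset.mem_univ, true_and, Finset.mem_insert,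
        Finset.mem_singleton]
      constructor
      · rintro (⟨⟨h2, -⟩, hxz⟩ | rfl | rfl | rfl)
        · exact ⟨h2, hxz⟩
        · exact ⟨H.t_order, htz⟩
        · exact ⟨hz2, rfl⟩
        · exact ⟨ho, by rw [← mul_assoc, ← htz, mul_assoc]⟩
      · rintro ⟨h2, hxz⟩
        by_cases hx : x ∈ C
        · exact Or.inr ((H.cent_z hz2 hzC hzt hx hxz).1 h2)
        · exact Or.inl ⟨⟨h2, hx⟩, hxz⟩
    · rw [Finset.disjoint_left]
      intro x hx hx'
      have hxC := (Finset.mem_filter.1 (Finset.mem_filter.1 hx).1).2.2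
      simp only [Finset.mem_insert, Finset.mem_singleton] at hx'
      rcases hx' with rfl | rfl | rfl
      exacts [hxC htC, hxC hzC, hxC (mul_mem htC hzC)]
  have hpairs : ((∑ i ∈ I', μ i : ℕ) : ℤ) = (N : ℤ) * ((N : ℤ) - 2) := by
    have h1 : ∑ i ∈ I', μ i = ∑ z ∈ Z, (I'.filter fun i => i * z = z * i).card := by
      simp only [μ, Finset.card_filter]
      exact Finset.sum_comm
    have h2 : ∀ z ∈ Z, ((I'.filter fun i => i * z = z * i).card : ℤ) = (N : ℤ) - 2 := fun z hz => by
      have := hinC z hz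
      omega
    rw [h1, Nat.cast_sum, Finset.sum_congr rfl h2, Finset.sum_const, hZ, nsmul_eq_mul]
  have hgoal : ((C.index : ℕ) : ℤ) - ((N : ℤ) ^ 2 - (N : ℤ) + 1) = ∑ i ∈ I', (1 - (μ i : ℤ)) := by
    rw [Finset.sum_sub_distrib, Finset.sum_const, nsmul_eq_mul, mul_one, ← Nat.cast_sum, hpairs, hI]
    push_cast
    ring
  rw [hgoal]
  -- orbits of `C`
  let O : G → Finset G := fun i => Finset.univ.filter fun x => ∃ c ∈ C, c * i * c⁻¹ = x
  have hmem : ∀ {i c : G}, i ∈ I' → c ∈ C → c * i * c⁻¹ ∈ I' := fun {i c} hi hc => by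
    obtain ⟨h2, hiC⟩ := (Finset.mem_filter.1 hi).2
    refine Finset.mem_filter.2 ⟨Finset.mem_univ _, by rw [Involution.orderOf_conj, h2], fun h => hiC ?_⟩
    simpa [mul_assoc] using mul_mem (mul_mem (inv_mem hc) h) hc
  have hμ : ∀ {i c : G}, c ∈ C → μ (c * i * c⁻¹) = μ i := fun {i c} hc => by
    have hct := hCt.1 hc
    refine Finset.card_bij' (fun x _ => c⁻¹ * x * c) (fun x _ => c * x * c⁻¹) ?_ ?_
      (fun x _ => by group) (fun x _ => by group)
    · intro x hx
      obtain ⟨hxZ, hxi⟩ := Finset.mem_filter.1 hx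
      obtain ⟨h2, hxC, hxt⟩ := (Finset.mem_filter.1 hxZ).2
      refine Finset.mem_filter.2 ⟨Finset.mem_filter.2 ⟨Finset.mem_univ _, ?_, mul_mem (mul_mem (inv_mem hc) hxC) hc,
        fun e => hxt ?_⟩, ?_⟩
      · rw [← h2]; simpa using Involution.orderOf_conj c⁻¹ x
      · calc x = c * (c⁻¹ * x * c) * c⁻¹ := by group
          _ = H.t := by rw [e, hct, mul_inv_cancel_right]
      · calc i * (c⁻¹ * x * c) = c⁻¹ * ((c * i * c⁻¹) * x) * c := by group
          _ = c⁻¹ * x * c * i := by rw [hxi]; group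
    · intro x hx
      obtain ⟨hxZ, hxi⟩ := Finset.mem_filter.1 hx
      obtain ⟨h2, hxC, hxt⟩ := (Finset.mem_filter.1 hxZ).2
      refine Finset.mem_filter.2 ⟨Finset.mem_filter.2 ⟨Finset.mem_univ _, by rw [Involution.orderOf_conj, h2],
        mul_mem (mul_mem hc hxC) (inv_mem hc), fun e => hxt ?_⟩, ?_⟩
      · calc x = c⁻¹ * (c * x * c⁻¹) * c := by group
          _ = c⁻¹ * (H.t * c) := by rw [e]; group
          _ = H.t := by rw [← hct]; group
      · calc c * i * c⁻¹ * (c * x * c⁻¹) = c * (i * x) * c⁻¹ := by group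
          _ = c * x * c⁻¹ * (c * i * c⁻¹) := by rw [hxi]; group
  rw [← Finset.sum_fiberwise_of_maps_to (g := O) (t := I'.image O) (fun i hi => Finset.mem_image_of_mem _ hi)]
  refine Finset.dvd_sum fun o ho => ?_
  obtain ⟨i, hi, rfl⟩ := Finset.mem_image.1 ho
  have hfib : (I'.filter fun x => O x = O i) = O i := by
    ext x
    simp only [Finset.mem_filter, O, Finset.mem_univ, true_and]
    constructor
    · rintro ⟨-, e⟩
      have : x ∈ Finset.univ.filter fun y => ∃ c ∈ C, c * x * c⁻¹ = y :=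
        Finset.mem_filter.2 ⟨Finset.mem_univ _, 1, one_mem _, by simp⟩
      rw [e] at this
      exact (Finset.mem_filter.1 this).2
    · rintro ⟨c, hc, rfl⟩
      refine ⟨hmem hi hc, Finset.filter_congr fun y _ => ⟨?_, ?_⟩⟩
      · rintro ⟨d, hd, rfl⟩
        exact ⟨d * c, mul_mem hd hc, by group⟩
      · rintro ⟨d, hd, rfl⟩
        exact ⟨d * c⁻¹, mul_mem hd (inv_mem hc), by group⟩
  rw [hfib, Finset.sum_congr rfl (g := fun _ => 1 - (μ i : ℤ)) (fun x hx => by
    obtain ⟨c, hc, rfl⟩ := (Finset.mem_filter.1 hx).2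
    rw [hμ hc]), Finset.sum_const, nsmul_eq_mul]
  set S := C ⊓ centralizer ({i} : Set G) with hS
  obtain ⟨hi2, hiC⟩ := (Finset.mem_filter.1 hi).2
  have horb : (O i).card * Nat.card S = Nat.card C := by
    have e1 : Nat.card ((centralizer ({i} : Set G)).subgroupOf C) = Nat.card S := by
      rw [← inf_subgroupOf_right, Nat.card_congr (subgroupOfEquivOfLe inf_le_right).toEquiv, hS, inf_comm]
    have e2 : (O i).card = (centralizer ({i} : Set G)).relIndex C := by
      rw [← card_conj_set, Nat.card_eq_fintype_card, Fintype.card_subtype]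
    rw [e2, ← e1, mul_comm]
    exact ((centralizer ({i} : Set G)).subgroupOf C).card_mul_index
  have hSmem : ∀ {x : G}, x ∈ S → x ∈ C ∧ x * i = i * x := fun hx =>
    ⟨(mem_inf.1 hx).1, mem_centralizer_singleton_iff.1 (mem_inf.1 hx).2⟩
  have hSinv : ∀ {x : G}, x ∈ S → orderOf x = 2 → x ∈ Z.filter fun z => i * z = z * i := fun {x} hx h2 => by
    obtain ⟨hxC, hxi⟩ := hSmem hx
    refine Finset.mem_filter.2 ⟨Finset.mem_filter.2 ⟨Finset.mem_univ _, h2, hxC, fun e => hiC (hCt.2 ?_)⟩, hxi.symm⟩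
    rw [← e]; exact hxi.symm
  have hSne : ∀ {x z : G}, z ∈ S → x ∈ S → orderOf z = 2 → orderOf x = 2 → x * z = z * x → x = z := by
    intro x z hz hx hz2 hx2 hxz
    obtain ⟨-, hzC, hzt⟩ := (Finset.mem_filter.1 (Finset.mem_filter.1 (hSinv hz hz2)).1).2
    obtain ⟨-, -, hxt⟩ := (Finset.mem_filter.1 (Finset.mem_filter.1 (hSinv hx hx2)).1).2
    rcases (H.cent_z hz2 hzC hzt (hSmem hx).1 hxz).1 hx2 with e | e | e
    · exact absurd e hxt
    · exact e
    · exfalso
      have htS : H.t ∈ S := by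
        have := mul_mem hx (inv_mem hz)
        rwa [e, mul_inv_cancel_right] at this
      exact hiC (hCt.2 (hSmem htS).2.symm)
  have h2a : 2 ^ a ∣ (O i).card * Nat.card S := horb ▸ Nat.ordProj_dvd _ 2
  by_cases hev : 2 ∣ Nat.card S
  · -- the Sylow 2-subgroups of `S` have order 2
    obtain ⟨⟨z, hzS⟩, hz⟩ := exists_prime_orderOf_dvd_card' 2 hev
    rw [Subgroup.orderOf_mk] at hz
    have h4 : ¬ 4 ∣ Nat.card S := by
      intro h
      obtain ⟨P, hP⟩ := Sylow.exists_subgroup_card_pow_prime 2 (n := 2) (G := S) h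
      obtain ⟨⟨⟨w, hwS⟩, hwP⟩, hw⟩ := exists_prime_orderOf_dvd_card' (G := P) 2 (by rw [hP]; norm_num)
      simp only [Subgroup.orderOf_mk] at hw
      obtain ⟨-, hwC, hwt⟩ := (Finset.mem_filter.1 (Finset.mem_filter.1 (hSinv hwS hw)).1).2
      have hall : ∀ x : P, ((x : S) : G) = 1 ∨ ((x : S) : G) = w := by
        intro x
        have hc := congrArg (fun y : P => ((y : S) : G))
          (IsPGroup.commutative_of_card_eq_prime_sq (p := 2) hP x ⟨⟨w, hwS⟩, hwP⟩)
        have hpow : ((x : S) : G) ^ 2 ^ 2 = 1 := by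
          have h5 : x ^ 2 ^ 2 = 1 := hP ▸ pow_card_eq_one' (x := x)
          exact_mod_cast congrArg (fun y : P => ((y : S) : G)) h5
        have hsq := (H.cent_z hw hwC hwt (hSmem (x : S).2).1 hc).2 h3 2 hpow
        by_cases h1 : ((x : S) : G) = 1
        · exact Or.inl h1
        · exact Or.inr (hSne hwS (x : S).2 hw (Involution.orderOf_of_sq hsq h1) hc)
      have : Nat.card P ≤ 2 := by
        refine (Nat.card_le_card_of_injective (fun x : P => decide (((x : S) : G) = 1)) ?_).trans (by simp)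
        intro x y hxy
        apply Subtype.ext; apply Subtype.ext
        rcases hall x with hx | hx <;> rcases hall y with hy | hy <;> simp_all
      omega
    have hodd : Odd (μ i) := by
      have hzm := hSinv hzS hz
      have hzi := (hSmem hzS).2
      rw [Nat.odd_iff]
      have hmemS : ∀ {x : G}, x ∈ Z.filter (fun w => i * w = w * i) → x ∈ S ∧ orderOf x = 2 := fun {x} hx =>
        ⟨mem_inf.2 ⟨(Finset.mem_filter.1 (Finset.mem_filter.1 hx).1).2.2.1,
          mem_centralizer_singleton_iff.2 (Finset.mem_filter.1 hx).2.symm⟩,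
          (Finset.mem_filter.1 (Finset.mem_filter.1 hx).1).2.1⟩
      have hzz := Involution.mul_self hz
      have hev' : ((((Z.filter fun w => i * w = w * i).erase z).card : ℕ) : ZMod 2) = 0 := by
        rw [Finset.cast_card]
        refine Finset.sum_involution (fun x _ => z * x * z⁻¹) (fun _ _ => CharTwo.add_self_eq_zero _) (fun x hx _ e => ?_)
          (fun x hx => ?_) (fun x _ => ?_)
        · obtain ⟨hxz, hx'⟩ := Finset.mem_erase.1 hx
          exact hxz (hSne hzS (hmemS hx').1 hz (hmemS hx').2 (mul_inv_eq_iff_eq_mul.1 e).symm)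
        · obtain ⟨hxz, hx'⟩ := Finset.mem_erase.1 hx
          obtain ⟨hxS, hx2⟩ := hmemS hx'
          refine Finset.mem_erase.2 ⟨fun e => hxz ?_, hSinv (mul_mem (mul_mem hzS hxS) (inv_mem hzS))
            (by rw [Involution.orderOf_conj, hx2])⟩
          calc x = z⁻¹ * (z * x * z⁻¹) * z := by group
            _ = z := by rw [e]; group
        · calc z * (z * x * z⁻¹) * z⁻¹ = (z * z) * x * (z * z)⁻¹ := by group
            _ = x := by rw [hzz]; simp
      have h5 := (ZMod.natCast_eq_zero_iff_even).1 hev'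
      rw [Finset.card_erase_of_mem hzm, Nat.even_iff] at h5
      have := Finset.card_pos.2 ⟨z, hzm⟩
      show (Z.filter fun w => i * w = w * i).card % 2 = 1
      omega
    obtain ⟨o, ho'⟩ := hev
    have ho2 : Nat.Coprime (2 ^ a) o := Nat.Coprime.pow_left a ((Nat.Prime.coprime_iff_not_dvd Nat.prime_two).2
      fun h => h4 (by rw [ho']; exact mul_dvd_mul_left 2 h))
    obtain ⟨b, hb⟩ : (2 : ℤ) ∣ 1 - (μ i : ℤ) := by
      obtain ⟨m, hm⟩ := hodd
      exact ⟨-(m : ℤ), by push_cast [hm]; ring⟩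
    rw [ho', ← mul_assoc] at h2a
    rw [hb, ← mul_assoc]
    exact dvd_mul_of_dvd_left (by exact_mod_cast ho2.dvd_of_dvd_mul_right h2a) b
  · -- `S` has odd order
    refine dvd_mul_of_dvd_left ?_ _
    exact_mod_cast (Nat.Coprime.pow_left a ((Nat.Prime.coprime_iff_not_dvd Nat.prime_two).2 hev)).dvd_of_dvd_mul_right h2a

end Finite

end Hyp

end Cfsg.Agent.LThreeRec
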