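import Cfsg.Agent.EqLemmas
import Mathlib.GroupTheory.GroupAction.Quotient
import Mathlib.NumberTheory.Padics.PadicVal.Basic
import Mathlib.Data.ZMod.Basic
import Mathlib.Tactic

/-!
# Counting for the abelian case of the recognition of `PSL₃(q)` (helper60, S0484)
-/

set_option autoImplicit false
set_option linter.style.haveILetI false

namespace Cfsg.Agent.LThreeRec

/-- Fixed points plus orbits of length divisible by `m`. -/
theorem dvd_card_sub_fixed {Γ α : Type*} [Group Γ] [MulAction Γ α] [Finite α] (F0 : Finset α)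
    (m : ℕ) (hfix : ∀ x ∈ F0, ∀ g : Γ, g • x = x)
    (hrest : ∀ x, x ∉ F0 → m ∣ Nat.card (MulAction.orbit Γ x)) :
    (m : ℤ) ∣ (Nat.card α : ℤ) - F0.card := by
  classical
  haveI := Fintype.ofFinite α
  haveI := Fintype.ofFinite (Quotient (MulAction.orbitRel Γ α))
  have hcard : Nat.card α = ∑ ω : Quotient (MulAction.orbitRel Γ α), Nat.card (MulAction.orbit Γ ω.out) := by
    rw [Nat.card_congr (MulAction.selfEquivSigmaOrbits Γ α), Nat.card_sigma]
  have hsing : ∀ x ∈ F0, MulAction.orbit Γ x = {x} := fun x hx => by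
    ext y
    refine ⟨fun ⟨g, hg⟩ => hg ▸ hfix x hx g, fun hy => ?_⟩
    rw [Set.mem_singleton_iff] at hy
    rw [hy]
    exact MulAction.mem_orbit_self x
  set f : α → Quotient (MulAction.orbitRel Γ α) := fun x => Quotient.mk'' x with hf
  have hout : ∀ x ∈ F0, (f x).out = x := fun x hx => by
    have h : (f x).out ∈ MulAction.orbit Γ x := Quotient.exact' (Quotient.out_eq' (f x))
    rwa [hsing x hx] at h
  have hinj : Set.InjOn f F0 := fun x hx y hy h => by rw [← hout x hx, ← hout y hy, h]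
  have hz : ((Nat.card α : ℕ) : ZMod m) = (F0.card : ZMod m) := by
    have h0 : ∀ ω ∈ (Finset.univ : Finset (Quotient (MulAction.orbitRel Γ α))), ω ∉ F0.image f →
        ((Nat.card (MulAction.orbit Γ ω.out) : ℕ) : ZMod m) = 0 := fun ω _ hω => by
      rw [ZMod.natCast_eq_zero_iff]
      exact hrest _ fun h => hω (Finset.mem_image.2 ⟨_, h, Quotient.out_eq' ω⟩)
    have h1 : ∀ x ∈ F0, ((Nat.card (MulAction.orbit Γ (f x).out) : ℕ) : ZMod m) = 1 := fun x hx => by
      rw [hout x hx, hsing x hx]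
      simp
    rw [hcard, Nat.cast_sum, ← Finset.sum_subset (Finset.subset_univ (F0.image f)) h0,
      Finset.sum_image hinj, Finset.sum_congr rfl h1, Finset.sum_const, nsmul_one]
  rw [← ZMod.intCast_zmod_eq_zero_iff_dvd]
  push_cast
  rw [hz, sub_self]

/-- The possible indices. -/
theorem index_cases {q I n : ℕ} (hq : 2 ≤ q) (h : I * n = (q + 1) * (q ^ 2 + q + 1))
    (hI : (q : ℤ) ∣ (I : ℤ) - 1) (hn : (q : ℤ) ∣ (n : ℤ) - 1) :
    I = 1 ∨ I = q + 1 ∨ I = q ^ 2 + q + 1 ∨ I = (q + 1) * (q ^ 2 + q + 1) := by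
  obtain ⟨a, ha⟩ := hI
  obtain ⟨b, hb⟩ := hn
  have hI0 : I ≠ 0 := fun e => by rw [e] at h; simp at h
  have hn0 : n ≠ 0 := fun e => by rw [e] at h; simp at h
  have hq0 : (0 : ℤ) < q := by exact_mod_cast (by omega : 0 < q)
  have ha0 : 0 ≤ a := by
    by_contra hneg
    have h1 : (q : ℤ) * a ≤ (q : ℤ) * (-1) := mul_le_mul_of_nonneg_left (by omega) hq0.le
    omega
  have hb0 : 0 ≤ b := by
    by_contra hneg
    have h1 : (q : ℤ) * b ≤ (q : ℤ) * (-1) := mul_le_mul_of_nonneg_left (by omega) hq0.le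
    omega
  have hmain : (q : ℤ) * (a + b + a * b * q) = (q : ℤ) * ((q : ℤ) ^ 2 + 2 * q + 2) := by
    have h' : (I : ℤ) * n = ((q : ℤ) + 1) * ((q : ℤ) ^ 2 + q + 1) := by exact_mod_cast h
    rw [show (I : ℤ) = 1 + q * a by omega, show (n : ℤ) = 1 + q * b by omega] at h'
    linear_combination h'
  have e := mul_left_cancel₀ hq0.ne' hmain
  rcases ha0.eq_or_lt with rfl | ha1
  · left
    omega
  rcases hb0.eq_or_lt with rfl | hb1
  · right; right; right
    have hn1 : n = 1 := by omega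
    rw [hn1, mul_one] at h
    exact h
  have habq : a * b ≤ (q : ℤ) + 2 := by
    by_contra hc
    have h1 : ((q : ℤ) + 3) * q ≤ a * b * q := mul_le_mul_of_nonneg_right (by omega) hq0.le
    nlinarith
  have hsum : a + b ≤ (q : ℤ) + 3 := by nlinarith [mul_nonneg (by omega : (0 : ℤ) ≤ a - 1) (by omega : (0 : ℤ) ≤ b - 1)]
  obtain ⟨k, hk⟩ : (q : ℤ) ∣ a + b - 2 := ⟨(q : ℤ) + 2 - a * b, by linear_combination e⟩
  have hk0 : 0 ≤ k := by
    by_contra hneg
    have h1 : (q : ℤ) * k ≤ (q : ℤ) * (-1) := mul_le_mul_of_nonneg_left (by omega) hq0.le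
    omega
  have hk1 : k ≤ 1 := by
    by_contra hgt
    have h1 : (q : ℤ) * 2 ≤ (q : ℤ) * k := mul_le_mul_of_nonneg_left (by omega) hq0.le
    omega
  interval_cases k
  · have ha' : a = 1 := by omega
    have hb' : b = 1 := by omega
    subst ha' hb'
    nlinarith
  · have hab : a * b = (q : ℤ) + 1 := by
      have h1 : (q : ℤ) * (a * b) = (q : ℤ) * ((q : ℤ) + 1) := by linear_combination e - hk
      exact mul_left_cancel₀ hq0.ne' h1
    rcases mul_eq_zero.1 (show (a - 1) * (b - 1) = 0 by linear_combination hab - hk) with h1 | h1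
    · right; left
      have : a = 1 := by omega
      subst this
      omega
    · right; right; left
      have hb' : b = 1 := by omega
      subst hb'
      have : a = (q : ℤ) + 1 := by omega
      subst this
      have : (I : ℤ) = (q : ℤ) ^ 2 + q + 1 := by linear_combination ha
      exact_mod_cast this

/-- No index survives the congruence of the Sylow 2-subgroup of the torus. -/
theorem no_cyclic_index {q I : ℕ} (hodd : Odd q) (hq : 2 ≤ q)
    (hI : I = 1 ∨ I = q + 1 ∨ I = q ^ 2 + q + 1 ∨ I = (q + 1) * (q ^ 2 + q + 1))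
    (h2 : ((2 ^ (2 * (q - 1).factorization 2) : ℕ) : ℤ) ∣ (I : ℤ) - 3) : False := by
  set b := (q - 1).factorization 2 with hb
  obtain ⟨j, hj⟩ := hodd
  have hq1 : q - 1 = 2 * j := by omega
  have hb1 : 1 ≤ b := by
    rw [hb]
    exact (Nat.Prime.dvd_iff_one_le_factorization Nat.prime_two (by omega)).1 ⟨j, hq1⟩
  have h4 : (4 : ℤ) ∣ (I : ℤ) - 3 := by
    refine Dvd.dvd.trans ?_ h2
    have : 2 ^ 2 ∣ 2 ^ (2 * b) := pow_dvd_pow 2 (by omega)
    exact_mod_cast this
  have hz : (I : ZMod 4) = 3 := by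
    have := (ZMod.intCast_zmod_eq_zero_iff_dvd _ 4).2 h4
    push_cast at this
    exact sub_eq_zero.1 this
  have hqc : (q : ZMod 4) = 1 ∨ (q : ZMod 4) = 3 := by
    rcases (by omega : q % 4 = 1 ∨ q % 4 = 3) with h | h <;>
      [left; right] <;> rw [← ZMod.natCast_mod, h] <;> rfl
  rcases hI with rfl | rfl | rfl | rfl
  · exact absurd hz (by decide)
  · push_cast at hz
    rcases hqc with h | h <;> rw [h] at hz <;> exact absurd hz (by decide)
  · rcases (by omega : q % 4 = 1 ∨ q % 4 = 3) with h | h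
    · -- `v₂((q - 1)(q + 2)) = b`
      have hsub : ((q ^ 2 + q + 1 : ℕ) : ℤ) - 3 = (((q - 1) * (q + 2) : ℕ) : ℤ) := by
        push_cast [Nat.cast_sub (by omega : 1 ≤ q)]; ring
      rw [hsub, Int.natCast_dvd_natCast] at h2
      have hcop : Nat.Coprime (2 ^ (2 * b)) (q + 2) :=
        Nat.Coprime.pow_left _ (Nat.coprime_two_left.2 ⟨j + 1, by omega⟩)
      have h3 := hcop.dvd_of_dvd_mul_right h2
      have h5 := (Nat.Prime.pow_dvd_iff_le_factorization Nat.prime_two (by omega)).1 h3
      omega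
    · push_cast at hz
      rw [← ZMod.natCast_mod, h] at hz
      exact absurd hz (by decide)
  · push_cast at hz
    rcases hqc with h | h <;> rw [h] at hz <;> exact absurd hz (by decide)

end Cfsg.Agent.LThreeRec
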