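import Cfsg.Agent.Lib.LThreeRec.GoodLocal
import Cfsg.Agent.Lib.LThreeRec.CyclicArith
import Cfsg.Agent.Lib.Coprime.Generation
import Cfsg.Agent.Lib.GLOrder.Basic

/-!
# The abelian case of the recognition of `PSL₃(q)` (helper60, S0484)

* `Hyp.false_of_pos` : if `Xp` commutes with `σ Xp σ⁻¹` there is no group
-/

set_option autoImplicit false
set_option linter.unusedSectionVars false
set_option linter.style.haveILetI false

namespace Cfsg.Agent.LThreeRec

open Subgroup
open scoped Pointwise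

variable {F : Type*} [Field F] [Fintype F] {G : Type*} [Group G] [Finite G]

namespace LData

variable (D : LData G F) [D.Exact]
include D

theorem card_T_mul : Nat.card D.T * Nat.card D.π.ker = (Fintype.card F - 1) ^ 2 := by
  have hinj : Function.Injective (dG : Fˣ × Fˣ →* GL (Fin 2) F) := fun a b h => by
    obtain ⟨a1, a2⟩ := a
    obtain ⟨b1, b2⟩ := b
    have h0 := congrFun (congrFun (congrArg mG h) 0) 0
    have h1 := congrFun (congrFun (congrArg mG h) 1) 1
    simp [mG_dG] at h0 h1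
    rw [Units.ext h0, Units.ext h1]
  have hker : (D.π.comp dG).ker.map dG = D.π.ker := by
    ext g
    constructor
    · rintro ⟨a, ha, rfl⟩; exact ha
    · intro hg
      obtain ⟨a, rfl⟩ := D.eq_dG_of_center (D.ker_center hg)
      exact ⟨(a, a), hg, rfl⟩
  rw [← hker, card_map_of_injective hinj, LData.T, ← index_ker, index_mul_card, Nat.card_prod,
    Nat.card_units, Nat.card_eq_fintype_card]
  ring

theorem card_cent_mul : Nat.card (centralizer ({D.t} : Set G)) * Nat.card D.π.ker =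
    (Fintype.card F ^ 2 - 1) * (Fintype.card F ^ 2 - Fintype.card F) := by
  rw [← D.range_eq, ← index_ker, index_mul_card, GLOrder.card_GL, Fin.prod_univ_two,
    Nat.card_eq_fintype_card]
  simp

theorem u_inv_X {x : G} (hx : x ∈ D.X) : D.u * x * D.u⁻¹ = x⁻¹ := by
  obtain ⟨c, rfl⟩ := hx
  simp only [φ_apply, u]
  rw [mul_inv_eq_iff_eq_mul, ← map_inv, ← map_mul, ← map_mul]
  congr 1
  have e : (iG (uS c))⁻¹ = (iG (uS (-c)) : GL (Fin 2) F) := by
    rw [← map_inv]; congr 1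
    apply inv_eq_of_mul_eq_one_right
    rw [uS_add, add_neg_cancel]
    apply Subtype.ext; ext i j; fin_cases i <;> fin_cases j <;> simp [uS]
  rw [e]
  apply mG_ext
  rw [mG_mul, mG_mul, mG_dG, mG_iG, mG_iG]
  ext i j; fin_cases i <;> fin_cases j <;> simp [uS, Matrix.mul_apply, Fin.sum_univ_two]

theorem t_fix_X {x : G} (hx : x ∈ D.X) : D.t * x * D.t⁻¹ = x := by
  rw [← mem_centralizer_singleton_iff.1 (D.X_le_centralizer hx), mul_inv_cancel_right]

theorem tu_inv_X {x : G} (hx : x ∈ D.X) : D.t * D.u * x * (D.t * D.u)⁻¹ = x⁻¹ := by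
  calc _ = D.t * (D.u * x * D.u⁻¹) * D.t⁻¹ := by group
    _ = x⁻¹ := by rw [D.u_inv_X hx, D.t_fix_X (D.X.inv_mem hx)]

/-- An element of `C(t)` normalising `X` lies in `X T`. -/
theorem mem_XT {g : G} (hg : g * D.t = D.t * g) (hn : ∀ x ∈ D.X, g * x * g⁻¹ ∈ D.X) :
    g ∈ D.X ⊔ D.T := by
  obtain ⟨g0, rfl⟩ := D.exists_lift hg
  obtain ⟨c, hc⟩ := hn _ (D.mem_X.2 ⟨1, rfl⟩)
  simp only [φ_apply] at hc
  have hk : g0 * iG (uS 1) * (iG (uS c) * g0)⁻¹ ∈ D.π.ker := by
    rw [MonoidHom.mem_ker, map_mul, map_inv, map_mul, map_mul, hc, inv_mul_cancel_right,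
      mul_inv_cancel]
  obtain ⟨z, hz⟩ := D.eq_dG_of_center (D.ker_center hk)
  have he : g0 * iG (uS 1) = dG (z, z) * (iG (uS c) * g0) := by rw [← hz, inv_mul_cancel_right]
  have hd := congrArg (fun a : GL (Fin 2) F => (mG a).det) he
  simp only [mG_mul, Matrix.det_mul, mG_dG, mG_iG] at hd
  have hdet : (mG g0).det ≠ 0 := (Matrix.GeneralLinearGroup.det g0).ne_zero
  simp [uS, Matrix.det_fin_two_of] at hd
  have hz2 : dG (z, z) * dG (z, z) = 1 := by
    apply mG_ext
    rw [mG_mul, mG_dG]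
    have hzz : (z : F) * z = 1 := by
      refine mul_right_cancel₀ hdet ?_
      linear_combination -hd
    ext i j; fin_cases i <;> fin_cases j <;> simp [Matrix.mul_apply, Fin.sum_univ_two, hzz]
  have h1 : g0 * iG (uS 1) * (iG (uS c) * g0)⁻¹ = 1 := D.ker_pow_ne hk (by rw [hz]; exact hz2)
  have hm := congrArg mG (mul_inv_eq_one.1 h1)
  rw [mG_mul, mG_mul, mG_iG, mG_iG] at hm
  have e := congrFun (congrFun hm 1) 1
  simp [uS, Matrix.mul_apply, Fin.sum_univ_two] at e
  have h10 : mG g0 1 0 = 0 := by linear_combination e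
  rw [Matrix.det_fin_two, h10, mul_zero, sub_zero] at hdet
  have ha := left_ne_zero_of_mul hdet
  have hb := right_ne_zero_of_mul hdet
  have hdec : g0 = iG (uS (mG g0 0 1 / mG g0 1 1)) * dG (Units.mk0 _ ha, Units.mk0 _ hb) := by
    apply mG_ext
    rw [mG_mul, mG_iG, mG_dG]
    ext i j; fin_cases i <;> fin_cases j <;>
      simp [uS, h10, Matrix.mul_apply, Fin.sum_univ_two]
    field_simp
  rw [hdec, map_mul]
  exact mul_mem (le_sup_left (b := D.T) (D.mem_X.2 ⟨_, rfl⟩)) (le_sup_right (a := D.X) ⟨_, rfl⟩)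

/-- The configuration. -/
structure Abelian (σ : G) : Prop where
  map_t : σ * D.t * σ⁻¹ = D.u
  map_u : σ * D.u * σ⁻¹ = D.t * D.u
  comm : ∀ x ∈ D.X, ∀ y ∈ D.X, x * (σ * y * σ⁻¹) = σ * y * σ⁻¹ * x

variable {σ : G}

theorem Abelian.map_tu (h : D.Abelian σ) : σ * (D.t * D.u) * σ⁻¹ = D.t := by
  calc _ = (σ * D.t * σ⁻¹) * (σ * D.u * σ⁻¹) := by group
    _ = D.u * (D.t * D.u) := by rw [h.map_t, h.map_u]
    _ = D.t := by rw [← mul_assoc, ← D.t_comm_u, mul_assoc, D.u_sq, mul_one]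

theorem Abelian.normal_T (h : D.Abelian σ) {x : G} (hx : x ∈ D.T) : σ * x * σ⁻¹ ∈ D.T := by
  obtain ⟨h1, h2⟩ := D.cent_u.1 hx
  have e : ∀ a : G, x * a = a * x → σ * x * σ⁻¹ * (σ * a * σ⁻¹) = σ * a * σ⁻¹ * (σ * x * σ⁻¹) :=
    fun a ha => by
      calc _ = σ * (x * a) * σ⁻¹ := by group
        _ = _ := by rw [ha]; group
  have hxtu : x * (D.t * D.u) = D.t * D.u * x := by rw [← mul_assoc, h1, mul_assoc, h2, ← mul_assoc]
  have ht := e _ hxtu
  have hu := e _ h1
  rw [h.map_tu] at ht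
  rw [h.map_t] at hu
  exact D.cent_u.2 ⟨ht, hu⟩

theorem Abelian.cube_mem (h : D.Abelian σ) : σ * σ * σ ∈ D.T := by
  refine D.cent_u.2 ⟨mul_inv_eq_iff_eq_mul.1 ?_, mul_inv_eq_iff_eq_mul.1 ?_⟩
  · calc _ = σ * (σ * (σ * D.t * σ⁻¹) * σ⁻¹) * σ⁻¹ := by group
      _ = D.t := by rw [h.map_t, h.map_u, h.map_tu]
  · calc _ = σ * (σ * (σ * D.u * σ⁻¹) * σ⁻¹) * σ⁻¹ := by group
      _ = D.u := by rw [h.map_u, h.map_tu, h.map_t]

/-- The three root groups generate `P`. -/
def bigP (σ : G) : Subgroup G :=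
  D.X ⊔ D.X.map (MulAut.conj σ).toMonoidHom ⊔ D.X.map (MulAut.conj (σ * σ)).toMonoidHom

theorem X_le_bigP (σ : G) : D.X ≤ D.bigP σ := le_sup_left.trans le_sup_left

theorem Abelian.conj_bigP (h : D.Abelian σ) {y : G} (hy : y ∈ D.bigP σ) : σ * y * σ⁻¹ ∈ D.bigP σ := by
  have hle : D.bigP σ ≤ (D.bigP σ).comap (MulAut.conj σ).toMonoidHom := by
    refine sup_le (sup_le ?_ ?_) ?_
    · exact fun x hx => le_sup_left (b := D.X.map (MulAut.conj (σ * σ)).toMonoidHom)
        (le_sup_right (a := D.X) ⟨x, hx, rfl⟩)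
    · rintro _ ⟨x, hx, rfl⟩
      exact le_sup_right (a := D.X ⊔ D.X.map (MulAut.conj σ).toMonoidHom)
        ⟨x, hx, by simp [mul_assoc]⟩
    · rintro _ ⟨x, hx, rfl⟩
      refine D.X_le_bigP σ ?_
      show σ * (σ * σ * x * (σ * σ)⁻¹) * σ⁻¹ ∈ D.X
      have := D.T_normal_X (Abelian.cube_mem D h) hx
      convert this using 1; group
  exact hle hy

theorem T_normal_bigP (h : D.Abelian σ) {g y : G} (hg : g ∈ D.T) (hy : y ∈ D.bigP σ) :
    g * y * g⁻¹ ∈ D.bigP σ := by
  have hσ : σ ∈ normalizer (D.T : Set G) :=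
    Coprime.mem_normalizer_of_forall fun x hx => Abelian.normal_T D h hx
  have hn : ∀ n : G, n ∈ normalizer (D.T : Set G) → ∀ x ∈ D.X.map (MulAut.conj n).toMonoidHom,
      g * x * g⁻¹ ∈ D.X.map (MulAut.conj n).toMonoidHom := by
    rintro n hn _ ⟨x, hx, rfl⟩
    refine ⟨(n⁻¹ * g * n) * x * (n⁻¹ * g * n)⁻¹, D.T_normal_X ?_ hx, ?_⟩
    · simpa using (mem_normalizer_iff.1 (inv_mem hn) g).1 hg
    · show n * _ * n⁻¹ = g * (n * x * n⁻¹) * g⁻¹
      group
  have hle : D.bigP σ ≤ (D.bigP σ).comap (MulAut.conj g).toMonoidHom :=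
    sup_le (sup_le (fun x hx => D.X_le_bigP σ (D.T_normal_X hg hx))
      (fun x hx => le_sup_left (b := D.X.map (MulAut.conj (σ * σ)).toMonoidHom)
        (le_sup_right (a := D.X) (hn _ hσ x hx))))
      (fun x hx => le_sup_right (a := D.X ⊔ D.X.map (MulAut.conj σ).toMonoidHom)
        (hn _ (mul_mem hσ hσ) x hx))
  exact hle hy

theorem Abelian.pieces_comm (h : D.Abelian σ) {x a b : G} (hx : x ∈ D.X)
    (ha : a ∈ D.X.map (MulAut.conj σ).toMonoidHom)
    (hb : b ∈ D.X.map (MulAut.conj (σ * σ)).toMonoidHom) :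
    Commute x a ∧ Commute a b ∧ Commute x b := by
  obtain ⟨a, ha, rfl⟩ := ha
  obtain ⟨b, hb, rfl⟩ := hb
  have cc : ∀ (g y z : G), y * z = z * y → (g * y * g⁻¹) * (g * z * g⁻¹) = (g * z * g⁻¹) * (g * y * g⁻¹) :=
    fun g y z e => by
      calc _ = g * (y * z) * g⁻¹ := by group
        _ = _ := by rw [e]; group
  refine ⟨h.comm x hx a ha, ?_, ?_⟩
  · show σ * a * σ⁻¹ * (σ * σ * b * (σ * σ)⁻¹) = σ * σ * b * (σ * σ)⁻¹ * (σ * a * σ⁻¹)
    have := cc σ _ _ (h.comm a ha b hb)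
    rw [show σ * σ * b * (σ * σ)⁻¹ = σ * (σ * b * σ⁻¹) * σ⁻¹ by group]
    exact this
  · have h3 := Abelian.cube_mem D h
    have hx0 := D.T_normal_X (D.T.inv_mem h3) hx
    rw [inv_inv] at hx0
    show x * (σ * σ * b * (σ * σ)⁻¹) = σ * σ * b * (σ * σ)⁻¹ * x
    have := cc (σ * σ) _ _ (h.comm b hb _ hx0)
    rw [show σ * σ * (σ * ((σ * σ * σ)⁻¹ * x * (σ * σ * σ)) * σ⁻¹) * (σ * σ)⁻¹ = x by group] at this
    exact this.symm

theorem Abelian.decomp (h : D.Abelian σ) {y : G} (hy : y ∈ D.bigP σ) :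
    ∃ x ∈ D.X, ∃ a ∈ D.X.map (MulAut.conj σ).toMonoidHom,
      ∃ b ∈ D.X.map (MulAut.conj (σ * σ)).toMonoidHom, y = x * a * b := by
  have h1 : D.X.map (MulAut.conj σ).toMonoidHom ≤ normalizer (D.X : Set G) := fun a ha =>
    Coprime.mem_normalizer_of_forall fun x hx => by
      have hc : Commute x a := (Abelian.pieces_comm D h hx ha (one_mem _)).1
      rw [← hc.eq, mul_inv_cancel_right]; exact hx
  have h2 : D.X.map (MulAut.conj (σ * σ)).toMonoidHom ≤
      normalizer ((D.X ⊔ D.X.map (MulAut.conj σ).toMonoidHom : Subgroup G) : Set G) := fun b hb =>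
    Coprime.mem_normalizer_of_forall fun z hz => by
      obtain ⟨x, hx, a, ha, rfl⟩ := (Coprime.mem_sup_iff h1).1 hz
      have hc := Abelian.pieces_comm D h hx ha hb
      have hxb : Commute (x * a) b := Commute.mul_left hc.2.2 hc.2.1
      rw [← hxb.eq, mul_inv_cancel_right]
      exact hz
  obtain ⟨z, hz, b, hb, rfl⟩ := (Coprime.mem_sup_iff h2).1 hy
  obtain ⟨x, hx, a, ha, rfl⟩ := (Coprime.mem_sup_iff h1).1 hz
  exact ⟨x, hx, a, ha, b, hb, rfl⟩

theorem Abelian.bigP_comm (h : D.Abelian σ) {y z : G} (hy : y ∈ D.bigP σ) (hz : z ∈ D.bigP σ) :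
    y * z = z * y := by
  have hle : D.bigP σ ≤ centralizer (D.bigP σ : Set G) := by
    have key : ∀ x ∈ D.X, x ∈ centralizer (D.bigP σ : Set G) := fun x hx => by
      refine mem_centralizer_iff.2 fun y hy => ?_
      obtain ⟨x', hx', a, ha, b, hb, rfl⟩ := Abelian.decomp D h hy
      have hc := Abelian.pieces_comm D h hx ha hb
      have h0 : Commute x x' := D.X_comm hx hx'
      exact ((h0.mul_right hc.1).mul_right hc.2.2).eq.symm
    have key1 : ∀ z, z ∈ centralizer (D.bigP σ : Set G) → σ * z * σ⁻¹ ∈ centralizer (D.bigP σ : Set G) := by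
      intro z hz
      refine mem_centralizer_iff.2 fun y hy => ?_
      have hσn : σ ∈ normalizer (D.bigP σ : Set G) :=
        Coprime.mem_normalizer_of_forall fun w hw => Abelian.conj_bigP D h hw
      have hy' : σ⁻¹ * y * σ ∈ D.bigP σ := by
        simpa using (mem_normalizer_iff.1 (inv_mem hσn) y).1 hy
      have e := mem_centralizer_iff.1 hz _ hy'
      calc y * (σ * z * σ⁻¹) = σ * ((σ⁻¹ * y * σ) * z) * σ⁻¹ := by group
        _ = σ * z * σ⁻¹ * y := by rw [e]; group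
    refine sup_le (sup_le key ?_) ?_
    · rintro _ ⟨x, hx, rfl⟩; exact key1 x (key x hx)
    · rintro _ ⟨x, hx, rfl⟩
      have := key1 _ (key1 x (key x hx))
      show σ * σ * x * (σ * σ)⁻¹ ∈ _
      convert this using 1; group
  exact (mem_centralizer_iff.1 (hle hy) z hz).symm

/-- `t` fixes `X` and inverts the other two pieces. -/
theorem Abelian.t_act (h : D.Abelian σ) {x : G} (hx : x ∈ D.X) :
    D.t * (σ * x * σ⁻¹) * D.t⁻¹ = (σ * x * σ⁻¹)⁻¹ ∧
      D.t * (σ * σ * x * (σ * σ)⁻¹) * D.t⁻¹ = (σ * σ * x * (σ * σ)⁻¹)⁻¹ := by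
  constructor
  · calc _ = (σ * (D.t * D.u) * σ⁻¹) * (σ * x * σ⁻¹) * (σ * (D.t * D.u) * σ⁻¹)⁻¹ := by
          rw [h.map_tu]
      _ = σ * (D.t * D.u * x * (D.t * D.u)⁻¹) * σ⁻¹ := by group
      _ = _ := by rw [D.tu_inv_X hx]; group
  · have e : σ * σ * D.u * (σ * σ)⁻¹ = D.t := by
      calc _ = σ * (σ * D.u * σ⁻¹) * σ⁻¹ := by group
        _ = D.t := by rw [h.map_u, h.map_tu]
    calc _ = (σ * σ * D.u * (σ * σ)⁻¹) * (σ * σ * x * (σ * σ)⁻¹) * (σ * σ * D.u * (σ * σ)⁻¹)⁻¹ := by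
          rw [e]
      _ = σ * σ * (D.u * x * D.u⁻¹) * (σ * σ)⁻¹ := by group
      _ = _ := by rw [D.u_inv_X hx]; simp [mul_assoc]

theorem odd_card : Odd (Fintype.card F) := by
  obtain ⟨p, hpc⟩ := CharP.exists F
  haveI := hpc
  haveI := Fact.mk (CharP.char_is_prime F p)
  obtain ⟨n, hp, hn⟩ := FiniteField.card F p
  rw [hn]
  refine Odd.pow (hp.eq_two_or_odd'.resolve_left fun h2 => ?_)
  subst h2
  exact D.two_ne (by exact_mod_cast CharP.cast_eq_zero F 2)

theorem eq_one_of_sq_odd {y : G} (ho : Odd (orderOf y)) (h2 : y * y = 1) : y = 1 := by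
  rcases (Nat.dvd_prime Nat.prime_two).1 (orderOf_dvd_of_pow_eq_one (by rw [sq, h2] : y ^ 2 = 1))
    with e | e
  · exact orderOf_eq_one_iff.1 e
  · rw [e] at ho; exact absurd ho (by decide)

theorem orderOf_X {x : G} (hx : x ∈ D.X) : Odd (orderOf x) := by
  have hd : orderOf x ∣ Fintype.card F := by
    rw [← D.card_X, ← Subgroup.orderOf_mk x hx]; exact orderOf_dvd_natCard _
  exact D.odd_card.of_dvd_nat hd

theorem Abelian.odd_bigP (h : D.Abelian σ) {y : G} (hy : y ∈ D.bigP σ) : Odd (orderOf y) := by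
  obtain ⟨x, hx, _, ⟨a, ha, rfl⟩, _, ⟨b, hb, rfl⟩, rfl⟩ := Abelian.decomp D h hy
  have hc := Abelian.pieces_comm D h hx ⟨a, ha, rfl⟩ ⟨b, hb, rfl⟩
  have hda : ∀ {g : G} {c : G}, c ∈ D.X → (g * c * g⁻¹) ^ Fintype.card F = 1 := fun {g c} hcX => by
    rw [conj_pow, ← D.card_X,
      show c ^ Nat.card D.X = 1 from congrArg Subtype.val (pow_card_eq_one' (x := (⟨c, hcX⟩ : D.X))),
      mul_one, mul_inv_cancel]
  refine D.odd_card.of_dvd_nat (orderOf_dvd_of_pow_eq_one ?_)
  have hxb : Commute (x * (MulAut.conj σ).toMonoidHom a) ((MulAut.conj (σ * σ)).toMonoidHom b) :=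
    Commute.mul_left hc.2.2 hc.2.1
  rw [hxb.mul_pow, hc.1.mul_pow]
  have hx1 : x ^ Fintype.card F = 1 := by simpa using hda (g := 1) hx
  rw [hx1, one_mul]
  show (σ * a * σ⁻¹) ^ _ * (σ * σ * b * (σ * σ)⁻¹) ^ _ = 1
  rw [hda ha, hda hb, one_mul]

theorem Abelian.t_fixed (h : D.Abelian σ) {y : G} (hy : y ∈ D.bigP σ) (hc : y * D.t = D.t * y) :
    y ∈ D.X := by
  obtain ⟨x, hx, _, ⟨a, ha, rfl⟩, _, ⟨b, hb, rfl⟩, rfl⟩ := Abelian.decomp D h hy
  set A := (MulAut.conj σ).toMonoidHom a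
  set B := (MulAut.conj (σ * σ)).toMonoidHom b
  have hA : D.t * A * D.t⁻¹ = A⁻¹ := (Abelian.t_act D h ha).1
  have hB : D.t * B * D.t⁻¹ = B⁻¹ := (Abelian.t_act D h hb).2
  have h1 : x * A⁻¹ * B⁻¹ = x * A * B := by
    calc x * A⁻¹ * B⁻¹ = (D.t * x * D.t⁻¹) * (D.t * A * D.t⁻¹) * (D.t * B * D.t⁻¹) := by
          rw [hA, hB, D.t_fix_X hx]
      _ = D.t * (x * A * B) * D.t⁻¹ := by group
      _ = x * A * B := by rw [← hc, mul_inv_cancel_right]
  have hAB : A * B ∈ D.bigP σ := mul_mem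
    (le_sup_left (b := D.X.map (MulAut.conj (σ * σ)).toMonoidHom) (le_sup_right (a := D.X) ⟨a, ha, rfl⟩))
    (le_sup_right (a := D.X ⊔ D.X.map (MulAut.conj σ).toMonoidHom) ⟨b, hb, rfl⟩)
  have hcm : Commute A B := (Abelian.pieces_comm D h hx ⟨a, ha, rfl⟩ ⟨b, hb, rfl⟩).2.1
  have h2 : (A * B) * (A * B) = 1 := by
    rw [mul_assoc x, mul_assoc x] at h1
    have h3 := mul_left_cancel h1
    calc (A * B) * (A * B) = (A⁻¹ * B⁻¹) * (A * B) := by rw [h3]
      _ = (B * A)⁻¹ * (A * B) := by group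
      _ = 1 := by rw [← hcm.eq, inv_mul_cancel]
  rw [mul_assoc, D.eq_one_of_sq_odd (Abelian.odd_bigP D h hAB) h2, mul_one]
  exact hx

theorem Abelian.card_bigP (h : D.Abelian σ) : Nat.card (D.bigP σ) = Fintype.card F ^ 3 := by
  set A := D.X.map (MulAut.conj σ).toMonoidHom with hA
  set B := D.X.map (MulAut.conj (σ * σ)).toMonoidHom with hB
  let f : D.X × A × B → D.bigP σ := fun v => ⟨v.1 * v.2.1 * v.2.2,
    mul_mem (mul_mem (D.X_le_bigP σ v.1.2) (le_sup_left (b := B) (le_sup_right (a := D.X) v.2.1.2)))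
      (le_sup_right (a := D.X ⊔ A) v.2.2.2)⟩
  have hker : ∀ x ∈ D.X, ∀ a ∈ A, ∀ b ∈ B, x * a * b = 1 → x = 1 ∧ a = 1 ∧ b = 1 := by
    rintro x hx _ ⟨a, ha, rfl⟩ _ ⟨b, hb, rfl⟩ e
    set a' := (MulAut.conj σ).toMonoidHom a
    set b' := (MulAut.conj (σ * σ)).toMonoidHom b
    have hat : D.t * a' * D.t⁻¹ = a'⁻¹ := (Abelian.t_act D h ha).1
    have hbt : D.t * b' * D.t⁻¹ = b'⁻¹ := (Abelian.t_act D h hb).2
    have hc := Abelian.pieces_comm D h hx ⟨a, ha, rfl⟩ ⟨b, hb, rfl⟩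
    have e' : x * a'⁻¹ * b'⁻¹ = 1 := by
      calc _ = (D.t * x * D.t⁻¹) * (D.t * a' * D.t⁻¹) * (D.t * b' * D.t⁻¹) := by
            rw [hat, hbt, D.t_fix_X hx]
        _ = D.t * (x * a' * b') * D.t⁻¹ := by group
        _ = 1 := by rw [e, mul_one, mul_inv_cancel]
    have ex : x = (a' * b')⁻¹ := eq_inv_of_mul_eq_one_left (by rw [← mul_assoc]; exact e)
    have hx2 : x * x = 1 := by
      have e2 : x = b' * a' := by
        calc x = x * a'⁻¹ * b'⁻¹ * (b' * a') := by group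
          _ = _ := by rw [e', one_mul]
      calc x * x = x * (b' * a') := by rw [← e2]
        _ = x * (a' * b') := by rw [hc.2.1.eq]
        _ = 1 := by rw [ex, inv_mul_cancel]
    have hx1 := D.eq_one_of_sq_odd (D.orderOf_X hx) hx2
    rw [hx1, one_mul] at e
    have ha0 : a' = b'⁻¹ := eq_inv_of_mul_eq_one_left e
    -- `u` fixes `a'` and inverts `b'`
    have hua : D.u * a' * D.u⁻¹ = a' := by
      show D.u * (σ * a * σ⁻¹) * D.u⁻¹ = σ * a * σ⁻¹
      calc _ = (σ * D.t * σ⁻¹) * (σ * a * σ⁻¹) * (σ * D.t * σ⁻¹)⁻¹ := by rw [h.map_t]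
        _ = σ * (D.t * a * D.t⁻¹) * σ⁻¹ := by group
        _ = _ := by rw [D.t_fix_X ha]
    have hub : D.u * b' * D.u⁻¹ = b'⁻¹ := by
      show D.u * (σ * σ * b * (σ * σ)⁻¹) * D.u⁻¹ = (σ * σ * b * (σ * σ)⁻¹)⁻¹
      have e1 : σ * σ * (D.t * D.u) * (σ * σ)⁻¹ = D.u := by
        calc _ = σ * (σ * (D.t * D.u) * σ⁻¹) * σ⁻¹ := by group
          _ = D.u := by rw [h.map_tu, h.map_t]
      calc _ = (σ * σ * (D.t * D.u) * (σ * σ)⁻¹) * (σ * σ * b * (σ * σ)⁻¹) *
            (σ * σ * (D.t * D.u) * (σ * σ)⁻¹)⁻¹ := by rw [e1]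
        _ = σ * σ * (D.t * D.u * b * (D.t * D.u)⁻¹) * (σ * σ)⁻¹ := by group
        _ = _ := by rw [D.tu_inv_X hb]; simp [mul_assoc]
    have ha2 : a' * a' = 1 := by
      have : D.u * a' * D.u⁻¹ = a'⁻¹ := by
        rw [ha0]
        calc D.u * b'⁻¹ * D.u⁻¹ = (D.u * b' * D.u⁻¹)⁻¹ := by group
          _ = _ := by rw [hub]
      rw [hua] at this
      nth_rewrite 1 [this]
      rw [inv_mul_cancel]
    have hoa : Odd (orderOf a') := by
      have : orderOf a' = orderOf a := (MulAut.conj σ).orderOf_eq a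
      rw [this]; exact D.orderOf_X ha
    have ha1 := D.eq_one_of_sq_odd hoa ha2
    rw [ha1, one_mul] at e
    exact ⟨hx1, ha1, e⟩
  have hbij : Function.Bijective f := by
    constructor
    · rintro ⟨⟨x, hx⟩, ⟨a, ha⟩, ⟨b, hb⟩⟩ ⟨⟨x', hx'⟩, ⟨a', ha'⟩, ⟨b', hb'⟩⟩ e
      have e' : x * a * b = x' * a' * b' := congrArg Subtype.val e
      have hxx : x'⁻¹ * x ∈ D.X := mul_mem (inv_mem hx') hx
      have hbb : b * b'⁻¹ ∈ B := mul_mem hb (inv_mem hb')
      have haa : a'⁻¹ * a ∈ A := mul_mem (inv_mem ha') ha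
      have c1 : Commute (x'⁻¹ * x) a'⁻¹ := (Abelian.pieces_comm D h hxx (inv_mem ha') hbb).1
      have h0 : (x'⁻¹ * x) * (a'⁻¹ * a) * (b * b'⁻¹) = 1 := by
        calc _ = ((x'⁻¹ * x) * a'⁻¹) * a * (b * b'⁻¹) := by group
          _ = (a'⁻¹ * (x'⁻¹ * x)) * a * (b * b'⁻¹) := by rw [c1.eq]
          _ = a'⁻¹ * x'⁻¹ * (x * a * b) * b'⁻¹ := by group
          _ = 1 := by rw [e']; group
      obtain ⟨h1, h2, h3⟩ := hker _ hxx _ haa _ hbb h0
      have e1 := inv_mul_eq_one.1 h1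
      have e2 := inv_mul_eq_one.1 h2
      have e3 := mul_inv_eq_one.1 h3
      subst e1 e2 e3
      rfl
    · rintro ⟨y, hy⟩
      obtain ⟨x, hx, a, ha, b, hb, rfl⟩ := Abelian.decomp D h hy
      exact ⟨⟨⟨x, hx⟩, ⟨a, ha⟩, ⟨b, hb⟩⟩, rfl⟩
  rw [← Nat.card_eq_of_bijective f hbij, Nat.card_prod, Nat.card_prod, hA, hB,
    card_map_of_injective (MulAut.conj σ).injective,
    card_map_of_injective (MulAut.conj (σ * σ)).injective, D.card_X]
  ring

/-- An involution of `P T` is conjugate under `P` to one of `T`. -/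
theorem Abelian.invol_conj (h : D.Abelian σ) {p : ℕ} [CharP F p] (hp : p.Prime) {z : G}
    (hz : z ∈ D.bigP σ ⊔ D.T) (h2 : z * z = 1) (h1 : z ≠ 1) :
    ∃ r ∈ D.bigP σ, ∃ τ ∈ D.T, τ * τ = 1 ∧ τ ≠ 1 ∧ z = r * τ * r⁻¹ := by
  haveI := Fact.mk hp
  have hTn : D.T ≤ normalizer (D.bigP σ : Set G) := fun g hg =>
    Coprime.mem_normalizer_of_forall fun y hy => D.T_normal_bigP h hg hy
  have hPp : IsPGroup p (D.bigP σ) := by
    obtain ⟨n, -, hn⟩ := FiniteField.card F p
    refine IsPGroup.of_card (n := n * 3) ?_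
    rw [Abelian.card_bigP D h, hn, pow_mul]
  obtain ⟨y, hy, τ, hτ, rfl⟩ := (Coprime.mem_sup_iff hTn).1 hz
  have hconj : τ * y * τ⁻¹ ∈ D.bigP σ := D.T_normal_bigP h hτ hy
  have hrw : y * τ * (y * τ) = (y * (τ * y * τ⁻¹)) * (τ * τ) := by group
  rw [hrw] at h2
  have hττ : τ * τ = 1 := by
    refine D.T_inter_pGroup hp hPp ?_ (mul_mem hτ hτ)
    rw [eq_inv_of_mul_eq_one_right h2]
    exact inv_mem (mul_mem hy hconj)
  rw [hττ, mul_one] at h2
  have hinv : τ * y * τ⁻¹ = y⁻¹ := eq_inv_of_mul_eq_one_right h2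
  obtain ⟨m, hm⟩ := Abelian.odd_bigP D h hy
  set r := y ^ (m + 1) with hr
  have hrr : r * r = y := by
    rw [hr, ← pow_add, show m + 1 + (m + 1) = 2 * m + 1 + 1 by ring, ← hm, pow_succ,
      pow_orderOf_eq_one, one_mul]
  have hrinv : τ * r * τ⁻¹ = r⁻¹ := by rw [hr, ← conj_pow, hinv, inv_pow]
  refine ⟨r, pow_mem hy _, τ, hτ, hττ, fun e => h1 ?_, ?_⟩
  · rw [e] at hinv
    simp at hinv
    have hy2 : y * y = 1 := by
      nth_rewrite 1 [hinv]
      rw [inv_mul_cancel]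
    rw [D.eq_one_of_sq_odd (Abelian.odd_bigP D h hy) hy2, e, one_mul]
  · have e1 : τ * r⁻¹ * τ⁻¹ = r := by
      calc τ * r⁻¹ * τ⁻¹ = (τ * r * τ⁻¹)⁻¹ := by group
        _ = r := by rw [hrinv, inv_inv]
    calc y * τ = r * r * τ := by rw [hrr]
      _ = r * (τ * r⁻¹ * τ⁻¹) * τ := by rw [e1]
      _ = r * τ * r⁻¹ := by group

/-- The elements `1, σ, σ²` carrying `t` to the three involutions. -/
theorem Abelian.invol_cases (h : D.Abelian σ) {v : G} (hv : v ∈ D.T) (h2 : v * v = 1) (h1 : v ≠ 1) :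
    ∃ k : G, (k = 1 ∨ k = σ ∨ k = σ * σ) ∧ k * D.t * k⁻¹ = v := by
  rcases D.T_invol hv h2 with rfl | rfl | rfl | rfl
  · exact absurd rfl h1
  · exact ⟨1, Or.inl rfl, by group⟩
  · exact ⟨σ, Or.inr (Or.inl rfl), h.map_t⟩
  · exact ⟨σ * σ, Or.inr (Or.inr rfl), by
      calc σ * σ * D.t * (σ * σ)⁻¹ = σ * (σ * D.t * σ⁻¹) * σ⁻¹ := by group
        _ = _ := by rw [h.map_t, h.map_u]⟩

/-- `C(x)` for `x ∈ P` with the three components nontrivial lies in `N(P)`. -/
theorem Abelian.cent_le_normalizer (h : D.Abelian σ) {x a b : G}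
    (hx : x ∈ D.X) (hx1 : x ≠ 1) (ha : a ∈ D.X) (ha1 : a ≠ 1) (hb : b ∈ D.X) (hb1 : b ≠ 1) :
    centralizer ({x, σ * a * σ⁻¹, σ * σ * b * (σ * σ)⁻¹} : Set G) ≤
      normalizer (D.bigP σ : Set G) := by
  haveI : Fact (Nat.Prime 2) := ⟨Nat.prime_two⟩
  set Y := centralizer ({x, σ * a * σ⁻¹, σ * σ * b * (σ * σ)⁻¹} : Set G) with hY
  have hYmem : ∀ y, y ∈ Y ↔ (x * y = y * x ∧ σ * a * σ⁻¹ * y = y * (σ * a * σ⁻¹) ∧
      σ * σ * b * (σ * σ)⁻¹ * y = y * (σ * σ * b * (σ * σ)⁻¹)) := fun y => by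
    rw [hY, mem_centralizer_iff]
    simp [mul_assoc]
  -- the four-group inverts or fixes each generator
  have key : ∀ g ∈ D.four, ∀ c ∈ ({x, σ * a * σ⁻¹, σ * σ * b * (σ * σ)⁻¹} : Set G),
      g * c * g⁻¹ = c ∨ g * c * g⁻¹ = c⁻¹ := by
    have hu : ∀ c ∈ ({x, σ * a * σ⁻¹, σ * σ * b * (σ * σ)⁻¹} : Set G),
        (D.t * c * D.t⁻¹ = c ∨ D.t * c * D.t⁻¹ = c⁻¹) ∧ (D.u * c * D.u⁻¹ = c ∨ D.u * c * D.u⁻¹ = c⁻¹) := by
      intro c hc
      simp only [Set.mem_insert_iff, Set.mem_singleton_iff] at hc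
      rcases hc with rfl | rfl | rfl
      · exact ⟨Or.inl (D.t_fix_X hx), Or.inr (D.u_inv_X hx)⟩
      · refine ⟨Or.inr (Abelian.t_act D h ha).1, Or.inl ?_⟩
        calc _ = (σ * D.t * σ⁻¹) * (σ * a * σ⁻¹) * (σ * D.t * σ⁻¹)⁻¹ := by rw [h.map_t]
          _ = σ * (D.t * a * D.t⁻¹) * σ⁻¹ := by group
          _ = _ := by rw [D.t_fix_X ha]
      · refine ⟨Or.inr (Abelian.t_act D h hb).2, Or.inr ?_⟩
        have e1 : σ * σ * (D.t * D.u) * (σ * σ)⁻¹ = D.u := by
          calc _ = σ * (σ * (D.t * D.u) * σ⁻¹) * σ⁻¹ := by group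
            _ = D.u := by rw [h.map_tu, h.map_t]
        calc _ = (σ * σ * (D.t * D.u) * (σ * σ)⁻¹) * (σ * σ * b * (σ * σ)⁻¹) *
              (σ * σ * (D.t * D.u) * (σ * σ)⁻¹)⁻¹ := by rw [e1]
          _ = σ * σ * (D.t * D.u * b * (D.t * D.u)⁻¹) * (σ * σ)⁻¹ := by group
          _ = _ := by rw [D.tu_inv_X hb]; simp [mul_assoc]
    intro g hg c hc
    rcases D.T_invol hg.1 hg.2 with rfl | rfl | rfl | rfl
    · left; group
    · exact (hu c hc).1
    · exact (hu c hc).2
    · have hh : ∀ d, D.t * D.u * d * (D.t * D.u)⁻¹ = D.t * (D.u * d * D.u⁻¹) * D.t⁻¹ := fun d => by group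
      rw [hh]
      rcases (hu c hc).2 with e | e <;> rw [e]
      · exact (hu c hc).1
      · rcases (hu c hc).1 with e' | e'
        · right
          calc D.t * c⁻¹ * D.t⁻¹ = (D.t * c * D.t⁻¹)⁻¹ := by group
            _ = c⁻¹ := by rw [e']
        · left
          calc D.t * c⁻¹ * D.t⁻¹ = (D.t * c * D.t⁻¹)⁻¹ := by group
            _ = c := by rw [e', inv_inv]
  have hA : D.four ≤ normalizer (Y : Set G) := fun g hg => by
    refine Coprime.mem_normalizer_of_forall fun y hy => ?_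
    rw [hY, mem_centralizer_iff] at hy ⊢
    intro c hc
    have hg' : g⁻¹ ∈ D.four := inv_mem hg
    have e : c * (g * y * g⁻¹) = g * ((g⁻¹ * c * g⁻¹⁻¹) * y) * g⁻¹ := by group
    rw [e]
    rcases key g⁻¹ hg' c hc with e' | e' <;> rw [e']
    · rw [hy c hc]
      have : g⁻¹ * c * g⁻¹⁻¹ = c := e'
      calc g * (y * c) * g⁻¹ = g * (y * (g⁻¹ * c * g⁻¹⁻¹)) * g⁻¹ := by rw [this]
        _ = g * y * g⁻¹ * c := by group
    · have hyc : c⁻¹ * y = y * c⁻¹ := (Commute.inv_left (hy c hc : Commute c y)).eq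
      rw [hyc]
      calc g * (y * c⁻¹) * g⁻¹ = g * (y * (g⁻¹ * c * g⁻¹⁻¹)) * g⁻¹ := by rw [e']
        _ = g * y * g⁻¹ * c := by group
  -- no four-group involution centralises all three
  have hno : ∀ z ∈ D.four, z ∈ Y → z = 1 := by
    intro z hz hzY
    obtain ⟨e1, e2, -⟩ := (hYmem z).1 hzY
    have eq0 : ∀ {c : G}, Odd (orderOf c) → c * z = z * c → z * c * z⁻¹ = c⁻¹ → c = 1 := fun {c} ho hc hi => by
      rw [← hc, mul_inv_cancel_right] at hi
      refine D.eq_one_of_sq_odd ho ?_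
      nth_rewrite 1 [hi]
      rw [inv_mul_cancel]
    rcases D.T_invol hz.1 hz.2 with rfl | rfl | rfl | rfl
    · rfl
    · refine absurd ?_ ha1
      have ho : Odd (orderOf (σ * a * σ⁻¹)) := by
        have : orderOf (σ * a * σ⁻¹) = orderOf a := (MulAut.conj σ).orderOf_eq a
        rw [this]; exact D.orderOf_X ha
      simpa using eq0 ho e2 (Abelian.t_act D h ha).1
    · exact absurd (eq0 (D.orderOf_X hx) e1 (D.u_inv_X hx)) hx1
    · exact absurd (eq0 (D.orderOf_X hx) e1 (D.tu_inv_X hx)) hx1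
  have hodd : Odd (Nat.card Y) := by
    rw [← Nat.not_even_iff_odd]
    intro heven
    classical
    letI : MulAction D.four {y : Y // y * y = 1} :=
      { smul := fun g y => ⟨⟨(g : G) * (y.1 : G) * (g : G)⁻¹, (mem_normalizer_iff.1 (hA g.2) _).1 y.1.2⟩,
          Subtype.ext (by
            show (g : G) * (y.1 : G) * (g : G)⁻¹ * ((g : G) * (y.1 : G) * (g : G)⁻¹) = 1
            calc _ = (g : G) * ((y.1 : G) * (y.1 : G)) * (g : G)⁻¹ := by group
              _ = 1 := by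
                rw [show (y.1 : G) * (y.1 : G) = 1 from congrArg Subtype.val y.2]
                group)⟩
        one_smul := fun y => Subtype.ext (Subtype.ext (by
          show (1 : G) * (y.1 : G) * (1 : G)⁻¹ = _
          group))
        mul_smul := fun g g' y => Subtype.ext (Subtype.ext (by
          show (g : G) * (g' : G) * (y.1 : G) * ((g : G) * (g' : G))⁻¹ =
            (g : G) * ((g' : G) * (y.1 : G) * (g' : G)⁻¹) * (g : G)⁻¹
          group)) }
    haveI := Fintype.ofFinite Y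
    have hcard : 2 ∣ Nat.card {y : Y // y * y = 1} := by
      rw [Nat.card_eq_fintype_card, Fintype.card_subtype]
      have hsum : (Finset.univ.filter fun y : Y => ¬ y * y = 1).sum (fun _ => (1 : ZMod 2)) = 0 := by
        refine Finset.sum_involution (fun y _ => y⁻¹) (fun _ _ => CharTwo.add_self_eq_zero _) (fun y hy _ e => ?_)
          (fun y hy => ?_) (fun y _ => inv_inv y)
        · refine (Finset.mem_filter.1 hy).2 ?_
          nth_rewrite 1 [← e]
          exact inv_mul_cancel y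
        · refine Finset.mem_filter.2 ⟨Finset.mem_univ _, fun e => (Finset.mem_filter.1 hy).2 ?_⟩
          rw [← mul_inv_rev, inv_eq_one] at e
          exact e
      rw [Finset.sum_const, nsmul_one, ZMod.natCast_eq_zero_iff] at hsum
      have htot := Finset.card_filter_add_card_filter_not (s := (Finset.univ : Finset Y))
        (fun y : Y => y * y = 1)
      rw [Finset.card_univ, ← Nat.card_eq_fintype_card] at htot
      exact (Nat.dvd_add_left hsum).1 (htot ▸ even_iff_two_dvd.1 heven)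
    obtain ⟨⟨⟨z, hzY⟩, hz2⟩, hzfix, hne⟩ := D.four_isPGroup.exists_fixed_point_of_prime_dvd_card_of_fixed_point
      {y : Y // y * y = 1} hcard (a := ⟨1, mul_one 1⟩) (fun g => Subtype.ext (Subtype.ext (by
        show (g : G) * (1 : G) * (g : G)⁻¹ = 1
        group)))
    have hfixG : ∀ g ∈ D.four, g * z * g⁻¹ = z := fun g hg =>
      congrArg (fun y : {y : Y // y * y = 1} => (y.1 : G)) (hzfix ⟨g, hg⟩)
    have hzT : z ∈ D.T := D.cent_u.2
      ⟨(mul_inv_eq_iff_eq_mul.1 (hfixG _ ⟨D.t_mem, D.t_sq⟩)).symm,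
        (mul_inv_eq_iff_eq_mul.1 (hfixG _ ⟨D.u_mem, D.u_sq⟩)).symm⟩
    refine hne (Subtype.ext (Subtype.ext (hno z ⟨hzT, congrArg Subtype.val hz2⟩ hzY).symm))
  haveI : IsMulCommutative D.four := ⟨⟨fun g g' => Subtype.ext (D.T_comm g.2.1 g'.2.1)⟩⟩
  have hncyc : ¬ IsCyclic D.four := fun hc => by
    refine D.u_ne_t (U3Recog.eq_of_cyclic hc D.orderOf_u D.orderOf_t ⟨D.u_mem, D.u_sq⟩ ⟨D.t_mem, D.t_sq⟩)
  have hcop : (Nat.card D.four).Coprime (Nat.card Y) := by
    obtain ⟨k, hk⟩ := D.four_isPGroup.exists_card_eq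
    rw [hk]
    exact Nat.Coprime.pow_left k (Nat.coprime_two_left.2 hodd)
  have hXT : D.X ⊔ D.T ≤ normalizer (D.bigP σ : Set G) :=
    sup_le ((D.X_le_bigP σ).trans le_normalizer)
      fun g hg => Coprime.mem_normalizer_of_forall fun y hy => D.T_normal_bigP h hg hy
  have hCt : ∀ y : G, ∀ c ∈ D.X, c ≠ 1 → y * D.t = D.t * y → c * y = y * c → y ∈ D.X ⊔ D.T := by
    intro y c hc hc1 hyt hcy
    obtain ⟨e, rfl⟩ := hc
    have he : e ≠ 0 := fun e0 => hc1 (by
      have e1 : (uS (0 : F) : Matrix.SpecialLinearGroup (Fin 2) F) = 1 := by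
        apply Subtype.ext; ext i j; fin_cases i <;> fin_cases j <;> simp [uS]
      simp only [e0, e1, map_one])
    obtain ⟨f, g, rfl⟩ := D.cent_root he hyt hcy.symm
    exact mul_mem (le_sup_right (a := D.X) ⟨(f, f), rfl⟩) (le_sup_left (b := D.T) (D.mem_X.2 ⟨g, rfl⟩))
  have hσn : σ ∈ normalizer (D.bigP σ : Set G) :=
    Coprime.mem_normalizer_of_forall fun w hw => Abelian.conj_bigP D h hw
  refine Coprime.le_of_noncyclic hncyc hA hcop fun g hg hg1 y hy => ?_
  obtain ⟨hyY, hyg⟩ := hy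
  have hyg' := mem_centralizer_singleton_iff.1 hyg
  obtain ⟨e1, e2, e3⟩ := (hYmem y).1 hyY
  rcases D.T_invol hg.1 hg.2 with rfl | rfl | rfl | rfl
  · exact absurd rfl hg1
  · exact hXT (hCt y x hx hx1 hyg' e1)
  · have h1 : σ⁻¹ * y * σ ∈ D.X ⊔ D.T := by
      refine hCt _ a ha ha1 ?_ ?_
      · rw [← h.map_t] at hyg'
        calc σ⁻¹ * y * σ * D.t = σ⁻¹ * (y * (σ * D.t * σ⁻¹)) * σ := by group
          _ = _ := by rw [hyg']; group
      · calc a * (σ⁻¹ * y * σ) = σ⁻¹ * (σ * a * σ⁻¹ * y) * σ := by group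
          _ = _ := by rw [e2]; group
    have := mul_mem (mul_mem hσn (hXT h1)) (inv_mem hσn)
    simpa [mul_assoc] using this
  · have e4 : σ * σ * D.t * (σ * σ)⁻¹ = D.t * D.u := by
      calc _ = σ * (σ * D.t * σ⁻¹) * σ⁻¹ := by group
        _ = _ := by rw [h.map_t, h.map_u]
    have h1 : (σ * σ)⁻¹ * y * (σ * σ) ∈ D.X ⊔ D.T := by
      refine hCt _ b hb hb1 ?_ ?_
      · rw [← e4] at hyg'
        calc (σ * σ)⁻¹ * y * (σ * σ) * D.t = (σ * σ)⁻¹ * (y * (σ * σ * D.t * (σ * σ)⁻¹)) * (σ * σ) := by group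
          _ = _ := by rw [hyg']; group
      · calc b * ((σ * σ)⁻¹ * y * (σ * σ)) = (σ * σ)⁻¹ * (σ * σ * b * (σ * σ)⁻¹ * y) * (σ * σ) := by group
          _ = _ := by rw [e3]; group
    have := mul_mem (mul_mem (mul_mem hσn hσn) (hXT h1)) (inv_mem (mul_mem hσn hσn))
    simpa [mul_assoc] using this

/-- There is no group in the abelian configuration. -/
theorem false_of_abelian (h : D.Abelian σ)
    (hJ : Fintype.card F ^ 3 ∣ Nat.card G → (centralizer ({D.t} : Set G)).index =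
      Fintype.card F ^ 2 * (Fintype.card F ^ 2 + Fintype.card F + 1)) : False := by
  classical
  obtain ⟨p, hpc⟩ := CharP.exists F
  haveI := hpc
  have hp : p.Prime := CharP.char_is_prime F p
  haveI := Fact.mk hp
  obtain ⟨n, -, hn⟩ := FiniteField.card F p
  set q := Fintype.card F with hq
  set P := D.bigP σ with hP
  have hPcard : Nat.card P = q ^ 3 := Abelian.card_bigP D h
  have hPp : IsPGroup p P := IsPGroup.of_card (n := n * 3) (by rw [hPcard, hn, pow_mul])
  have hdvd : q ^ 3 ∣ Nat.card G := hPcard ▸ card_subgroup_dvd_card P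
  have hq2 : 2 ≤ q := Fintype.one_lt_card
  have hodd : Odd q := D.odd_card
  set C := centralizer ({D.t} : Set G) with hC
  have hGC : Nat.card G = Nat.card C * (q ^ 2 * (q ^ 2 + q + 1)) := by
    rw [← hJ hdvd, card_mul_index]
  have hTZ : Nat.card D.T * Nat.card D.π.ker = (q - 1) ^ 2 := D.card_T_mul
  have hkpos : 0 < Nat.card D.π.ker := Nat.card_pos
  have hCT : Nat.card C = q * (q + 1) * Nat.card D.T := by
    refine Nat.eq_of_mul_eq_mul_right hkpos ?_
    rw [D.card_cent_mul, mul_assoc, hTZ, ← hq]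
    have h1 : q ^ 2 - 1 = (q + 1) * (q - 1) := by simpa using Nat.sq_sub_sq q 1
    have h2 : q ^ 2 - q = q * (q - 1) := by rw [Nat.mul_sub, mul_one, sq]
    rw [h1, h2]; ring
  -- `p` does not divide the cofactor
  have hnd : ¬ p ∣ (q + 1) * Nat.card D.T * (q ^ 2 + q + 1) := by
    intro hd
    have hd' : p ∣ (q + 1) * ((q - 1) ^ 2) * (q ^ 2 + q + 1) := by
      rw [← hTZ]
      exact hd.trans ⟨Nat.card D.π.ker, by ring⟩
    have := (CharP.cast_eq_zero_iff F p _).2 hd'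
    push_cast [Nat.cast_sub (by omega : 1 ≤ q)] at this
    rw [hq, Nat.cast_card_eq_zero] at this
    norm_num at this
  have hG3 : Nat.card G = q ^ 3 * ((q + 1) * Nat.card D.T * (q ^ 2 + q + 1)) := by
    rw [hGC, hCT]; ring
  have hfac : (Nat.card G).factorization p = 3 * n := by
    rw [hG3, Nat.factorization_mul (pow_ne_zero _ (by omega)) (fun e => hnd (by rw [e]; exact dvd_zero p)),
      Finsupp.add_apply, Nat.factorization_eq_zero_of_not_dvd hnd, add_zero, hn, ← pow_mul,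
      hp.factorization_pow, Finsupp.single_eq_same, mul_comm]
  let PS : Sylow p G := Sylow.ofCard P (by rw [hPcard, hfac, hn, ← pow_mul, mul_comm])
  have hPS : (PS : Subgroup G) = P := rfl
  set N := normalizer (P : Set G) with hN
  have hTn : D.T ≤ N := fun g hg => Coprime.mem_normalizer_of_forall fun y hy => D.T_normal_bigP h hg hy
  have hσN : σ ∈ N := Coprime.mem_normalizer_of_forall fun w hw => Abelian.conj_bigP D h hw
  set M := P ⊔ D.T with hM
  have hMN : M ≤ N := sup_le le_normalizer hTn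
  have hcopPT : (Nat.card P).Coprime (Nat.card D.T) := by
    rw [hPcard, hn, ← pow_mul]
    refine Nat.Coprime.pow_left _ (hp.coprime_iff_not_dvd.2 fun hd => hnd ?_)
    exact (hd.mul_left _).mul_right _
  have hMcard : Nat.card M = q ^ 3 * Nat.card D.T := by
    rw [hM, Coprime.card_sup_of_coprime hTn hcopPT, hPcard]
  set I := M.relIndex N with hI
  have hNcard : Nat.card N = I * Nat.card M := by
    rw [hI, Subgroup.relIndex, ← Nat.card_congr (subgroupOfEquivOfLe hMN).toEquiv, index_mul_card]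
  set ns := Nat.card (Sylow p G) with hns
  have hnsG : Nat.card G = ns * Nat.card N := by
    rw [hns, PS.card_eq_index_normalizer, mul_comm]
    exact (card_mul_index N).symm
  have hprod : I * ns = (q + 1) * (q ^ 2 + q + 1) := by
    have hTpos : 0 < q ^ 3 * Nat.card D.T := Nat.mul_pos (pow_pos (by omega) _) Nat.card_pos
    refine Nat.eq_of_mul_eq_mul_right hTpos ?_
    calc I * ns * (q ^ 3 * Nat.card D.T) = ns * (I * Nat.card M) := by rw [hMcard]; ring
      _ = Nat.card G := by rw [← hNcard, hnsG]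
      _ = _ := by rw [hG3]; ring
  -- the number of Sylow subgroups
  have hns1 : (q : ℤ) ∣ (ns : ℤ) - 1 := by
    have := dvd_card_sub_fixed (Γ := P) (α := Sylow p G) {PS} q ?_ ?_
    · simpa [hns] using this
    · intro Q hQ g
      rw [Finset.mem_singleton] at hQ
      subst hQ
      exact (Sylow.smul_eq_iff_mem_normalizer).2 (le_normalizer g.2)
    · intro Q hQ
      rw [Finset.mem_singleton] at hQ
      rw [Nat.card_coe_set_eq, ← MulAction.index_stabilizer]
      set S := MulAction.stabilizer P Q with hS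
      have hSmem : ∀ g : P, g ∈ S ↔ (g : G) ∈ (Q : Subgroup G) := by
        intro g
        have h1 : P ⊓ normalizer ((Q : Subgroup G) : Set G) = P ⊓ (Q : Subgroup G) :=
          hPp.inf_normalizer_sylow Q
        have h2 : g ∈ S ↔ (g : G) ∈ normalizer ((Q : Subgroup G) : Set G) :=
          Sylow.smul_eq_iff_mem_normalizer
        rw [h2]
        constructor
        · intro hg
          have : (g : G) ∈ P ⊓ normalizer ((Q : Subgroup G) : Set G) := ⟨g.2, hg⟩
          rw [h1] at this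
          exact this.2
        · exact fun hg => le_normalizer hg
      have hSp : IsPGroup p S := hPp.to_subgroup S
      obtain ⟨i, hi⟩ := hSp.exists_card_eq
      have hidx : S.index * Nat.card S = q ^ 3 := by rw [index_mul_card, hPcard]
      obtain ⟨j, hj⟩ : ∃ j, S.index = p ^ j := hPp.index S
      rw [hj, hn]
      refine pow_dvd_pow p ?_
      by_contra hlt
      -- then `|P ∩ Q| > q²`
      have hbig : q ^ 2 < Nat.card S := by
        by_contra hle
        push Not at hle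
        have hpj : p ^ j * q ^ 2 < q ^ 3 := by
          rw [pow_succ' q 2]
          refine Nat.mul_lt_mul_of_pos_right ?_ (pow_pos (by omega) _)
          rw [hn]
          exact Nat.pow_lt_pow_right hp.one_lt (by omega)
        rw [hj] at hidx
        have := Nat.mul_le_mul_left (p ^ j) hle
        exact absurd (hidx ▸ this) (not_le.2 hpj)
      have hmeet : ∀ W : Subgroup G, W ≤ P → Nat.card W = q → ∃ w ∈ W, w ≠ 1 ∧ w ∈ (Q : Subgroup G) := by
        intro W hW hWc
        by_contra hnone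
        push Not at hnone
        have hinj : Function.Injective fun v : W × S => ((⟨v.1, hW v.1.2⟩ : P) * (v.2 : P)) := by
          rintro ⟨w, s⟩ ⟨w', s'⟩ e
          have e' : (⟨w'.1, hW w'.2⟩ : P)⁻¹ * ⟨w.1, hW w.2⟩ = (s' : P) * (s : P)⁻¹ := by
            calc _ = (⟨w'.1, hW w'.2⟩ : P)⁻¹ * ((⟨w.1, hW w.2⟩ : P) * (s : P)) * (s : P)⁻¹ := by group
              _ = _ := by rw [show (⟨w.1, hW w.2⟩ : P) * (s : P) = ⟨w'.1, hW w'.2⟩ * (s' : P) from e]; group
          have hmem : (w' : G)⁻¹ * w ∈ (Q : Subgroup G) := by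
            have h1 : ((w' : G)⁻¹ * w) = ((((s' : P) * (s : P)⁻¹ : P)) : G) := congrArg Subtype.val e'
            rw [h1]
            exact (hSmem _).1 (mul_mem s'.2 (inv_mem s.2))
          have hw : (w' : G)⁻¹ * w = 1 := by
            by_contra hne
            exact hnone _ (mul_mem (inv_mem w'.2) w.2) hne hmem
          have hww : w = w' := Subtype.ext (inv_mul_eq_one.1 hw).symm
          subst hww
          simp only [mul_right_inj] at e
          rw [Prod.mk.injEq]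
          exact ⟨rfl, Subtype.ext e⟩
        have := Nat.card_le_card_of_injective _ hinj
        rw [Nat.card_prod, hWc, hPcard] at this
        have h3 : q * q ^ 2 < q * Nat.card S := (Nat.mul_lt_mul_left (by omega)).2 hbig
        rw [← pow_succ'] at h3
        exact absurd this (not_le.2 h3)
      obtain ⟨x, hx, hx1, hxQ⟩ := hmeet D.X (D.X_le_bigP σ) D.card_X
      obtain ⟨_, ⟨a, ha, rfl⟩, ha1, haQ⟩ := hmeet (D.X.map (MulAut.conj σ).toMonoidHom)
        (le_sup_right.trans le_sup_left)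
        (by rw [card_map_of_injective (MulAut.conj σ).injective, D.card_X])
      obtain ⟨_, ⟨b, hb, rfl⟩, hb1, hbQ⟩ := hmeet (D.X.map (MulAut.conj (σ * σ)).toMonoidHom) le_sup_right
        (by rw [card_map_of_injective (MulAut.conj (σ * σ)).injective, D.card_X])
      have hQY : (Q : Subgroup G) ≤
          centralizer ({x, σ * a * σ⁻¹, σ * σ * b * (σ * σ)⁻¹} : Set G) := by
        obtain ⟨g, hg⟩ := MulAction.exists_smul_eq G PS Q
        intro y hy
        refine mem_centralizer_iff.2 fun c hc => ?_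
        have hcQ : c ∈ (Q : Subgroup G) := by
          simp only [Set.mem_insert_iff, Set.mem_singleton_iff] at hc
          rcases hc with rfl | rfl | rfl
          exacts [hxQ, haQ, hbQ]
        have hQP : (Q : Subgroup G) = MulAut.conj g • P := by rw [← hg]; rfl
        rw [hQP] at hy hcQ
        rw [Coprime.mem_conj] at hy hcQ
        have e := Abelian.bigP_comm D h hcQ hy
        calc c * y = g * ((g⁻¹ * c * g) * (g⁻¹ * y * g)) * g⁻¹ := by group
          _ = y * c := by rw [e]; group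
      have hQN : (Q : Subgroup G) ≤ N := hQY.trans (Abelian.cent_le_normalizer D h hx hx1 ha
        (fun e => ha1 (by rw [e, map_one])) hb (fun e => hb1 (by rw [e, map_one])))
      haveI : ((P).subgroupOf N).Normal := Subgroup.normal_subgroupOf_of_le_normalizer le_rfl
      have hle : (P.subgroupOf N) ≤ ((Q.subtype hQN : Sylow p N) : Subgroup N) :=
        (hPp.of_equiv (subgroupOfEquivOfLe le_normalizer).symm).le_sylow_of_normal _
      have hPQ : P ≤ (Q : Subgroup G) := fun y hy => hle (show (⟨y, le_normalizer hy⟩ : N) ∈ P.subgroupOf N from hy)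
      exact hQ (Sylow.ext (PS.is_maximal' Q.2 hPQ))
  have hI1 : (q : ℤ) ∣ (I : ℤ) - 1 := by
    have h0 : (q : ℤ) ∣ (I : ℤ) * ns - 1 := by
      have : (I : ℤ) * ns = ((q : ℤ) + 1) * ((q : ℤ) ^ 2 + q + 1) := by exact_mod_cast hprod
      rw [this]
      exact ⟨(q : ℤ) ^ 2 + 2 * q + 2, by ring⟩
    have : (I : ℤ) - 1 = ((I : ℤ) * ns - 1) - (I : ℤ) * ((ns : ℤ) - 1) := by ring
    rw [this]
    exact dvd_sub h0 (hns1.mul_left _)
  -- the torus on the cosets of `P T`
  have hI3 : ((2 ^ (2 * (q - 1).factorization 2) : ℕ) : ℤ) ∣ (I : ℤ) - 3 := by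
    haveI : Fact (Nat.Prime 2) := ⟨Nat.prime_two⟩
    set TN := D.T.subgroupOf N with hTN
    obtain ⟨S⟩ : Nonempty (Sylow 2 TN) := inferInstance
    set S' : Subgroup N := (S : Subgroup TN).map TN.subtype with hS'
    have hScard : Nat.card S' = 2 ^ (2 * (q - 1).factorization 2) := by
      rw [hS', card_map_of_injective TN.subtype_injective, S.card_eq_multiplicity,
        Nat.card_congr (subgroupOfEquivOfLe hTn).toEquiv]
      congr 1
      have h1 := congrArg (fun m => m.factorization 2) hTZ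
      simp only [Nat.factorization_mul Nat.card_pos.ne' Nat.card_pos.ne', Nat.factorization_pow,
        Finsupp.coe_add, Pi.add_apply, Finsupp.coe_smul, Pi.smul_apply, smul_eq_mul] at h1
      rwa [Nat.factorization_eq_zero_of_not_dvd (n := Nat.card D.π.ker)
        (fun hd => Nat.not_even_iff_odd.2 D.ker_odd (even_iff_two_dvd.2 hd)), add_zero] at h1
    let M' : Subgroup N := M.subgroupOf N
    have hσM : ∀ y ∈ M, σ * y * σ⁻¹ ∈ M := fun y hy => by
      obtain ⟨r, hr, τ, hτ, rfl⟩ := (Coprime.mem_sup_iff hTn).1 hy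
      rw [show σ * (r * τ) * σ⁻¹ = (σ * r * σ⁻¹) * (σ * τ * σ⁻¹) by group]
      exact mul_mem (le_sup_left (b := D.T) (Abelian.conj_bigP D h hr))
        (le_sup_right (a := P) (Abelian.normal_T D h hτ))
    have hσMn : σ ∈ normalizer (M : Set G) := Coprime.mem_normalizer_of_forall hσM
    let c : Fin 3 → N := ![1, ⟨σ, hσN⟩, ⟨σ * σ, mul_mem hσN hσN⟩]
    let F0 : Finset (N ⧸ M') := Finset.univ.image fun i => (c i : N ⧸ M')
    have hcn : ∀ i, ((c i : N) : G) ∈ normalizer (M : Set G) := fun i => by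
      fin_cases i
      · exact one_mem _
      · exact hσMn
      · exact mul_mem hσMn hσMn
    have hF0 : ∀ g : N, (g : N ⧸ M') ∈ F0 ↔ ∃ i, ((c i : N) : G)⁻¹ * g ∈ M := fun g => by
      simp only [F0, Finset.mem_image, Finset.mem_univ, true_and, QuotientGroup.eq]
      exact Iff.rfl
    have hout : σ ∉ M := fun hm => by
      obtain ⟨r, hr, τ, hτ, e⟩ := (Coprime.mem_sup_iff hTn).1 hm
      have ht : r * D.t * r⁻¹ = D.u := by
        rw [← h.map_t, ← e]
        have : τ * D.t = D.t * τ := D.T_comm hτ D.t_mem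
        calc r * D.t * r⁻¹ = r * (D.t * τ) * τ⁻¹ * r⁻¹ := by group
          _ = r * τ * D.t * (r * τ)⁻¹ := by rw [← this]; group
      refine D.u_ne_t ?_
      have h1 : r * (D.t * r⁻¹ * D.t⁻¹) = D.u * D.t⁻¹ := by rw [← ht]; group
      have h2 : D.u * D.t⁻¹ = 1 := D.T_inter_pGroup hp hPp
        (h1 ▸ mul_mem hr (D.T_normal_bigP h D.t_mem (inv_mem hr))) (mul_mem D.u_mem (inv_mem D.t_mem))
      exact mul_inv_eq_one.1 h2
    have h3M : σ * σ * σ ∈ M := le_sup_right (a := P) (Abelian.cube_mem D h)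
    have hout2 : σ * σ ∉ M := fun hm => hout (by
      have := mul_mem (inv_mem hm) h3M
      convert this using 1; group)
    have hF0card : F0.card = 3 := by
      rw [Finset.card_image_of_injective _ ?_, Finset.card_univ, Fintype.card_fin]
      intro i j e
      have e0 : ((c i : N) : N ⧸ M') = (c j : N ⧸ M') := e
      have e1 := QuotientGroup.eq.1 e0
      have e' : ((c i : N) : G)⁻¹ * (c j : N) ∈ M := e1
      fin_cases i <;> fin_cases j <;> first
        | rfl
        | exact absurd (by simpa [c, mul_assoc] using e') hout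
        | exact absurd (by simpa [c, mul_assoc] using e') hout2
        | exact absurd (by simpa [c, mul_assoc] using inv_mem e') hout
        | exact absurd (by simpa [c, mul_assoc] using inv_mem e') hout2
    have hkey := dvd_card_sub_fixed (Γ := S') (α := N ⧸ M') F0 (2 ^ (2 * (q - 1).factorization 2)) ?_ ?_
    · rw [hF0card] at hkey
      have : Nat.card (N ⧸ M') = I := rfl
      rw [this] at hkey
      exact_mod_cast hkey
    · intro x hx g
      obtain ⟨i, -, rfl⟩ := Finset.mem_image.1 hx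
      have hgT : ((g : N) : G) ∈ D.T := by
        obtain ⟨y, -, hy⟩ := g.2
        rw [← hy]; exact y.2
      show ((g : N) * c i : N ⧸ M') = (c i : N ⧸ M')
      refine (QuotientGroup.eq.2 ?_).symm
      show ((c i : N) : G)⁻¹ * (((g : N) : G) * (c i : N)) ∈ M
      rw [← mul_assoc]
      simpa using (mem_normalizer_iff.1 (inv_mem (hcn i)) _).1 (le_sup_right (a := P) hgT)
    · intro x hx
      obtain ⟨g, rfl⟩ := QuotientGroup.mk_surjective x
      rw [Nat.card_coe_set_eq, ← MulAction.index_stabilizer]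
      suffices hbot : MulAction.stabilizer S' (g : N ⧸ M') = ⊥ by rw [hbot, index_bot, hScard]
      by_contra hne
      obtain ⟨⟨s, hs⟩, hs1⟩ := ne_bot_iff_exists_ne_one.1 hne
      -- an involution fixing the coset
      have hS2 : IsPGroup 2 S' := S.2.map _
      obtain ⟨k, hk⟩ := IsPGroup.iff_orderOf.1 hS2 s
      have hk0 : k ≠ 0 := fun e => hs1 (Subtype.ext (orderOf_eq_one_iff.1 (by rw [hk, e, pow_zero])))
      set v := s ^ 2 ^ (k - 1) with hv
      have hvfix : v ∈ MulAction.stabilizer S' (g : N ⧸ M') := pow_mem hs _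
      have hv2 : v * v = 1 := by
        rw [hv, ← pow_add, ← two_mul, ← pow_succ', show k - 1 + 1 = k by omega, ← hk, pow_orderOf_eq_one]
      have hv1 : v ≠ 1 := fun e => by
        have := orderOf_dvd_of_pow_eq_one e
        rw [hk, Nat.pow_dvd_pow_iff_le_right (by norm_num)] at this
        omega
      set v' : G := ((v : N) : G) with hv'
      have hvT : v' ∈ D.T := by
        obtain ⟨y, -, hy⟩ := v.2
        rw [hv', ← hy]; exact y.2
      have hv'2 : v' * v' = 1 := congrArg (fun a : S' => ((a : N) : G)) hv2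
      have hv'1 : v' ≠ 1 := fun e => hv1 (Subtype.ext (Subtype.ext e))
      have hmem : (g : G)⁻¹ * v' * g ∈ M := by
        have h1 : ((v : N) * g : N ⧸ M') = (g : N ⧸ M') := hvfix
        have h2' := QuotientGroup.eq.1 h1.symm
        have h2 : (g : G)⁻¹ * (v' * g) ∈ M := h2'
        simpa [mul_assoc] using h2
      set z := (g : G)⁻¹ * v' * g with hz
      have hz2 : z * z = 1 := by
        rw [hz]
        calc _ = (g : G)⁻¹ * (v' * v') * g := by group
          _ = 1 := by rw [hv'2]; group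
      have hz1 : z ≠ 1 := fun e => hv'1 (by
        calc v' = (g : G) * z * (g : G)⁻¹ := by rw [hz]; group
          _ = 1 := by rw [e]; group)
      obtain ⟨r, hr, τ, hτ, hττ, hτ1, hzr⟩ := Abelian.invol_conj D h hp hmem hz2 hz1
      obtain ⟨kv, hkv, hkvt⟩ := Abelian.invol_cases D h hvT hv'2 hv'1
      obtain ⟨kt, hkt, hktt⟩ := Abelian.invol_cases D h hτ hττ hτ1
      have hkN : ∀ k : G, (k = 1 ∨ k = σ ∨ k = σ * σ) → k ∈ N ∧ k ∈ normalizer (M : Set G) := by
        rintro k (rfl | rfl | rfl)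
        exacts [⟨one_mem _, one_mem _⟩, ⟨hσN, hσMn⟩, ⟨mul_mem hσN hσN, mul_mem hσMn hσMn⟩]
      set d := kv⁻¹ * ((g : G) * r) * kt with hd
      have hdN : d ∈ N := mul_mem (mul_mem (inv_mem (hkN _ hkv).1) (mul_mem g.2 (le_normalizer hr))) (hkN _ hkt).1
      have hdt : d * D.t = D.t * d := by
        have e : ((g : G) * r) * τ * ((g : G) * r)⁻¹ = v' := by
          calc _ = (g : G) * (r * τ * r⁻¹) * (g : G)⁻¹ := by group
            _ = v' := by rw [← hzr, hz]; group
        refine mul_inv_eq_iff_eq_mul.1 ?_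
        calc d * D.t * d⁻¹ = kv⁻¹ * (((g : G) * r) * (kt * D.t * kt⁻¹) * ((g : G) * r)⁻¹) * kv := by
              rw [hd]; group
          _ = D.t := by rw [hktt, e, ← hkvt]; group
      have hdX : ∀ y ∈ D.X, d * y * d⁻¹ ∈ D.X := fun y hy => by
        refine Abelian.t_fixed D h ((mem_normalizer_iff.1 hdN y).1 (D.X_le_bigP σ hy)) ?_
        have e := mem_centralizer_singleton_iff.1 (D.X_le_centralizer hy)
        have hdi : d⁻¹ * D.t = D.t * d⁻¹ := (Commute.inv_left (hdt : Commute d D.t)).eq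
        calc d * y * d⁻¹ * D.t = d * (y * D.t) * d⁻¹ := by rw [mul_assoc (d * y), hdi]; group
          _ = d * (D.t * y) * d⁻¹ := by rw [e]
          _ = D.t * (d * y * d⁻¹) := by rw [← mul_assoc d, hdt]; group
      have hdM : d ∈ M := (sup_le_sup_right (D.X_le_bigP σ) D.T) (D.mem_XT hdt hdX)
      have hk3 : ∃ i, ((c i : N) : G)⁻¹ * (kv * kt⁻¹) ∈ M := by
        have h3i := inv_mem h3M
        rcases hkv with e0 | e0 | e0 <;> rcases hkt with e1 | e1 | e1 <;> rw [e0, e1]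
        · exact ⟨0, by simp [c]⟩
        · exact ⟨2, by
            show (σ * σ)⁻¹ * (1 * σ⁻¹) ∈ M
            convert h3i using 1; group⟩
        · exact ⟨1, by
            show σ⁻¹ * (1 * (σ * σ)⁻¹) ∈ M
            convert h3i using 1; group⟩
        · exact ⟨1, by simp [c]⟩
        · exact ⟨0, by simp [c]⟩
        · exact ⟨2, by
            show (σ * σ)⁻¹ * (σ * (σ * σ)⁻¹) ∈ M
            convert h3i using 1; group⟩
        · exact ⟨2, by simp [c]⟩
        · exact ⟨1, by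
            show σ⁻¹ * (σ * σ * σ⁻¹) ∈ M
            convert one_mem M using 1; group⟩
        · exact ⟨0, by simp [c]⟩
      obtain ⟨i, hi⟩ := hk3
      refine hx ((hF0 g).2 ⟨i, ?_⟩)
      have hd2 : kt * d * kt⁻¹ ∈ M := (mem_normalizer_iff.1 (hkN _ hkt).2 d).1 hdM
      have := mul_mem (mul_mem hi hd2) (inv_mem (le_sup_left (b := D.T) hr))
      convert this using 1
      rw [hd]; group
  exact no_cyclic_index hodd hq2 (index_cases hq2 hprod hI1 hns1) hI3

end LData

namespace Hyp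

variable (H : Hyp F G) [H.Exact]

include H in
/-- The abelian case of the recognition theorem. -/
theorem false_of_pos {σ : G} (hσ : σ * H.t * σ⁻¹ = H.s) (hσ' : σ * H.s * σ⁻¹ = H.t * H.s)
    (hpos : ∀ x ∈ H.Xp, ∀ y ∈ (H.conj σ).Xp, x * y = y * x)
    (hJ : Fintype.card F ^ 3 ∣ Nat.card G → (centralizer {H.t}).index =
      Fintype.card F ^ 2 * (Fintype.card F ^ 2 + Fintype.card F + 1)) : False := by
  have hu := H.toLData_u
  refine H.toLData.false_of_abelian (σ := σ) ⟨?_, ?_, ?_⟩ hJ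
  · rw [hu]; exact hσ
  · rw [hu]; exact hσ'
  · intro x hx y hy
    rw [H.toLData_X] at hx hy
    refine hpos x hx _ ?_
    rw [H.conj_Xp]
    exact ⟨y, hy, rfl⟩

end Hyp

end Cfsg.Agent.LThreeRec
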