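import Cfsg.Agent.EqLemmas
import Mathlib.FieldTheory.Finite.Basic
import Mathlib.Tactic

/-!
# Additive maps on a finite field compatible with inversion (helper60)
-/

set_option autoImplicit false

namespace Cfsg.Agent.LThreeRec

variable {F : Type*} [Field F] [Fintype F]

/-- If `ψ` and `c ↦ c² ψ c⁻¹` are additive, `ψ 1 = 1`, and `2 ≠ 0`, then `ψ` is the identity. -/
theorem eq_id_of_inv_additive (h2 : (2 : F) ≠ 0) (ψ : F → F)
    (hadd : ∀ a b, ψ (a + b) = ψ a + ψ b) (h1 : ψ 1 = 1)
    (hinv : ∀ a b : F, (a + b) ^ 2 * ψ (a + b)⁻¹ = a ^ 2 * ψ a⁻¹ + b ^ 2 * ψ b⁻¹) :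
    ∀ c, ψ c = c := by
  set E : F → F := fun c => c ^ 2 * ψ c⁻¹ - c with hE
  have Eadd : ∀ a b, E (a + b) = E a + E b := fun a b => by simp only [hE, hinv]; ring
  have E1 : E 1 = 0 := by simp [hE, h1]
  have E0 : E 0 = 0 := by simp [hE]
  have Esq : ∀ c, E (c ^ 2) = 2 * c * E c := by
    intro c
    have key : E (c ^ 2 + c) = (2 * c + 1) * E c := by
      rcases eq_or_ne c 0 with rfl | hc
      · simp [E0]
      rcases eq_or_ne (c + 1) 0 with hc1 | hc1
      · have hcm : c = -1 := eq_neg_of_add_eq_zero_left hc1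
        subst hcm
        have := Eadd 1 (-1)
        rw [add_neg_cancel, E0, E1, zero_add] at this
        rw [show ((-1 : F)) ^ 2 + -1 = 0 by ring, E0, ← this, mul_zero]
      have hinv' : (c ^ 2 + c)⁻¹ + (c + 1)⁻¹ = c⁻¹ := by
        have : c ^ 2 + c ≠ 0 := by
          rw [show c ^ 2 + c = c * (c + 1) by ring]; exact mul_ne_zero hc hc1
        field_simp
        ring
      have hd := hadd (c ^ 2 + c)⁻¹ (c + 1)⁻¹
      rw [hinv'] at hd
      have hs := Eadd c 1
      rw [E1, add_zero] at hs
      simp only [hE] at hs ⊢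
      linear_combination (-(c ^ 2 + c) ^ 2) * hd - c ^ 2 * hs
    rw [Eadd] at key
    linear_combination key
  have Emul : ∀ x y, E (x * y) = x * E y + y * E x := by
    intro x y
    have h := Esq (x + y)
    rw [show (x + y) ^ 2 = x ^ 2 + (x * y + x * y) + y ^ 2 by ring, Eadd, Eadd, Eadd, Esq, Esq,
      Eadd x y] at h
    apply mul_left_cancel₀ h2
    linear_combination h
  have Epow : ∀ (c : F) (n : ℕ), E (c ^ n) * c = (n : F) * c ^ n * E c := by
    intro c n
    induction n with
    | zero => simp [E1]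
    | succ n ih =>
      rw [pow_succ, Emul]
      push_cast
      linear_combination c * ih
  have Ezero : ∀ c, E c = 0 := by
    intro c
    rcases eq_or_ne c 0 with rfl | hc
    · exact E0
    have h := Epow c (Fintype.card F)
    rw [FiniteField.pow_card, Nat.cast_card_eq_zero, zero_mul, zero_mul] at h
    exact (mul_eq_zero.1 h).resolve_right hc
  intro c
  rcases eq_or_ne c 0 with rfl | hc
  · have := hadd 0 0; simpa using this
  have h := Ezero c⁻¹
  simp only [hE, inv_inv] at h
  field_simp at h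
  linear_combination h

end Cfsg.Agent.LThreeRec
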