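import Cfsg.Agent.Lib.LThreeRec.Basic
import Cfsg.Agent.Lib.InvolChar.SemiBranch
import Cfsg.Agent.Lib.GWDihedral.LocalMixed
import Cfsg.Agent.Lib.GLOrder.Two
import Cfsg.Agent.S1193

/-!
# Characterising `PSL(3, q)` by an involution centralizer: Brauer's equations, `q ≡ 3 (mod 4)`

* `sl2_odd_normal` : a normal subgroup of odd order of `SL(2, q)`, `q` odd, is trivial;
* `card_cent`, `card_T`, `centralizer_pair` : the orders of `C(t)` and `T = C(t, s)`;
* `exists_semidihedral` : a semidihedral Sylow subgroup inside `C(t)`;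
* `exists_normal_sl2` : the normal `SL(2, q)` of `C(t) / O(C(t))`;
* `exists_equations` : the equations for the index of `C(t)`;
* `eq_cube_of_regular` : `X = q³` if `q³` divides the order;
* `isQuasiDihedral`, `mod_four_of_isQuasiDihedral` : semidihedral Sylow subgroups mean `q ≡ 3 (mod 4)`.
-/

set_option autoImplicit false
set_option linter.style.haveILetI false
set_option linter.unusedSectionVars false

namespace Cfsg.Agent.LThreeRec

open Matrix Subgroup Cfsg.Agent.SylowCyclicSuzuki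
open scoped MatrixGroups
open Cfsg.Agent.DihedralDefect (mid)

universe u

variable {F : Type*} [Field F] [Fintype F]

/-- A normal subgroup of odd order of `SL(2, q)`, `q` odd, is trivial. -/
theorem sl2_odd_normal (h2 : (2 : F) ≠ 0) (K : Subgroup SL(2, F)) [K.Normal] (hK : Odd (Nat.card K)) :
    K = ⊥ := by
  classical
  have hord : ∀ g ∈ K, g * g = 1 → g = 1 := fun g hg h => by
    by_contra hne
    have e : orderOf (⟨g, hg⟩ : K) = 2 := by
      rw [← Subgroup.orderOf_coe]
      exact orderOf_eq_prime (hp := ⟨Nat.prime_two⟩) (by rw [pow_two]; exact h) hne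
    refine Nat.not_even_iff_odd.2 hK (even_iff_two_dvd.2 ?_)
    have := orderOf_dvd_natCard (⟨g, hg⟩ : K)
    rwa [e] at this
  let U : F → SL(2, F) := fun x => ⟨!![1, x; 0, 1], by simp [Matrix.det_fin_two]⟩
  have hU00 : ∀ x, U x 0 0 = 1 := fun x => rfl
  have hU01 : ∀ x, U x 0 1 = x := fun x => rfl
  have hU10 : ∀ x, U x 1 0 = 0 := fun x => rfl
  have hU11 : ∀ x, U x 1 1 = 1 := fun x => rfl
  have sext : ∀ {g h : SL(2, F)}, g 0 0 = h 0 0 → g 0 1 = h 0 1 → g 1 0 = h 1 0 → g 1 1 = h 1 1 →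
      g = h := by
    intro g h a b c d
    refine Subtype.ext ?_
    ext i j
    fin_cases i <;> fin_cases j <;> assumption
  have hUadd : ∀ x y, U x * U y = U (x + y) := fun x y => sext
    (by simp [GLOrder.SL2_mul_apply, hU00, hU01, hU10])
    (by simp [GLOrder.SL2_mul_apply, hU00, hU01, hU11]; ring)
    (by simp [GLOrder.SL2_mul_apply, hU00, hU10, hU11])
    (by simp [GLOrder.SL2_mul_apply, hU01, hU10, hU11])
  -- no unipotent element
  have hno : ∀ x, U x ∈ K → x = 0 := by
    intro x hx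
    by_contra hx0
    have hU0 : U 0 = 1 := sext (by simp [hU00]) (by simp [hU01]) (by simp [hU10]) (by simp [hU11])
    have hneg : ∀ y, U y ∈ K → U (-y) ∈ K := fun y hy => by
      have e : (U y)⁻¹ = U (-y) := inv_eq_of_mul_eq_one_right (by rw [hUadd, add_neg_cancel, hU0])
      exact e ▸ inv_mem hy
    have hsq : ∀ c : F, U (c ^ 2 * x) ∈ K := fun c => by
      by_cases hc : c = 0
      · subst hc
        rw [zero_pow two_ne_zero, zero_mul, hU0]
        exact one_mem _
      · obtain ⟨d, d00, d01, d10, d11⟩ : ∃ d : SL(2, F), d 0 0 = c ∧ d 0 1 = 0 ∧ d 1 0 = 0 ∧ d 1 1 = c⁻¹ :=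
          ⟨⟨!![c, 0; 0, c⁻¹], by simp [Matrix.det_fin_two, hc]⟩, rfl, rfl, rfl, rfl⟩
        have h1 := Normal.conj_mem (H := K) inferInstance _ hx d
        have e : d * U x * d⁻¹ = U (c ^ 2 * x) := by
          rw [mul_inv_eq_iff_eq_mul]
          refine sext ?_ ?_ ?_ ?_ <;>
            simp [GLOrder.SL2_mul_apply, hU00, hU01, hU10, hU11, d00, d01, d10, d11] <;> field_simp
        exact e ▸ h1
    have hall : ∀ y, U y ∈ K := fun y => by
      have h1 := mul_mem (hsq ((y / x + 1) / 2)) (hneg _ (hsq ((y / x - 1) / 2)))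
      rw [hUadd] at h1
      have e : ((y / x + 1) / 2) ^ 2 * x + -(((y / x - 1) / 2) ^ 2 * x) = y := by field_simp; ring
      rwa [e] at h1
    have hlow : GLOrder.upperS F ⊔ GLOrder.lowerS F ≤ K := by
      refine sup_le (fun g hg => ?_) fun g hg => ?_
      · obtain ⟨a, b, c⟩ := GLOrder.mem_upperS.1 hg
        rw [sext (g := g) (h := U (g 0 1)) (by rw [a, hU00]) (by rw [hU01]) (by rw [b, hU10])
          (by rw [c, hU11])]
        exact hall _
      · obtain ⟨a, b, c⟩ := GLOrder.mem_lowerS.1 hg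
        obtain ⟨w, w00, w01, w10, w11⟩ : ∃ w : SL(2, F), w 0 0 = 0 ∧ w 0 1 = 1 ∧ w 1 0 = -1 ∧ w 1 1 = 0 :=
          ⟨⟨!![0, 1; -1, 0], by simp [Matrix.det_fin_two]⟩, rfl, rfl, rfl, rfl⟩
        have h1 := Normal.conj_mem (H := K) inferInstance _ (hall (-(g 1 0))) w
        have e : w * U (-(g 1 0)) * w⁻¹ = g := by
          rw [mul_inv_eq_iff_eq_mul]
          refine sext ?_ ?_ ?_ ?_ <;>
            simp [GLOrder.SL2_mul_apply, hU00, hU01, hU10, hU11, w00, w01, w10, w11, a, b, c]
        exact e ▸ h1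
    rw [GLOrder.upperS_sup_lowerS] at hlow
    have h1 := congrArg (fun g : SL(2, F) => g 0 0)
      (hord (-1) (hlow (mem_top _)) (by simp))
    simp at h1
    exact h2 (by linear_combination -h1)
  -- no upper triangular element
  have hB : ∀ g ∈ K, g 1 0 = 0 → g = 1 := by
    intro g hg h10
    have hd := GLOrder.SL2_det g
    rw [h10, mul_zero, sub_zero] at hd
    have hinv : g⁻¹ 0 0 = g 1 1 ∧ g⁻¹ 0 1 = -g 0 1 ∧ g⁻¹ 1 0 = 0 ∧ g⁻¹ 1 1 = g 0 0 := by
      rw [SpecialLinearGroup.SL2_inv_expl]; simp [h10]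
    have hc : g * (U 1 * g⁻¹ * (U 1)⁻¹) ∈ K :=
      mul_mem hg (Normal.conj_mem inferInstance _ (inv_mem hg) _)
    have e : g * (U 1 * g⁻¹ * (U 1)⁻¹) = U (g 0 0 * g 0 0 - 1) := by
      have e1 : g * (U 1 * g⁻¹) = U (g 0 0 * g 0 0 - 1) * U 1 := by
        rw [hUadd]
        refine sext ?_ ?_ ?_ ?_ <;>
          simp [GLOrder.SL2_mul_apply, hU00, hU01, hU10, hU11, h10, hinv]
        · exact hd
        · ring
        · rw [mul_comm]; exact hd
      rw [← mul_assoc, ← mul_assoc, mul_assoc g, e1, mul_inv_cancel_right]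
    rw [e] at hc
    have hsq1 : g 0 0 * g 0 0 = 1 := sub_eq_zero.1 (hno _ hc)
    have h11 : g 1 1 = g 0 0 := by linear_combination g 0 0 * hd - g 1 1 * hsq1
    have hsq : g * g = U (2 * (g 0 0 * g 0 1)) := by
      refine sext ?_ ?_ ?_ ?_ <;>
        simp [GLOrder.SL2_mul_apply, hU00, hU01, hU10, hU11, h10, h11, hsq1]
      ring
    refine hord g hg ?_
    have hm : U (2 * (g 0 0 * g 0 1)) ∈ K := hsq ▸ mul_mem hg hg
    rw [hsq, hno _ hm]
    exact sext (by simp [hU00]) (by simp [hU01]) (by simp [hU10]) (by simp [hU11])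
  rw [eq_bot_iff]
  intro k hk
  by_contra hk1
  simp only [mem_bot] at hk1
  -- conjugation of `k` by the unipotent elements is injective
  have hle : Fintype.card F + 1 ≤ Nat.card K := by
    let f : Option F → K := fun o => o.elim 1 fun x => ⟨U x * k * (U x)⁻¹,
      Normal.conj_mem inferInstance _ hk _⟩
    have hf : Function.Injective f := by
      rintro (_ | x) (_ | y) e
      · rfl
      · exact absurd (conj_eq_one_iff.1 (congrArg Subtype.val e).symm) hk1
      · exact absurd (conj_eq_one_iff.1 (congrArg Subtype.val e)) hk1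
      · have e1 : U x * k * (U x)⁻¹ = U y * k * (U y)⁻¹ := congrArg Subtype.val e
        by_contra hne
        have hne' : x - y ≠ 0 := sub_ne_zero.2 fun h => hne (congrArg some h)
        have e2 : U (x - y) * k = k * U (x - y) := by
          have e3 : U x = U y * U (x - y) := by rw [hUadd, add_sub_cancel]
          rw [e3] at e1
          have e4 : U y * (U (x - y) * k * (U (x - y))⁻¹) * (U y)⁻¹ = U y * k * (U y)⁻¹ := by
            rw [← e1]; group
          exact mul_inv_eq_iff_eq_mul.1 (mul_left_cancel (mul_right_cancel e4))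
        have h00 := congrArg (fun g : SL(2, F) => g 0 0) e2
        simp [GLOrder.SL2_mul_apply, hU00, hU01, hU10, hne'] at h00
        exact hk1 (hB k hk h00)
    have := Nat.card_le_card_of_injective f hf
    rwa [Finite.card_option, Nat.card_eq_fintype_card (α := F)] at this
  -- the first column separates the elements of `K`
  have hge : Nat.card K ≤ Fintype.card F + 1 := by
    let f : K → Option F := fun g => if (g : SL(2, F)) 1 0 = 0 then none
      else some ((g : SL(2, F)) 0 0 / (g : SL(2, F)) 1 0)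
    have hf : Function.Injective f := by
      intro g g' e
      simp only [f] at e
      split_ifs at e with a b b
      · exact Subtype.ext ((hB _ g.2 a).trans (hB _ g'.2 b).symm)
      · rw [Option.some_inj, div_eq_div_iff a b] at e
        refine Subtype.ext (inv_mul_eq_one.1 (hB _ (mul_mem (inv_mem g.2) g'.2) ?_))
        rw [GLOrder.SL2_mul_apply, SpecialLinearGroup.SL2_inv_expl]
        simp
        linear_combination e
    have := Nat.card_le_card_of_injective f hf
    rwa [Finite.card_option, Nat.card_eq_fintype_card (α := F)] at this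
  have hq : Odd (Fintype.card F) := by
    rw [Nat.odd_iff]
    by_contra h
    exact h2 (by
      have h3 : ringChar F = 2 := FiniteField.even_card_iff_char_two.2 (by omega)
      simpa [h3] using ringChar.Nat.cast_ringChar (R := F))
  rw [le_antisymm hge hle, Nat.odd_iff] at hK
  rw [Nat.odd_iff] at hq
  omega

namespace Hyp

variable {G : Type u} [Group G] [Finite G] [IsSimpleGroup G] (H : Hyp F G) [H.Exact]
include H

theorem one_lt_q : 1 < Fintype.card F := Fintype.one_lt_card

theorem card_cent : Nat.card (centralizer {H.t}) * Nat.card H.π.ker =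
    (Fintype.card F ^ 2 - 1) * (Fintype.card F ^ 2 - Fintype.card F) := by
  rw [← H.card_gl_eq, GLOrder.card_GL_two, Nat.card_eq_fintype_card (α := F),
    show Fintype.card F ^ 2 - Fintype.card F = Fintype.card F * (Fintype.card F - 1) by
      rw [Nat.mul_sub_one, pow_two]]
  ring

theorem ker_le_dg : H.π.ker ≤ (dg (F := F)).range := fun _ hk => by
  obtain ⟨a, b, -⟩ := center_scalar (H.ker_le hk)
  exact mem_dg a b

theorem card_T : Nat.card H.T * Nat.card H.π.ker = (Fintype.card F - 1) ^ 2 := by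
  set D := (dg (F := F)).range
  have e1 : Nat.card D = (Fintype.card F - 1) ^ 2 := by
    rw [← Nat.card_congr (MonoidHom.ofInjective dg_injective).toEquiv, Nat.card_prod, Nat.card_units,
      Nat.card_eq_fintype_card, pow_two]
  have e2 : Nat.card (H.π.ker.subgroupOf D) = Nat.card H.π.ker :=
    Nat.card_congr (subgroupOfEquivOfLe H.ker_le_dg).toEquiv
  have e3 : (H.π.ker.subgroupOf D).index = Nat.card H.T := relIndex_ker _ H.π
  rw [← e1, ← card_mul_index (H.π.ker.subgroupOf D), e2, e3, mul_comm]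

theorem centralizer_pair : centralizer ({H.t, H.s} : Set G) = H.T := by
  ext x
  rw [H.mem_T_iff, mem_centralizer_singleton_iff, mem_centralizer_iff]
  simp only [Set.mem_insert_iff, Set.mem_singleton_iff, forall_eq_or_imp, forall_eq]
  exact ⟨fun h => ⟨h.1.symm, h.2.symm⟩, fun h => ⟨h.1.symm, h.2.symm⟩⟩

/-- A semidihedral Sylow subgroup inside `C(t)` containing `t` and `s`. -/
theorem exists_semidihedral (h4 : Fintype.card F % 4 = 3) :
    ∃ R : Sylow 2 G, (R : Subgroup G) ≤ centralizer {H.t} ∧ H.t ∈ R ∧ H.s ∈ R ∧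
      Cfsg.IsQuasiDihedral (R : Subgroup G) := by
  haveI : Fact (Nat.Prime 2) := ⟨Nat.prime_two⟩
  obtain ⟨R₀, hR₀, -, -, -⟩ := H.exists_sylow_le
  set A := zpowers (gs : GL (Fin 2) F) ⊔ zpowers (gt : GL (Fin 2) F) with hA
  have hp : IsPGroup 2 A := by
    haveI : (zpowers (gt : GL (Fin 2) F)).Normal := ⟨fun x hx g => by
      rwa [mem_center_iff.1 (zpowers_le.2 gt_central hx) g, mul_inv_cancel_right]⟩
    refine IsPGroup.to_sup_of_normal_right ?_ ?_ <;>
    · intro x
      obtain ⟨k, hk⟩ := x.2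
      refine ⟨1, Subtype.ext ?_⟩
      simp only [pow_one, SubgroupClass.coe_pow, OneMemClass.coe_one, ← hk]
      rw [pow_two, ← (Commute.refl _).mul_zpow]
      first | (rw [gs_sq]; simp) | (rw [gt_sq]; simp)
  obtain ⟨P, hP⟩ := hp.exists_le_sylow
  set R₁ : Subgroup G := (P : Subgroup (GL (Fin 2) F)).map H.π with hR₁
  have hinj : Function.Injective (H.π.subgroupMap (P : Subgroup (GL (Fin 2) F))) := by
    rw [injective_iff_map_eq_one]
    intro x hx
    have hx' : H.π (x : GL (Fin 2) F) = 1 := congrArg Subtype.val hx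
    obtain ⟨k, hk⟩ := P.isPGroup' x
    have h1 : orderOf x ∣ 2 ^ k := orderOf_dvd_of_pow_eq_one hk
    have h2 : orderOf x ∣ Nat.card H.π.ker := by
      rw [← Subgroup.orderOf_coe]
      exact (Subgroup.orderOf_coe (⟨(x : GL (Fin 2) F), hx'⟩ : H.π.ker)).symm ▸ orderOf_dvd_natCard _
    rw [← orderOf_eq_one_iff]
    exact Nat.eq_one_of_dvd_coprimes (Nat.Coprime.pow_left k
      (Nat.coprime_two_left.2 H.ker_odd)) h1 h2
  let e : (P : Subgroup (GL (Fin 2) F)) ≃* R₁ :=
    MulEquiv.ofBijective (H.π.subgroupMap _) ⟨hinj, H.π.subgroupMap_surjective _⟩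
  have hle : R₁ ≤ centralizer {H.t} := fun _ ⟨g, _, hg⟩ => hg ▸ H.π_mem_cent g
  obtain ⟨R, hR⟩ := (P.isPGroup'.map H.π : IsPGroup 2 R₁).exists_le_sylow
  have hcard : Nat.card (R : Subgroup G) ≤ Nat.card R₁ := by
    rw [← Nat.card_congr e.toEquiv, P.card_eq_multiplicity, H.card_gl_eq,
      Nat.factorization_mul Nat.card_pos.ne' Nat.card_pos.ne', Finsupp.add_apply,
      Nat.factorization_eq_zero_of_not_dvd (n := Nat.card H.π.ker)
        (fun h => Nat.not_even_iff_odd.2 H.ker_odd (even_iff_two_dvd.2 h)), add_zero,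
      Nat.card_congr (R.equiv R₀).toEquiv,
      ← Nat.card_congr (subgroupOfEquivOfLe hR₀).toEquiv]
    exact le_of_eq (R₀.subtype hR₀).card_eq_multiplicity
  have hR' : R₁ = R := eq_of_le_of_card_ge hR hcard
  refine ⟨R, hR' ▸ hle, hR ⟨gt, hP (mem_sup_right (mem_zpowers _)), rfl⟩,
    hR ⟨gs, hP (mem_sup_left (mem_zpowers _)), rfl⟩, ?_⟩
  obtain ⟨n, ⟨d⟩⟩ := QDWreath.nonempty_qdData ((S1217.result P).1 h4)
  have d' := Transfer.qdMap d (e.trans (MulEquiv.subgroupCongr hR'))
  exact ⟨n, d'.hn, d'.card, d'.x, d'.y, d'.order_x, d'.order_y, d'.rel⟩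

/-- The normal `SL(2, q)` of `C(t) / O(C(t))`. -/
theorem exists_normal_sl2 :
    ∃ N : Subgroup (↥(centralizer ({H.t} : Set G)) ⧸ Cfsg.oddCore ↥(centralizer ({H.t} : Set G))),
      N.Normal ∧ Nonempty (↥N ≃* SL(2, F)) := by
  set C := centralizer ({H.t} : Set G) with hCdef
  let φ : SL(2, F) →* C :=
    (H.π.comp SpecialLinearGroup.toGL).codRestrict C fun g => H.π_mem_cent _
  let ψ : SL(2, F) →* C ⧸ Cfsg.oddCore C := (QuotientGroup.mk' (Cfsg.oddCore C)).comp φ
  have hφ : Function.Injective φ := by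
    rw [injective_iff_map_eq_one]
    intro g hg
    have hg' : H.π (SpecialLinearGroup.toGL g) = 1 := congrArg Subtype.val hg
    obtain ⟨a, b, c⟩ := center_scalar (H.ker_le hg')
    have hd := GLOrder.SL2_det g
    have a' : g 0 1 = 0 := a
    have b' : g 1 0 = 0 := b
    have c' : g 0 0 = g 1 1 := c
    rw [a', zero_mul, sub_zero, ← c'] at hd
    refine SpecialLinearGroup.toGL_injective ((H.eq_one_of_sq hg' ?_).trans (map_one _).symm)
    refine ext2 ?_ ?_ ?_ ?_ <;> simp [GLOrder.GL2_mul_apply, a', b', ← c', hd]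
  have hψ : Function.Injective ψ := by
    have hoddO : Odd (Nat.card (Cfsg.oddCore C)) :=
      Nat.odd_iff.2 (Nat.two_dvd_ne_zero.1 (Cores.not_dvd_card_pPrimeCore (p := 2)))
    have hk : ψ.ker = (Cfsg.oddCore C).comap φ := by
      rw [← MonoidHom.comap_ker, QuotientGroup.ker_mk']
    rw [← MonoidHom.ker_eq_bot_iff, hk]
    refine sl2_odd_normal H.two_ne _ (hoddO.of_dvd_nat ?_)
    exact card_dvd_of_injective ((φ.comp ((Cfsg.oddCore C).comap φ).subtype).codRestrict (Cfsg.oddCore C) fun x => x.2)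
      fun x y e => Subtype.ext (hφ (congrArg Subtype.val e))
  have hN : ψ.range.Normal := by
    refine ⟨fun x hx y => ?_⟩
    obtain ⟨g, rfl⟩ := hx
    obtain ⟨c, rfl⟩ := QuotientGroup.mk'_surjective _ y
    obtain ⟨b, hb⟩ := H.exists_of_mem_cent c.2
    obtain ⟨g', hg'⟩ : b * SpecialLinearGroup.toGL g * b⁻¹ ∈
        (SpecialLinearGroup.toGL : SL(2, F) →* GL (Fin 2) F).range := by
      rw [GLOrder.range_toGL]
      exact Normal.conj_mem inferInstance _ (by rw [← GLOrder.range_toGL]; exact ⟨g, rfl⟩) b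
    refine ⟨g', ?_⟩
    show QuotientGroup.mk' _ (φ g') = _
    rw [show φ g' = c * φ g * c⁻¹ from Subtype.ext (by
      show H.π (SpecialLinearGroup.toGL g') = (c : G) * H.π (SpecialLinearGroup.toGL g) * (c : G)⁻¹
      rw [hg', map_mul, map_mul, map_inv, hb]), map_mul, map_mul, map_inv]
    rfl
  exact ⟨ψ.range, hN, ⟨(MonoidHom.ofInjective hψ).symm⟩⟩

/-- Brauer's equations. -/
theorem exists_equations {p n : ℕ} (hp : p.Prime) (hF : Fintype.card F = p ^ n)
    (h4 : Fintype.card F % 4 = 3) :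
    ∃ X : ℤ, X ≠ 0 ∧ X ≠ 1 ∧ X ≠ (Fintype.card F : ℤ) ∧
      (Fintype.card F : ℤ) ^ 2 - X ∣ X * (X - 1) ∧
      padicValInt 2 (X - Fintype.card F) = padicValInt 2 ((Fintype.card F : ℤ) ^ 2 - 1) ∧
      ((centralizer {H.t}).index : ℤ) * (X - Fintype.card F) ^ 2 =
        ((Fintype.card F : ℤ) - 1) * ((Fintype.card F : ℤ) + 1) ^ 2 * (Fintype.card F : ℤ) *
          (X * (X - 1)) := by
  haveI := Fact.mk hp
  haveI : Fact (Nat.Prime 2) := ⟨Nat.prime_two⟩
  letI := Fintype.ofFinite G
  set q := Fintype.card F with hq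
  have hq1 : 1 < q := H.one_lt_q
  have hn : 1 ≤ n := by
    rcases Nat.eq_zero_or_pos n with rfl | h
    · simp at hF; omega
    · exact h
  obtain ⟨R, hRC, htR, hsR, hSD⟩ := H.exists_semidihedral h4
  obtain ⟨a, r, σ, s, h⟩ := SD.exists_of_isQuasiDihedral R hSD
  have ht : H.t = mid a σ := h.eq_mid_of_central htR
    (fun y hy => mem_centralizer_singleton_iff.1 (hRC hy)) (Involution.ne_one H.t_order)
  set C := centralizer ({H.t} : Set G) with hCdef
  have hC : ∀ g, g ∈ C ↔ Commute (mid a σ) g := fun g => by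
    rw [hCdef, mem_centralizer_singleton_iff, ht]; exact eq_comm
  obtain ⟨F', _, _, hF', N, hN', ⟨eN⟩⟩ := InvolChar.exists_small_field (H := C ⧸ Cfsg.oddCore C) hn F hF
    H.exists_normal_sl2
  have hcardF' : Nat.card F' = q := by rw [Nat.card_eq_fintype_card, hF', ← hF]
  have hodd' : Odd (Nat.card F') := by rw [hcardF', Nat.odd_iff]; omega
  haveI := hN'
  obtain ⟨Ω, _, _, L, hval⟩ := QGroup.exists_line h hSD hodd' hC N eN
  rw [hcardF'] at L hval
  have hG : ¬ IsMulCommutative G := fun hc => by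
    obtain ⟨a, b, hab⟩ := H.not_comm
    exact hab (hc.1.1 a b)
  obtain ⟨D, hD0, hD1, hDQ, hD4, hdiv, hE⟩ :=
    InvolChar.semidihedral_equations h (InvolChar.commutator_eq_top_of_simple hG) hC L
  have hQ : InvolChar.signQ q = (q : ℤ) := by rw [InvolChar.signQ, if_pos h4]
  rw [hQ] at hDQ hdiv hE
  -- the noncentral involutions
  set U := GWKlein.fourV H.t H.s
  have hU : IsKleinFour U := GWDihedral.isKleinFour_fourV_of_commute H.t_order H.s_order
    H.s_ne_t.symm H.st_comm.symm
  have hUR : U ≤ (R : Subgroup G) := (closure_le _).2 (Set.insert_subset htR (Set.singleton_subset_iff.2 hsR))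
  have hcU : centralizer (U : Set G) = H.T := by
    rw [show (U : Set G) = (closure ({H.t, H.s} : Set G) : Set G) from rfl, centralizer_closure,
      H.centralizer_pair]
  set N₁ := Nat.card {x : C // orderOf x = 2 ∧ (x : G) ≠ mid a σ} with hN₁
  have hNT : N₁ * Nat.card H.T = Nat.card C := hcU ▸ InvolChar.card_noncentral h hC hUR hU
  have hN₁q : N₁ = q * (q + 1) := by
    have e1 : N₁ * ((q - 1) ^ 2) = (q ^ 2 - 1) * (q ^ 2 - q) := by
      rw [← H.card_T, ← mul_assoc, hNT, H.card_cent]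
    obtain ⟨w, hw⟩ : ∃ w, q = w + 1 := ⟨q - 1, by omega⟩
    rw [hw] at e1 ⊢
    rw [Nat.add_sub_cancel, show (w + 1) ^ 2 - 1 = w * (w + 2) from
        Nat.sub_eq_of_eq_add (by ring),
      show (w + 1) ^ 2 - (w + 1) = w * (w + 1) from Nat.sub_eq_of_eq_add (by ring),
      show w * (w + 2) * (w * (w + 1)) = (w + 1) * (w + 1 + 1) * w ^ 2 by ring] at e1
    exact Nat.eq_of_mul_eq_mul_right (pow_pos (by omega) 2) e1
  -- the equation
  have hidx : Nat.card G = Nat.card C * C.index := (card_mul_index C).symm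
  have heq : (C.index : ℤ) * (D - q) ^ 2 =
      ((q : ℤ) - 1) * ((q : ℤ) + 1) ^ 2 * q * (D * (D - 1)) := by
    refine mul_left_cancel₀ (show (Nat.card C : ℤ) * q ≠ 0 from mul_ne_zero
      (by exact_mod_cast Nat.card_pos.ne') (by exact_mod_cast (show q ≠ 0 by omega))) ?_
    rw [hN₁q, hidx] at hE
    push_cast at hE
    linear_combination hE
  refine ⟨D, hD0, hD1, hDQ, hdiv, ?_, heq⟩
  -- the two-part
  have hCU : padicValNat 2 (Nat.card H.T) = 2 := hcU ▸ InvolChar.padic_four h hC hUR hU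
  have hvG : padicValNat 2 (Nat.card G) = a + 3 := by
    have e := R.card_eq_multiplicity
    rw [h.card_P, Nat.factorization_def _ Nat.prime_two] at e
    exact ((Nat.pow_right_injective le_rfl) e).symm
  have hvC : padicValNat 2 (Nat.card C) = a + 3 := by
    have e := (R.subtype (h.le_of_cent hC)).card_eq_multiplicity
    rw [show Nat.card (R.subtype (h.le_of_cent hC) : Subgroup C) = Nat.card (R : Subgroup G) from
      Nat.card_congr (subgroupOfEquivOfLe (h.le_of_cent hC)).toEquiv, h.card_P,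
      Nat.factorization_def _ Nat.prime_two] at e
    exact ((Nat.pow_right_injective le_rfl) e).symm
  have hvN : padicValNat 2 N₁ = a + 1 := by
    have e := congrArg (padicValNat 2) hNT
    rw [padicValNat.mul (by rw [hN₁q]; exact (Nat.mul_pos (by omega) (by omega)).ne') Nat.card_pos.ne',
      hvC, hCU] at e
    omega
  have hd0 : (D - (q : ℤ)).natAbs ≠ 0 := by omega
  have hnat := congrArg Int.natAbs hE
  simp only [Int.natAbs_mul, Int.natAbs_pow, Int.natAbs_natCast] at hnat
  have hN0 : N₁ ≠ 0 := by rw [hN₁q]; exact (Nat.mul_pos (by omega) (by omega)).ne'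
  have hC0 : Nat.card C ≠ 0 := Nat.card_pos.ne'
  have e := congrArg (padicValNat 2) hnat
  rw [padicValNat.mul (mul_ne_zero Nat.card_pos.ne' (by omega)) (pow_ne_zero _ hd0),
    padicValNat.mul Nat.card_pos.ne' (by omega), padicValNat.pow _ _,
    padicValNat.mul (mul_ne_zero (mul_ne_zero hC0 (pow_ne_zero _ hN0)) (by omega))
      (mul_ne_zero (by omega) (by omega)),
    padicValNat.mul (mul_ne_zero hC0 (pow_ne_zero _ hN0)) (by omega),
    padicValNat.mul hC0 (pow_ne_zero _ hN0), padicValNat.pow _ _,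
    padicValNat.mul (by omega) (by omega)] at e
  have h1 : padicValNat 2 q = 0 := padicValNat.eq_zero_of_not_dvd (by omega)
  have h2 : ∀ m : ℕ, m % 4 = 2 → padicValNat 2 m = 1 := fun m hm => by
    obtain ⟨k, rfl⟩ : ∃ k, m = 2 * k := ⟨m / 2, by omega⟩
    rw [padicValNat.mul two_ne_zero (by omega), padicValNat.self one_lt_two,
      padicValNat.eq_zero_of_not_dvd (by omega : ¬ 2 ∣ k)]
  rw [hvG, hvC, hvN, h1, h2 ((q : ℤ) - 1).natAbs (by omega), h2 (D - 1).natAbs (by omega),
    padicValNat.eq_zero_of_not_dvd (by omega : ¬ 2 ∣ D.natAbs)] at e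
  have hsqa : ((q : ℤ) ^ 2 - 1).natAbs = q ^ 2 - 1 := by
    have h5 : 1 ≤ q ^ 2 := Nat.one_le_pow _ _ (by omega)
    have h6 : ((q : ℤ) ^ 2 - 1) = ((q ^ 2 - 1 : ℕ) : ℤ) := by rw [Nat.cast_sub h5]; push_cast; ring
    rw [h6, Int.natAbs_natCast]
  rw [padicValInt, padicValInt, hsqa, hval]
  omega

/-- Every Sylow subgroup is semidihedral when `q ≡ 3 (mod 4)`. -/
theorem isQuasiDihedral (h4 : Fintype.card F % 4 = 3) (S : Sylow 2 G) :
    Cfsg.IsQuasiDihedral (S : Subgroup G) := by
  haveI : Fact (Nat.Prime 2) := ⟨Nat.prime_two⟩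
  obtain ⟨R, -, -, -, hR⟩ := H.exists_semidihedral h4
  obtain ⟨n, ⟨d⟩⟩ := QDWreath.nonempty_qdData hR
  have d' := Transfer.qdMap d (R.equiv S)
  exact ⟨n, d'.hn, d'.card, d'.x, d'.y, d'.order_x, d'.order_y, d'.rel⟩

/-- A semidihedral Sylow subgroup forces `q ≡ 3 (mod 4)`. -/
theorem mod_four_of_isQuasiDihedral (S : Sylow 2 G) (hS : Cfsg.IsQuasiDihedral (S : Subgroup G)) :
    Fintype.card F % 4 = 3 := by
  haveI : Fact (Nat.Prime 2) := ⟨Nat.prime_two⟩
  obtain ⟨R, hRC, -, -, -⟩ := H.exists_sylow_le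
  have hR : Cfsg.IsQuasiDihedral (R : Subgroup G) := by
    obtain ⟨n, ⟨d⟩⟩ := QDWreath.nonempty_qdData hS
    have d' := Transfer.qdMap d (S.equiv R)
    exact ⟨n, d'.hn, d'.card, d'.x, d'.y, d'.order_x, d'.order_y, d'.rel⟩
  obtain ⟨n, -, hcard, -⟩ := id hR
  have hZ := (S1193.result hR n hcard).2.2.2.1
  have hodd : ¬ 2 ∣ Fintype.card F := fun h => H.two_ne (by
    have h3 : ringChar F = 2 := FiniteField.even_card_iff_char_two.2 (Nat.dvd_iff_mod_eq_zero.1 h)
    simpa [h3] using ringChar.Nat.cast_ringChar (R := F))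
  by_contra h3
  obtain ⟨i, hi⟩ : ∃ i : Fˣ, orderOf i = 4 :=
    GLOrder.exists_orderOf_of_dvd (by rw [Nat.card_units, Nat.card_eq_fintype_card]; omega)
  set y : GL (Fin 2) F := dg (i, i) with hy
  have hyc : ∀ g : GL (Fin 2) F, y * g = g * y := fun g =>
    ext2 (by simp [hy, mul_comm]) (by simp [hy, mul_comm]) (by simp [hy, mul_comm]) (by simp [hy, mul_comm])
  have h44 : y ^ 4 = 1 := by
    rw [hy, ← map_pow, Prod.pow_mk, ← hi, pow_orderOf_eq_one, ← Prod.one_eq_mk, map_one]
  have hyR : H.π y ∈ (R : Subgroup G) := by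
    have hp : IsPGroup 2 ↥(zpowers (⟨H.π y, H.π_mem_cent y⟩ : centralizer ({H.t} : Set G))) := by
      intro x
      obtain ⟨k, hk⟩ := x.2
      refine ⟨2, Subtype.ext ?_⟩
      simp only [SubgroupClass.coe_pow, OneMemClass.coe_one, ← hk]
      rw [show (2 : ℕ) ^ 2 = 4 from rfl, ← zpow_natCast, ← _root_.zpow_mul, mul_comm, _root_.zpow_mul, zpow_natCast,
        show (⟨H.π y, H.π_mem_cent y⟩ : centralizer ({H.t} : Set G)) ^ 4 = 1 from
          Subtype.ext (by simp [← map_pow, h44])]
      simp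
    obtain ⟨T, hT⟩ := hp.exists_le_sylow
    obtain ⟨g, hg⟩ := MulAction.exists_smul_eq (centralizer ({H.t} : Set G)) T (R.subtype hRC)
    have h1 := smul_mem_pointwise_smul _ (MulAut.conj g) _ (hT (mem_zpowers _))
    have h2 : MulAut.conj g • (⟨H.π y, H.π_mem_cent y⟩ : centralizer ({H.t} : Set G)) ∈
        ((g • T : Sylow 2 _) : Subgroup (centralizer ({H.t} : Set G))) := h1
    rw [hg] at h2
    obtain ⟨b, hb⟩ := H.exists_of_mem_cent g.2
    have h4' : (g : G) * H.π y * (g : G)⁻¹ ∈ (R : Subgroup G) := mem_subgroupOf.1 h2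
    rwa [← hb, ← map_mul, ← hyc b, map_mul, mul_inv_cancel_right] at h4'
  have hyZ : (⟨H.π y, hyR⟩ : (R : Subgroup G)) ∈ Subgroup.center (R : Subgroup G) :=
    mem_center_iff.2 fun x => Subtype.ext (by
      obtain ⟨b, hb⟩ := H.exists_of_mem_cent (hRC x.2)
      show (x : G) * H.π y = H.π y * (x : G)
      rw [← hb, ← map_mul, ← map_mul, hyc b])
  have h2' : H.π (y * y) = 1 := by
    have := pow_card_eq_one' (x := (⟨_, hyZ⟩ : Subgroup.center (R : Subgroup G)))
    rw [hZ] at this
    have h7 := congrArg (fun x : Subgroup.center (R : Subgroup G) => ((x : (R : Subgroup G)) : G)) this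
    simpa [pow_two, ← map_mul] using h7
  have h22 := H.eq_one_of_sq h2' (by rw [← pow_two, ← pow_two, ← pow_mul, h44])
  have h5 : i * i = 1 := by
    have := congrArg (fun g : GL (Fin 2) F => g 0 0) h22
    exact Units.ext (by simpa [hy] using this)
  have h6 := orderOf_dvd_of_pow_eq_one (n := 2) (by rw [pow_two, h5] : i ^ 2 = 1)
  rw [hi] at h6
  exact absurd (Nat.le_of_dvd two_pos h6) (by norm_num)

/-- `X = q ^ 3` if `q ^ 3` divides the order of `G`. -/
theorem eq_cube_of_regular {p n : ℕ} (hp : p.Prime) (hF : Fintype.card F = p ^ n)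
    (hreg : 3 * n ≤ padicValNat p (Nat.card G)) {X : ℤ} (hX0 : X ≠ 0) (hX1 : X ≠ 1)
    (hXq : X ≠ (Fintype.card F : ℤ)) (hdiv : (Fintype.card F : ℤ) ^ 2 - X ∣ X * (X - 1))
    (htwo : padicValInt 2 (X - Fintype.card F) = padicValInt 2 ((Fintype.card F : ℤ) ^ 2 - 1))
    (hidx : ((centralizer {H.t}).index : ℤ) * (X - Fintype.card F) ^ 2 =
        ((Fintype.card F : ℤ) - 1) * ((Fintype.card F : ℤ) + 1) ^ 2 * (Fintype.card F : ℤ) *
          (X * (X - 1))) :
    X = (Fintype.card F : ℤ) ^ 3 := by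
  haveI := Fact.mk hp
  set q := Fintype.card F with hq
  have hq1 : 1 < q := H.one_lt_q
  have hn : 1 ≤ n := by
    rcases Nat.eq_zero_or_pos n with rfl | h
    · simp at hF; omega
    · exact h
  have hodd : ¬ 2 ∣ q := fun h => H.two_ne (by
    have h3 : ringChar F = 2 := FiniteField.even_card_iff_char_two.2 (Nat.dvd_iff_mod_eq_zero.1 h)
    simpa [h3] using ringChar.Nat.cast_ringChar (R := F))
  have hp2 : p ≠ 2 := fun e => hodd (by rw [hF, e]; exact dvd_pow_self 2 (by omega))
  have hdvd : p ∣ q := hF ▸ dvd_pow_self p (by omega)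
  have hp1 : ¬ p ∣ q - 1 := fun h =>
    hp.not_dvd_one (by simpa [Nat.sub_sub_self hq1.le] using Nat.dvd_sub hdvd h)
  have hp3 : ¬ p ∣ q + 1 := fun h => hp.not_dvd_one ((Nat.dvd_add_right hdvd).1 h)
  set C := centralizer ({H.t} : Set G) with hCdef
  have hvC : padicValNat p (Nat.card C) = n := by
    have e := congrArg (padicValNat p) H.card_cent
    have hk : ¬ p ∣ Nat.card H.π.ker := fun h => hp1 ((Nat.prime_iff.1 hp).dvd_of_dvd_pow
      (H.card_T ▸ h.trans (dvd_mul_left _ _)))
    have e2 : (q ^ 2 - 1) * (q ^ 2 - q) = ((q + 1) * (q - 1)) * (q * (q - 1)) := by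
      rw [← GLOrder.sq_sub_one, Nat.mul_sub_one, pow_two]
    rw [e2, padicValNat.mul Nat.card_pos.ne' Nat.card_pos.ne', padicValNat.eq_zero_of_not_dvd hk,
      padicValNat.mul (mul_ne_zero (by omega) (by omega)) (mul_ne_zero (by omega) (by omega)),
      padicValNat.mul (by omega) (by omega), padicValNat.mul (by omega) (by omega),
      padicValNat.eq_zero_of_not_dvd hp1, padicValNat.eq_zero_of_not_dvd hp3] at e
    simpa [hF, padicValNat.prime_pow] using e
  have hJ : 2 * n ≤ padicValNat p C.index := by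
    have e := congrArg (padicValNat p) (card_mul_index C)
    rw [padicValNat.mul Nat.card_pos.ne' Subgroup.index_ne_zero_of_finite, hvC] at e
    omega
  refine SDOrder.eq_cube (p := p) hn hp2 (by rw [Int.natAbs_natCast, hF]) hX1 hXq hX0 hdiv htwo ?_
  have hd : (X - (q : ℤ)).natAbs ≠ 0 := by omega
  have e := congrArg (fun z : ℤ => padicValNat p z.natAbs) hidx
  simp only [Int.natAbs_mul, Int.natAbs_pow, Int.natAbs_natCast] at e
  rw [show ((q : ℤ) - 1).natAbs = q - 1 by omega, show ((q : ℤ) + 1).natAbs = q + 1 by omega,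
    padicValNat.mul Subgroup.index_ne_zero_of_finite (pow_ne_zero _ hd), padicValNat.pow _ _,
    padicValNat.mul (mul_ne_zero (mul_ne_zero (by omega) (pow_ne_zero _ (by omega))) (by omega))
      (mul_ne_zero (by omega) (by omega)),
    padicValNat.mul (mul_ne_zero (by omega) (pow_ne_zero _ (by omega))) (by omega),
    padicValNat.mul (by omega) (pow_ne_zero _ (by omega)), padicValNat.pow _ _,
    padicValNat.mul (by omega) (by omega), padicValNat.eq_zero_of_not_dvd hp1,
    padicValNat.eq_zero_of_not_dvd hp3, show padicValNat p q = n by rw [hF, padicValNat.prime_pow]] at e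
  simp only [padicValInt]
  omega

end Hyp

end Cfsg.Agent.LThreeRec
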