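import Cfsg.Agent.Lib.LThreeRec.Steinberg
import Cfsg.Agent.Lib.CurtisTitsA.Blocks
import Cfsg.Agent.Lib.Bender.Consumers
import Cfsg.Agent.Lib.Bender.RankOneHalf
import Cfsg.Agent.S0223

/-!
# The good case of the recognition of `PSL₃(q)` (helper60, S0484)

`GoodData.equiv_psl` : a simple group with an involution centralizer `φ(SL₂) T`, two root groups
forming a pair of modules and one class of other involutions in the centralizer is `PSL₃(q)`.
-/

set_option autoImplicit false
set_option linter.unusedSectionVars false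
set_option linter.style.haveILetI false

open scoped Pointwise commutatorElement

namespace Cfsg.Agent.LThreeRec

variable {F : Type*} [Field F] [Fintype F]

/-- A normal subgroup of `SL₃` is central or everything. -/
theorem normal_sl3 (N : Subgroup (Matrix.SpecialLinearGroup (Fin 3) F)) [N.Normal] :
    N ≤ Subgroup.center _ ∨ N = ⊤ := by
  have : IsSimpleGroup (Matrix.ProjectiveSpecialLinearGroup (Fin 3) F) :=
    Linear.isSimpleGroup_psl (by simp)
  set Z := Subgroup.center (Matrix.SpecialLinearGroup (Fin 3) F)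
  have hn : (N.map (QuotientGroup.mk' Z)).Normal :=
    Subgroup.Normal.map ‹_› _ (QuotientGroup.mk'_surjective _)
  rcases Subgroup.Normal.eq_bot_or_eq_top (G := Matrix.ProjectiveSpecialLinearGroup (Fin 3) F) hn
    with h | h
  · exact Or.inl (by simpa [Subgroup.map_eq_bot_iff] using h)
  · refine Or.inr (top_unique ?_)
    rw [← Linear.commutator_sl_eq_top (ι := Fin 3) (F := F) (Or.inl (by simp)), commutator_def]
    refine Subgroup.commutator_le.2 fun g _ k _ => ?_
    have hg : QuotientGroup.mk' Z g ∈ N.map (QuotientGroup.mk' Z) := h ▸ Subgroup.mem_top _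
    have hk : QuotientGroup.mk' Z k ∈ N.map (QuotientGroup.mk' Z) := h ▸ Subgroup.mem_top _
    obtain ⟨n, hn, hn'⟩ := Subgroup.mem_map.1 hg
    obtain ⟨m, hm, hm'⟩ := Subgroup.mem_map.1 hk
    obtain ⟨z, hz, rfl⟩ := (QuotientGroup.mk'_eq_mk' Z).1 hn'
    obtain ⟨z', hz', rfl⟩ := (QuotientGroup.mk'_eq_mk' Z).1 hm'
    have cz := Subgroup.mem_center_iff.1 hz
    have cz' := Subgroup.mem_center_iff.1 hz'
    have e : ⁅n * z, m * z'⁆ = ⁅n, m⁆ := by
      rw [commutatorElement_def, commutatorElement_def]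
      calc n * z * (m * z') * (n * z)⁻¹ * (m * z')⁻¹
          = n * (z * (m * z')) * z⁻¹ * n⁻¹ * z'⁻¹ * m⁻¹ := by group
        _ = n * m * z' * n⁻¹ * z'⁻¹ * m⁻¹ := by rw [← cz (m * z')]; group
        _ = n * m * (z' * n⁻¹) * z'⁻¹ * m⁻¹ := by group
        _ = n * m * n⁻¹ * m⁻¹ := by rw [← cz' n⁻¹]; group
    rw [e, commutatorElement_def]
    exact N.mul_mem (N.mul_mem (N.mul_mem hn hm) (N.inv_mem hn)) (N.inv_mem hm)

variable {G : Type*} [Group G] [Finite G]

/-- The good configuration. -/
structure GoodData (φ : Matrix.SpecialLinearGroup (Fin 2) F →* G) (t : G) (Y Y' T : Subgroup G) :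
    Prop where
  pair : PairData φ Y Y'
  ord : orderOf t = 2
  neg : φ (hS (-1)) = t
  cent : Subgroup.centralizer ({t} : Set G) ≤ φ.range ⊔ T
  normL : ∀ x ∈ T, ∀ y ∈ φ.range, x * y * x⁻¹ ∈ φ.range
  normY : ∀ x ∈ T, ∀ y ∈ Y, x * y * x⁻¹ ∈ Y
  normY' : ∀ x ∈ T, ∀ y ∈ Y', x * y * x⁻¹ ∈ Y'
  sylow : ∃ S : Sylow 2 G, (S : Subgroup G) ≤ Subgroup.centralizer ({t} : Set G)
  oneClass : ∀ s s' : G, orderOf s = 2 → orderOf s' = 2 → s * t = t * s → s' * t = t * s' →
    s ≠ t → s' ≠ t → ∃ c : G, c * t = t * c ∧ c * s * c⁻¹ = s'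

/-- A simple group in the good configuration is `PSL₃(q)`. -/
theorem GoodData.equiv_psl [IsSimpleGroup G] {φ : Matrix.SpecialLinearGroup (Fin 2) F →* G}
    {t : G} {Y Y' T : Subgroup G} (D : GoodData φ t Y Y' T) :
    Nonempty (G ≃* Matrix.ProjectiveSpecialLinearGroup (Fin 3) F) := by
  classical
  haveI : Fact (Nat.Prime 2) := ⟨Nat.prime_two⟩
  obtain ⟨Φ, hL, hY, hY', hK, hΦ⟩ := D.pair.exists_sl3_hom
  set K := Φ.range with hKdef
  have hKeq : K = φ.range ⊔ Y ⊔ Y' := le_antisymm hK (sup_le (sup_le hL hY) hY')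
  have hTK : T ≤ Subgroup.normalizer (K : Set G) := by
    intro x hx
    have hle : K ≤ K.comap (MulAut.conj x).toMonoidHom := by
      rw [hKeq]
      refine sup_le (sup_le ?_ ?_) ?_
      · exact fun y hy => le_sup_left (b := Y') (le_sup_left (b := Y) (D.normL x hx y hy))
      · exact fun y hy => le_sup_left (b := Y') (le_sup_right (a := φ.range) (D.normY x hx y hy))
      · exact fun y hy => le_sup_right (a := φ.range ⊔ Y) (D.normY' x hx y hy)
    have heq : K.map (MulAut.conj x).toMonoidHom = K :=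
      Subgroup.eq_of_le_of_card_ge (Subgroup.map_le_iff_le_comap.2 hle)
        (by rw [Subgroup.card_map_of_injective (MulAut.conj x).injective])
    rw [Subgroup.mem_normalizer_iff]
    intro y
    refine ⟨fun hy => hle hy, fun hy => ?_⟩
    obtain ⟨z, hz, hz'⟩ := Subgroup.mem_map.1 (heq.symm ▸ hy : x * y * x⁻¹ ∈ K.map _)
    have : z = y := by simpa using hz'
    exact this ▸ hz
  set H := K ⊔ T with hHdef
  have hC : Subgroup.centralizer ({t} : Set G) ≤ H :=
    D.cent.trans (sup_le_sup_right hL T)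
  -- `φ` as the restriction of `Φ`
  have hres : ∀ g, Φ (CurtisTitsA.b01 g) = φ g := by
    intro g
    induction g using Matrix.SL2.transvection_induction with
    | htransvec i j h a =>
      fin_cases i <;> fin_cases j
      · exact absurd rfl h
      · have : Matrix.SpecialLinearGroup.transvection h a = (uS a : Matrix.SpecialLinearGroup (Fin 2) F) := by
          apply Subtype.ext; ext i j; fin_cases i <;> fin_cases j <;>
            simp [uS, Matrix.SpecialLinearGroup.transvection, Matrix.transvection]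
        have e : CurtisTitsA.b01 (Matrix.SpecialLinearGroup.transvection h a) =
            Matrix.SpecialLinearGroup.transvection (show (0 : Fin 3) ≠ 1 by decide) a :=
          CurtisTitsA.b01_u a
        rw [e, (hΦ a).1]
        exact congrArg φ this.symm
      · have : Matrix.SpecialLinearGroup.transvection h a = (vS a : Matrix.SpecialLinearGroup (Fin 2) F) := by
          apply Subtype.ext; ext i j; fin_cases i <;> fin_cases j <;>
            simp [vS, Matrix.SpecialLinearGroup.transvection, Matrix.transvection]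
        have e : CurtisTitsA.b01 (Matrix.SpecialLinearGroup.transvection h a) =
            Matrix.SpecialLinearGroup.transvection (show (1 : Fin 3) ≠ 0 by decide) a :=
          CurtisTitsA.b01_l a
        rw [e, (hΦ a).2]
        exact congrArg φ this.symm
      · exact absurd rfl h
    | hmul x z hx hz => rw [map_mul, map_mul, map_mul, hx, hz]
  have ht1 : t ≠ 1 := fun e => by simpa [e] using D.ord
  have hker : Φ.ker ≤ Subgroup.center _ := by
    refine (normal_sl3 Φ.ker).resolve_right fun h => ht1 ?_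
    rw [← D.neg, ← hres]
    exact MonoidHom.mem_ker.1 (h ▸ Subgroup.mem_top _)
  -- the two involutions
  set d : Matrix.SpecialLinearGroup (Fin 3) F := CurtisTitsA.b01 (hS (-1)) with hd
  let σ : Matrix.SpecialLinearGroup (Fin 3) F :=
    ⟨!![0, 0, 1; 1, 0, 0; 0, 1, 0], by simp [Matrix.det_fin_three]⟩
  let d' : Matrix.SpecialLinearGroup (Fin 3) F :=
    ⟨!![-1, 0, 0; 0, 1, 0; 0, 0, -1], by simp [Matrix.det_fin_three]⟩
  have hdv : d.1 = !![-1, 0, 0; 0, -1, 0; 0, 0, 1] := by
    rw [hd, CurtisTitsA.b01_coe]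
    ext i j; fin_cases i <;> fin_cases j <;> simp [hS, CurtisTitsA.m01]
  have hσ : σ * d' = d * σ := by
    apply Subtype.ext
    rw [Matrix.SpecialLinearGroup.coe_mul, Matrix.SpecialLinearGroup.coe_mul, hdv]
    ext i j; fin_cases i <;> fin_cases j <;> simp [σ, d', Matrix.mul_apply, Fin.sum_univ_three]
  have hdd : d' * d = d * d' := by
    apply Subtype.ext
    rw [Matrix.SpecialLinearGroup.coe_mul, Matrix.SpecialLinearGroup.coe_mul, hdv]
    ext i j; fin_cases i <;> fin_cases j <;> simp [d', Matrix.mul_apply, Fin.sum_univ_three]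
  set u := Φ d' with hu
  have htd : Φ d = t := by rw [hd, hres, D.neg]
  have hut : Φ σ * u * (Φ σ)⁻¹ = t := by
    rw [hu, ← map_inv, ← map_mul, ← map_mul, hσ, mul_inv_cancel_right, htd]
  have huo : orderOf u = 2 := by
    have h := D.ord
    rw [← hut] at h
    exact ((MulAut.conj (Φ σ)).orderOf_eq u).symm.trans h
  have huc : u * t = t * u := by rw [hu, ← htd, ← map_mul, ← map_mul, hdd]
  have hut' : u ≠ t := by
    intro e
    have hz : d⁻¹ * d' ∈ Φ.ker := by
      rw [MonoidHom.mem_ker, map_mul, map_inv, htd, ← hu, e, inv_mul_cancel]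
    have hcm := Subgroup.mem_center_iff.1 (hker hz) σ
    have hd2 : d⁻¹ = d := inv_eq_of_mul_eq_one_right (by
      apply Subtype.ext
      rw [Matrix.SpecialLinearGroup.coe_mul, hdv]
      ext i j; fin_cases i <;> fin_cases j <;> simp [Matrix.mul_apply, Fin.sum_univ_three])
    rw [hd2] at hcm
    have hm := congrArg Subtype.val hcm
    simp only [Matrix.SpecialLinearGroup.coe_mul, hdv] at hm
    have h00 := congrFun (congrFun hm 1) 0
    simp [σ, d', Matrix.mul_apply, Fin.sum_univ_three] at h00
    exact D.pair.two_ne (by linear_combination h00)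
  have hKH : K ≤ H := le_sup_left
  have htH : t ∈ H := hKH ⟨d, htd⟩
  -- every involution of `H` is conjugate to `t` in `H`
  have hone : ∀ s ∈ H, orderOf s = 2 → ∃ h ∈ H, h * t * h⁻¹ = s := by
    intro s hs ho
    obtain ⟨S, hS⟩ := D.sylow
    let SH : Sylow 2 H := S.subtype (hS.trans hC)
    have hp : IsPGroup 2 (Subgroup.zpowers (⟨s, hs⟩ : H)) := by
      refine IsPGroup.of_card (n := 1) ?_
      rw [Nat.card_zpowers, ← Subgroup.orderOf_coe, ho, pow_one]
    obtain ⟨Q, hQ⟩ := hp.exists_le_sylow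
    obtain ⟨g, hg⟩ := MulAction.exists_smul_eq H Q SH
    have hmem : (g : G) * s * (g : G)⁻¹ ∈ (S : Subgroup G) := by
      have h1 : MulAut.conj g • (⟨s, hs⟩ : H) ∈ MulAut.conj g • (Q : Subgroup H) :=
        Subgroup.smul_mem_pointwise_smul _ _ _ (hQ (Subgroup.mem_zpowers _))
      have h2 : ((g • Q : Sylow 2 H) : Subgroup H) = MulAut.conj g • (Q : Subgroup H) := rfl
      rw [← h2, hg] at h1
      exact h1
    set r := (g : G) * s * (g : G)⁻¹ with hr
    have hrt : r * t = t * r := (Subgroup.mem_centralizer_singleton_iff.1 (hS hmem))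
    have hro : orderOf r = 2 := by rw [hr, ← ho]; exact (MulAut.conj (g : G)).orderOf_eq s
    by_cases hr1 : r = t
    · exact ⟨(g : G)⁻¹, H.inv_mem g.2, by rw [← hr1, hr]; group⟩
    obtain ⟨c, hct, hc⟩ := D.oneClass u r huo hro huc hrt hut' hr1
    refine ⟨(g : G)⁻¹ * c * (Φ σ)⁻¹, H.mul_mem (H.mul_mem (H.inv_mem g.2)
      (hC (Subgroup.mem_centralizer_singleton_iff.2 hct))) (H.inv_mem (hKH ⟨σ, rfl⟩)), ?_⟩
    rw [← hut]
    calc (g : G)⁻¹ * c * (Φ σ)⁻¹ * (Φ σ * u * (Φ σ)⁻¹) * ((g : G)⁻¹ * c * (Φ σ)⁻¹)⁻¹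
        = (g : G)⁻¹ * (c * u * c⁻¹) * (g : G) := by group
      _ = s := by rw [hc, hr]; group
  have hHtop : H = ⊤ := by
    by_contra hne
    have heven : Even (Nat.card H) := by
      have : orderOf (⟨t, htH⟩ : H) = 2 := by rw [← Subgroup.orderOf_coe]; exact D.ord
      exact even_iff_two_dvd.2 (this ▸ orderOf_dvd_natCard _)
    have hse : Cfsg.IsStronglyEmbedded H := by
      refine (S0223.result H hne heven).2 ⟨fun s hs ho => ?_, fun s hs r hr hso hro _ => ?_⟩
      · obtain ⟨h, hh, rfl⟩ := hone s hs ho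
        intro x hx
        have hx' : h⁻¹ * x * h ∈ Subgroup.centralizer ({t} : Set G) := by
          rw [Subgroup.mem_centralizer_singleton_iff] at hx ⊢
          calc h⁻¹ * x * h * t = h⁻¹ * (x * (h * t * h⁻¹)) * h := by group
            _ = t * (h⁻¹ * x * h) := by rw [hx]; group
        have := H.mul_mem (H.mul_mem hh (hC hx')) (H.inv_mem hh)
        simpa [mul_assoc] using this
      · obtain ⟨h, hh, rfl⟩ := hone s hs hso
        obtain ⟨k, hk, rfl⟩ := hone r hr hro
        exact ⟨k * h⁻¹, H.mul_mem hk (H.inv_mem hh), by group⟩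
    have h2 : SuzukiRankOne.TwoInvolutions G := by
      refine ⟨t, u, ht1, fun e => by simpa [e] using huo, hut'.symm, ?_, ?_, huc.symm⟩
      · have := pow_orderOf_eq_one t
        rwa [D.ord, pow_two] at this
      · have := pow_orderOf_eq_one u
        rwa [huo, pow_two] at this
    haveI := Bender.solvable_of_stronglyEmbedded Bender.rankOneHalf hse h2
    haveI : Group.IsSolvable K := Group.isSolvable_of_isSolvable_injective (Subgroup.inclusion_injective hKH)
    have htop : commutator (Matrix.SpecialLinearGroup (Fin 3) F) = ⊤ :=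
      Linear.commutator_sl_eq_top (Or.inl (by simp))
    have hKperf : commutator K = ⊤ := by
      have hsurj : Function.Surjective Φ.rangeRestrict := Φ.rangeRestrict_surjective
      rw [commutator_def, ← Subgroup.map_top_of_surjective _ hsurj, ← Subgroup.map_commutator,
        ← commutator_def, htop]
    have : Nontrivial K := ⟨⟨t, ⟨d, htd⟩⟩, 1, fun e => ht1 (congrArg Subtype.val e)⟩
    exact (Group.IsSolvable.commutator_lt_top_of_nontrivial K).ne hKperf
  have hKn : K.Normal := by
    have h : H ≤ Subgroup.normalizer (K : Set G) := sup_le Subgroup.le_normalizer hTK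
    rw [hHtop] at h
    exact Subgroup.normalizer_eq_top_iff.1 (top_unique h)
  have hKtop : K = ⊤ := (Subgroup.Normal.eq_bot_or_eq_top hKn).resolve_left fun h => by
    have : t ∈ K := ⟨d, htd⟩
    rw [h] at this
    exact ht1 (Subgroup.mem_bot.1 this)
  have hsurj : Function.Surjective Φ := MonoidHom.range_eq_top.1 hKtop
  have hkereq : Φ.ker = Subgroup.center _ := by
    refine le_antisymm hker fun z hz => ?_
    have hc : Φ z ∈ Subgroup.center G := by
      rw [Subgroup.mem_center_iff]
      intro x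
      obtain ⟨y, rfl⟩ := hsurj x
      rw [← map_mul, ← map_mul, Subgroup.mem_center_iff.1 hz y]
    have hbot : Subgroup.center G = ⊥ :=
      (Subgroup.Normal.eq_bot_or_eq_top inferInstance).resolve_right fun h => hut' <| by
        have hm : Φ σ ∈ Subgroup.center G := h ▸ Subgroup.mem_top _
        rw [← hut, ← Subgroup.mem_center_iff.1 hm u, mul_inv_cancel_right]
    rw [hbot] at hc
    exact MonoidHom.mem_ker.2 (Subgroup.mem_bot.1 hc)
  exact ⟨((QuotientGroup.quotientMulEquivOfEq hkereq.symm).trans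
    (QuotientGroup.quotientKerEquivOfSurjective Φ hsurj)).symm⟩

end Cfsg.Agent.LThreeRec
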