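import Cfsg.Agent.Lib.LThreeRec.Basic
import Mathlib.FieldTheory.Finiteness

/-!
# Field automorphisms in an involution centralizer `GL(2, q) / Z`

An element `x` of `C(t)` commuting with `s` acts on the image of `GL(2, q)` as
`h ↦ d e(h) d⁻¹` with `d` diagonal and `e` a field automorphism.

* `Hyp.exists_diag`, `Hyp.conj_u`, `Hyp.conj_T`: that action;
* `Hyp.mem_range_of_cent_Xp`, `Hyp.mem_range_of_cent_T`: it is faithful on `Xp` and on `T`;
* `Hyp.fixed_ratio`: the fixed elements of `Xp` span at most the fixed field;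
* `Hyp.map_T`: an element normalizing `C(t) ∩ C(s)` normalizes `T`, as no field automorphism acts
  quadratically on `T`;
* `Hyp.no_quad`: none acts quadratically on `Xp`.
-/

set_option autoImplicit false
set_option linter.unusedSectionVars false

namespace Cfsg.Agent.LThreeRec

open Matrix Subgroup

variable {F : Type*} [Field F]

theorem map_u (e : F ≃+* F) (c : F) : GeneralLinearGroup.map e.toRingHom (u c) = u (e c) :=
  ext2 (by simp) (by simp) (by simp) (by simp)

theorem map_v (e : F ≃+* F) (c : F) : GeneralLinearGroup.map e.toRingHom (v c) = v (e c) :=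
  ext2 (by simp) (by simp) (by simp) (by simp)

theorem map_dg (e : F ≃+* F) (a : Fˣ × Fˣ) :
    GeneralLinearGroup.map e.toRingHom (dg a) = dg (Units.map e.toRingHom a.1, Units.map e.toRingHom a.2) :=
  ext2 (by simp) (by simp) (by simp) (by simp)

namespace Hyp

variable {G : Type*} [Group G] (H : Hyp F G)
include H

/-- `π` is injective on matrices of equal determinant. -/
theorem eq_of_det {g h : GL (Fin 2) F} (e : H.π g = H.π h)
    (hd : (g : Matrix (Fin 2) (Fin 2) F).det = (h : Matrix (Fin 2) (Fin 2) F).det) : g = h := by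
  have hk : g * h⁻¹ ∈ H.π.ker := by rw [MonoidHom.mem_ker, map_mul, map_inv, e, mul_inv_cancel]
  obtain ⟨a, b, c⟩ := center_scalar (H.ker_le hk)
  have hdet : ((g * h⁻¹ : GL (Fin 2) F) : Matrix (Fin 2) (Fin 2) F).det = 1 := by
    rw [GeneralLinearGroup.coe_mul, det_mul, GeneralLinearGroup.coe_inv, det_nonsing_inv, hd,
      Ring.inverse_eq_inv', mul_inv_cancel₀ (GeneralLinearGroup.det_ne_zero h)]
  rw [det_fin_two, a, zero_mul, sub_zero] at hdet
  generalize hkdef : g * h⁻¹ = k at hk a b c hdet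
  rw [c] at hdet
  have h1 : k = 1 := H.eq_one_of_sq hk
    (ext2 (by simp [a, c, hdet]) (by simp [a, b]) (by simp [a, b]) (by simp [b, hdet]))
  rw [h1] at hkdef
  exact mul_inv_eq_one.1 hkdef

theorem T_norm_of {x : G} (hxt : x ∈ centralizer {H.t}) (hxs : x * H.s = H.s * x) {τ : G} (hτ : τ ∈ H.T) :
    x * τ * x⁻¹ ∈ H.T := by
  refine H.mem_T_of (H.conj_range hxt (by obtain ⟨a, -, rfl⟩ := hτ; exact ⟨a, rfl⟩)) ?_
  have e1 : Commute x H.s := hxs
  exact ((e1.mul_left (H.T_cent hτ).2).mul_left e1.inv_left).eq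

theorem exists_diag {x : G} (hxt : x ∈ centralizer {H.t}) (hxs : x * H.s = H.s * x) :
    ∃ (a : Fˣ × Fˣ) (e : F ≃+* F),
      (∀ h, x * H.π h * x⁻¹ = H.π (dg a * GeneralLinearGroup.map e.toRingHom h * (dg a)⁻¹)) ∧
        ((∀ c, e c = c) → x ∈ H.π.range) := by
  obtain ⟨g, e, hg, he⟩ := H.field x hxt
  have h1 := hg gs
  rw [show GeneralLinearGroup.map e.toRingHom gs = (gs : GL (Fin 2) F) by
      rw [gs, map_dg]; congr 1; ext <;> simp, show H.π gs = H.s from rfl, hxs, mul_inv_cancel_right,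
    map_mul, map_mul, map_inv, eq_mul_inv_iff_mul_eq] at h1
  obtain ⟨_, ⟨a, rfl⟩, ha⟩ := H.mem_T_of ⟨g, rfl⟩ h1.symm
  exact ⟨a, e, fun h => by rw [hg, map_mul, map_mul, map_inv, map_mul, map_mul, map_inv, ha], he⟩

theorem conj_u {x : G} {a : Fˣ × Fˣ} {e : F ≃+* F}
    (hx : ∀ h, x * H.π h * x⁻¹ = H.π (dg a * GeneralLinearGroup.map e.toRingHom h * (dg a)⁻¹)) (c : F) :
    x * H.π (u c) * x⁻¹ = H.π (u ((a.1 : F) * (a.2 : F)⁻¹ * e c)) := by
  rw [hx, map_u]
  congr 1
  rw [mul_inv_eq_iff_eq_mul]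
  refine ext2 (by simp) ?_ (by simp) (by simp)
  simp
  field_simp

theorem conj_dg {x : G} {a : Fˣ × Fˣ} {e : F ≃+* F}
    (hx : ∀ h, x * H.π h * x⁻¹ = H.π (dg a * GeneralLinearGroup.map e.toRingHom h * (dg a)⁻¹)) (c : Fˣ) :
    x * H.π (dg (c, 1)) * x⁻¹ = H.π (dg (Units.map e.toRingHom c, 1)) := by
  rw [hx, map_dg, map_one, ← map_inv, ← map_mul dg, ← map_mul dg]
  congr 2
  ext <;> simp

/-- `π` is injective on `dg (*, 1)`. -/
theorem dg_one_injective {c d : Fˣ} (h : H.π (dg (c, 1)) = H.π (dg (d, 1))) : c = d := by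
  have hk : dg (c * d⁻¹, 1) ∈ H.π.ker := by
    rw [MonoidHom.mem_ker, show ((c * d⁻¹, 1) : Fˣ × Fˣ) = (c, 1) * (d, 1)⁻¹ by simp, map_mul, map_inv,
      map_mul, map_inv, h, mul_inv_cancel]
  have := (center_scalar (H.ker_le hk)).2.2
  simp at this
  exact Units.ext (mul_inv_eq_one₀ (by simp) |>.1 this)

theorem conj_Xp_mem {x : G} (hxt : x ∈ centralizer {H.t}) (hxs : x * H.s = H.s * x) {y : G}
    (hy : y ∈ H.Xp) : x * y * x⁻¹ ∈ H.Xp := by
  obtain ⟨_, ⟨c, rfl⟩, rfl⟩ := hy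
  obtain ⟨a, e, hx, -⟩ := H.exists_diag hxt hxs
  exact ⟨_, ⟨Multiplicative.ofAdd ((a.1 : F) * (a.2 : F)⁻¹ * e c.toAdd), rfl⟩, (H.conj_u hx _).symm⟩

/-- `C(t) ∩ C(Xp)` lies in the image. -/
theorem mem_range_of_cent_Xp {x : G} (hxt : x ∈ centralizer {H.t})
    (hc : ∀ c : F, x * H.π (u c) = H.π (u c) * x) : x ∈ H.π.range := by
  obtain ⟨g, e, hg, he⟩ := H.field x hxt
  have key : ∀ c : F, g * u (e c) = u c * g := fun c => by
    refine H.eq_of_det ?_ (by
      rw [GeneralLinearGroup.coe_mul, GeneralLinearGroup.coe_mul, det_mul, det_mul, u_coe, u_coe]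
      simp [det_fin_two_of])
    have h := hg (u c)
    rw [hc, mul_inv_cancel_right, map_u, map_mul, map_mul, map_inv, eq_mul_inv_iff_mul_eq] at h
    rw [map_mul, map_mul]; exact h.symm
  have e0 := congrArg (fun k : GL (Fin 2) F => k 0 0) (key 1)
  have e1 := congrArg (fun k : GL (Fin 2) F => k 0 1) (key 1)
  simp at e0 e1
  have hd := GLOrder.GL2_det g
  rw [e0, mul_zero, sub_zero] at hd
  refine he fun c => ?_
  have e2 := congrArg (fun k : GL (Fin 2) F => k 0 1) (key c)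
  simp at e2
  exact mul_left_cancel₀ (left_ne_zero_of_mul hd) (by linear_combination e2 - c * e1)

/-- `C(t) ∩ C(T)` lies in the image. -/
theorem mem_range_of_cent_T {x : G} (hxt : x ∈ centralizer {H.t})
    (hc : ∀ a : Fˣ × Fˣ, x * H.π (dg a) = H.π (dg a) * x) : x ∈ H.π.range := by
  obtain ⟨a, e, hx, he⟩ := H.exists_diag hxt (hc (1, -1))
  refine he fun c => ?_
  rcases eq_or_ne c 0 with rfl | hc0
  · exact map_zero e
  have h := H.conj_dg hx (Units.mk0 c hc0)
  rw [hc, mul_inv_cancel_right] at h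
  exact (congrArg Units.val (H.dg_one_injective h)).symm

/-- The fixed elements of `Xp` differ by factors in the fixed field. -/
theorem fixed_ratio {x : G} {a : Fˣ × Fˣ} {e : F ≃+* F}
    (hx : ∀ h, x * H.π h * x⁻¹ = H.π (dg a * GeneralLinearGroup.map e.toRingHom h * (dg a)⁻¹)) {c d : F}
    (hc : x * H.π (u c) = H.π (u c) * x) (hd : x * H.π (u d) = H.π (u d) * x) (hc0 : c ≠ 0) :
    e (d / c) = d / c := by
  have key : ∀ c : F, x * H.π (u c) = H.π (u c) * x → (a.1 : F) * (a.2 : F)⁻¹ * e c = c := fun c h => by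
    have h' := H.conj_u hx c
    rw [h, mul_inv_cancel_right] at h'
    have h'' := H.eq_of_det h' (by simp [det_fin_two])
    simpa using (congrArg (fun k : GL (Fin 2) F => k 0 1) h'').symm
  have hα : (a.1 : F) * (a.2 : F)⁻¹ ≠ 0 := by simp
  rw [map_div₀]
  conv_rhs => rw [← key d hd, ← key c hc, mul_div_mul_left _ _ hα]

/-- An automorphism with every `e c / c` fixed is trivial. -/
theorem eq_id_of_ratio_fixed (e : F ≃+* F) (h : ∀ c : F, c ≠ 0 → e (e c / c) = e c / c) (c : F) :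
    e c = c := by
  rcases eq_or_ne c 0 with rfl | hc
  · exact map_zero e
  rcases eq_or_ne (1 + c) 0 with h1 | h1
  · rw [eq_neg_of_add_eq_zero_right h1, map_neg, map_one]
  obtain ⟨x, hx⟩ : ∃ x, e c / c = x := ⟨_, rfl⟩
  obtain ⟨y, hy⟩ : ∃ y, e (1 + c) / (1 + c) = y := ⟨_, rfl⟩
  have hex : e x = x := hx ▸ h c hc
  have hey : e y = y := hy ▸ h _ h1
  have hxc : e c = x * c := by rw [← hx, div_mul_cancel₀ _ hc]
  have hyc : e (1 + c) = y * (1 + c) := by rw [← hy, div_mul_cancel₀ _ h1]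
  have e0 : c * (y - x) = 1 - y := by
    rw [map_add, map_one, hxc] at hyc
    linear_combination -hyc
  have e1 := congrArg e e0
  rw [map_mul, map_sub, map_sub, map_one, hex, hey, hxc] at e1
  rcases mul_eq_zero.1 (show (x - 1) * (c * (y - x)) = 0 by linear_combination e1 - e0) with h0 | h0
  · rw [hxc, sub_eq_zero.1 h0, one_mul]
  · have hxy : y = x := sub_eq_zero.1 ((mul_eq_zero.1 h0).resolve_left hc)
    rw [h0] at e0
    rw [hxc, ← hxy, ← sub_eq_zero.1 e0.symm, one_mul]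

/-- An element normalizing `C(t) ∩ C(s)` normalizes `T`. -/
theorem map_T {σ τ : G} (hτ : τ ∈ H.T)
    (hn : ∀ x, x ∈ centralizer {H.t} → x * H.s = H.s * x →
      σ * x * σ⁻¹ ∈ centralizer {H.t} ∧ σ * x * σ⁻¹ * H.s = H.s * (σ * x * σ⁻¹) ∧
        σ⁻¹ * x * σ ∈ centralizer {H.t} ∧ σ⁻¹ * x * σ * H.s = H.s * (σ⁻¹ * x * σ)) :
    σ * τ * σ⁻¹ ∈ H.T := by
  obtain ⟨hyt, hys, -, -⟩ := hn τ (H.T_cent hτ).1 (H.T_cent hτ).2
  obtain ⟨a, e, hx, he⟩ := H.exists_diag hyt hys
  set y := σ * τ * σ⁻¹ with hy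
  refine H.mem_T_of (he (H.eq_id_of_ratio_fixed e fun c hc => ?_)) hys
  set c' := Units.mk0 c hc with hc'
  set τ' := H.π (dg (c', 1)) with hτ'
  have hτT : τ' ∈ H.T := ⟨_, ⟨_, rfl⟩, rfl⟩
  -- `τ' y τ'⁻¹` is in the abelian group `σ T σ⁻¹`
  obtain ⟨-, -, h1, h2⟩ := hn τ' (H.T_cent hτT).1 (H.T_cent hτT).2
  have hcomm := H.T_comm hτ (H.T_norm_of h1 h2 hτ)
  have hyy : Commute y (τ' * y * τ'⁻¹) := by
    have e1 := congrArg (fun w => σ * w * σ⁻¹) hcomm
    show y * (τ' * y * τ'⁻¹) = τ' * y * τ'⁻¹ * y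
    rw [hy]
    simpa [mul_assoc] using e1
  have hk : τ' * y * τ'⁻¹ * y⁻¹ = H.π (dg (c' * (Units.map e.toRingHom c')⁻¹, 1)) := by
    rw [show τ' * y * τ'⁻¹ * y⁻¹ = τ' * (y * τ' * y⁻¹)⁻¹ by group, hτ', H.conj_dg hx, ← map_inv, ← map_mul,
      ← map_inv, ← map_mul]
    simp
  have hfix : y * (τ' * y * τ'⁻¹ * y⁻¹) * y⁻¹ = τ' * y * τ'⁻¹ * y⁻¹ := by
    rw [mul_inv_eq_iff_eq_mul]
    exact (hyy.mul_right (Commute.refl y).inv_right).eq
  rw [hk, H.conj_dg hx] at hfix
  have := congrArg (fun u : Fˣ => (u : F)⁻¹) (H.dg_one_injective hfix)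
  simpa [hc', map_div₀, div_eq_mul_inv, mul_comm] using this

/-- No field automorphism of odd order acts quadratically on a root group. -/
theorem no_quad {x : G} (hxt : x ∈ centralizer {H.t}) (hxs : x * H.s = H.s * x) (hx : x ∉ H.π.range)
    {m : ℕ} (hm : Odd m) (hxm : x ^ m = 1) :
    ∃ y ∈ H.Xp, x * (x * y * x⁻¹ * y⁻¹) * x⁻¹ ≠ x * y * x⁻¹ * y⁻¹ := by
  by_contra hno
  push Not at hno
  obtain ⟨a, e, ha, he⟩ := H.exists_diag hxt hxs
  obtain ⟨α, hα⟩ : ∃ α, (a.1 : F) * (a.2 : F)⁻¹ = α := ⟨_, rfl⟩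
  have key : ∀ c : F, α * e α * e (e c) - 2 * α * e c + c = 0 := fun c => by
    have h := hno (H.π (u c)) ⟨_, ⟨Multiplicative.ofAdd c, rfl⟩, rfl⟩
    have e1 : x * H.π (u c) * x⁻¹ * (H.π (u c))⁻¹ = H.π (u (α * e c - c)) := by
      rw [H.conj_u ha, hα, ← map_inv, ← map_mul]
      congr 1
      rw [mul_inv_eq_iff_eq_mul]
      exact ext2 (by simp) (by simp) (by simp) (by simp)
    rw [e1, H.conj_u ha, hα] at h
    have h' := H.eq_of_det h (by simp [det_fin_two])
    have := congrArg (fun k : GL (Fin 2) F => k 0 1) h'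
    simp [map_sub, map_mul] at this
    linear_combination this
  have k1 := key 1
  rw [map_one, map_one] at k1
  have hP : α * e α ≠ 0 := by
    have : α ≠ 0 := by rw [← hα]; simp
    exact mul_ne_zero this (by simpa using this)
  have hmul : ∀ c d : F, (e (e c) - e c) * (e (e d) - d) = 0 := fun c d => by
    have h3 := key (c * d)
    simp only [map_mul] at h3
    refine (mul_eq_zero.1 (show α * e α * ((e (e c) - e c) * (e (e d) - d)) = 0 by
      linear_combination h3 - d * key c - e c * key d + e c * d * k1)).resolve_left hP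
  have hee : ∀ d, e (e d) = d := fun d => by
    by_contra h
    exact h (by
      have h' : e d = d := e.injective (sub_eq_zero.1 ((mul_eq_zero.1 (hmul d d)).resolve_right
        (sub_ne_zero.2 h)))
      rw [h', h'])
  -- an automorphism of odd order
  have hcd : ∀ (j : ℕ) (c : Fˣ), x ^ j * H.π (dg (c, 1)) * (x ^ j)⁻¹ =
      H.π (dg ((fun u => Units.map e.toRingHom u)^[j] c, 1)) := fun j => by
    induction j with
    | zero => intro c; simp
    | succ j ih =>
      intro c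
      rw [Function.iterate_succ_apply', pow_succ', _root_.mul_inv_rev,
        show x * x ^ j * H.π (dg (c, 1)) * ((x ^ j)⁻¹ * x⁻¹) = x * (x ^ j * H.π (dg (c, 1)) * (x ^ j)⁻¹) * x⁻¹ by group,
        ih, H.conj_dg ha]
  refine hx (he fun c => ?_)
  rcases eq_or_ne c 0 with rfl | hc
  · exact map_zero e
  have h := hcd m (Units.mk0 c hc)
  rw [hxm, one_mul, inv_one, mul_one] at h
  have h2 := congrArg Units.val (H.dg_one_injective h)
  obtain ⟨l, rfl⟩ := hm
  have hid : (fun u : Fˣ => Units.map e.toRingHom u)^[2 * l] = id := by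
    rw [Function.iterate_mul, show (fun u : Fˣ => Units.map e.toRingHom u)^[2] = id from
      funext fun u => Units.ext (hee u), Function.iterate_id]
  rw [show 2 * l + 1 = (2 * l).succ from rfl, Function.iterate_succ_apply', hid] at h2
  exact h2.symm

end Hyp

/-- A proper subfield is small. -/
theorem card_sq_le_of_fixed [Fintype F] (e : F ≃+* F) (he : ∃ c, e c ≠ c) :
    Nat.card {c : F // e c = c} ^ 2 ≤ Fintype.card F := by
  classical
  obtain ⟨c, hc⟩ := he
  have hinj : Function.Injective fun v : {a : F // e a = a} × {a : F // e a = a} => (v.1 : F) + v.2 * c := by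
    rintro ⟨⟨a, ha⟩, ⟨b, hb⟩⟩ ⟨⟨a', ha'⟩, ⟨b', hb'⟩⟩ h
    simp only at h
    have h2 := congrArg e h
    rw [map_add, map_add, map_mul, map_mul, ha, hb, ha', hb'] at h2
    have hbb : b = b' := sub_eq_zero.1 ((mul_eq_zero.1 (show (b - b') * (e c - c) = 0 by
      linear_combination h2 - h)).resolve_right (sub_ne_zero.2 hc))
    subst hbb
    have := add_right_cancel h
    subst this
    rfl
  have := Nat.card_le_card_of_injective _ hinj
  rwa [Nat.card_prod, ← pow_two, Nat.card_eq_fintype_card (α := F)] at this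

end Cfsg.Agent.LThreeRec
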