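import Cfsg.Agent.Lib.LThreeRec.GoodProd
import Cfsg.Agent.Lib.LThreeRec.Semilinear
import Cfsg.Agent.Lib.U3Recog.Tools

/-!
# The good case from the set-up (helper60, S0484)

* `LData.pGroup_of_comm` : root groups centralising `X` generate a `p`-group with it
* `Hyp.equiv_psl_of_partners` : if `Xp` commutes with `σ Xm σ⁻¹` and `σ² Xm σ⁻²` then `G ≅ PSL₃(q)`
-/

set_option autoImplicit false
set_option linter.unusedSectionVars false
set_option linter.style.haveILetI false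

namespace Cfsg.Agent.LThreeRec

open Subgroup
open scoped Pointwise

variable {F : Type*} [Field F] [Fintype F] {G : Type*} [Group G] [Finite G]

namespace LData

variable (D : LData G F)
include D

/-- The four-group. -/
def four : Subgroup G where
  carrier := {x | x ∈ D.T ∧ x * x = 1}
  one_mem' := ⟨D.T.one_mem, mul_one 1⟩
  mul_mem' {x y} hx hy := ⟨D.T.mul_mem hx.1 hy.1, by
    calc x * y * (x * y) = x * (y * x) * y := by group
      _ = (x * x) * (y * y) := by rw [D.T_comm hy.1 hx.1]; group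
      _ = 1 := by rw [hx.2, hy.2, one_mul]⟩
  inv_mem' {x} hx := ⟨D.T.inv_mem hx.1, by rw [← mul_inv_rev, hx.2, inv_one]⟩

theorem four_isPGroup : IsPGroup 2 D.four := fun x => ⟨1, Subtype.ext (by
  show (x : G) ^ 2 ^ 1 = 1
  rw [pow_one, sq]; exact x.2.2)⟩

/-- `C(X)` has a normal 2-complement invariant under the four-group. -/
theorem exists_complement {p : ℕ} [CharP F p] (hp : p.Prime) :
    ∃ K : Subgroup G, Odd (Nat.card K) ∧ D.four ≤ normalizer (K : Set G) ∧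
      (∀ y ∈ K, ∀ x ∈ D.X, x * y = y * x) ∧
        ∀ y : G, Odd (orderOf y) → (∀ x ∈ D.X, x * y = y * x) → y ∈ K := by
  haveI : Fact (Nat.Prime 2) := ⟨Nat.prime_two⟩
  classical
  let z : Fˣ →* G := D.π.comp (dG.comp ((MonoidHom.id Fˣ).prod (MonoidHom.id Fˣ)))
  have hz : ∀ b, z b = D.π (dG (b, b)) := fun _ => rfl
  set ZS := z.range with hZS
  haveI : IsCyclic ZS := isCyclic_of_surjective z.rangeRestrict z.rangeRestrict_surjective
  obtain ⟨S⟩ : Nonempty (Sylow 2 ZS) := inferInstance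
  set R : Subgroup G := (S : Subgroup ZS).map ZS.subtype with hR
  have hRc : IsCyclic R :=
    ((S : Subgroup ZS).equivMapOfInjective _ ZS.subtype_injective).isCyclic.1 inferInstance
  set C := centralizer (D.X : Set G) with hCdef
  have hZC : ZS ≤ C := by
    rintro _ ⟨b, rfl⟩
    refine mem_centralizer_iff.2 fun x hx => ?_
    obtain ⟨c, rfl⟩ := hx
    simp only [φ_apply]
    rw [hz, ← map_mul, ← map_mul, mem_center_iff.1 (D.dG_center b)]
  have htR : D.t ∈ R := by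
    have htZ : D.t ∈ ZS := ⟨-1, by rw [hz, D.π_neg]⟩
    have hpz : IsPGroup 2 (zpowers (⟨D.t, htZ⟩ : ZS)) :=
      IsPGroup.of_card (n := 1) (by rw [Nat.card_zpowers, Subgroup.orderOf_mk, D.orderOf_t, pow_one])
    haveI : (zpowers (⟨D.t, htZ⟩ : ZS)).Normal := by
      letI := IsCyclic.commGroup (α := ZS)
      exact inferInstance
    exact ⟨⟨D.t, htZ⟩, hpz.le_sylow_of_normal S (mem_zpowers _), rfl⟩
  have hmax : ∀ W : Subgroup G, R ≤ W → W ≤ C ⊓ centralizer ({D.t} : Set G) → IsPGroup 2 W → W = R := by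
    intro W hRW hWC hW
    refine le_antisymm ?_ hRW
    have hWZ : W ≤ ZS := by
      intro x hx
      obtain ⟨k', hk2⟩ := hW ⟨_, hx⟩
      obtain ⟨b, c, rfl⟩ := D.cent_root_of one_ne_zero
        (D.mem_of_two (mem_centralizer_singleton_iff.1 (hWC hx).2) (congrArg Subtype.val hk2))
        ((mem_centralizer_iff.1 (hWC hx).1 _ (D.mem_X.2 ⟨1, rfl⟩)).symm)
      obtain ⟨k, hk⟩ := hW ⟨_, hx⟩
      have hk' : (D.π (dG (b, b)) * D.φ (uS c)) ^ 2 ^ k = 1 := congrArg Subtype.val hk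
      have hcomm : Commute (D.π (dG (b, b))) (D.φ (uS c)) := by
        show _ * _ = _ * _
        rw [φ_apply, ← map_mul, ← map_mul, mem_center_iff.1 (D.dG_center b)]
      rw [hcomm.mul_pow] at hk'
      have hmemT : D.φ (uS c) ^ 2 ^ k ∈ D.T := by
        rw [eq_inv_of_mul_eq_one_right hk']
        exact D.T.inv_mem (D.T.pow_mem ⟨(b, b), rfl⟩ _)
      have h1 := D.T_inter_pGroup hp (D.X_pGroup hp) (D.X.pow_mem (D.mem_X.2 ⟨c, rfl⟩) _) hmemT
      have h2 : D.φ (uS c) = 1 := by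
        obtain ⟨m, hm⟩ := (D.X_pGroup hp) ⟨_, D.mem_X.2 ⟨c, rfl⟩⟩
        have hodd : Odd p := hp.eq_two_or_odd'.resolve_left fun h => by
          subst h
          exact D.two_ne (by exact_mod_cast CharP.cast_eq_zero F 2)
        exact orderOf_eq_one_iff.1 (Nat.eq_one_of_dvd_coprimes
          ((Nat.coprime_two_left.2 hodd).pow k m) (orderOf_dvd_of_pow_eq_one h1)
          (orderOf_dvd_of_pow_eq_one (congrArg Subtype.val hm)))
      rw [h2, mul_one]
      exact ⟨b, hz b⟩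
    have hle : (S : Subgroup ZS) ≤ W.subgroupOf ZS := fun x hx => hRW ⟨x, hx, rfl⟩
    have e := S.3 (hW.of_equiv (subgroupOfEquivOfLe hWZ).symm) hle
    intro x hx
    refine ⟨⟨x, hWZ hx⟩, ?_, rfl⟩
    rw [SetLike.mem_coe, ← e]
    exact hx
  obtain ⟨-, K, hKC, -, hKodd, -, hKmem⟩ := U3Recog.cyclic_two (X := C) D.orderOf_t
    ((map_subtype_le _).trans hZC) (S.2.map _) hRc htR hmax
  refine ⟨K, hKodd, ?_, fun y hy x hx => mem_centralizer_iff.1 (hKC hy) x hx,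
    fun y hy hyx => hKmem y (mem_centralizer_iff.2 hyx) hy⟩
  intro h hh
  refine Coprime.mem_normalizer_of_forall fun y hy => hKmem _ (mem_centralizer_iff.2 fun x hx => ?_) ?_
  · have hx' : h⁻¹ * x * h⁻¹⁻¹ ∈ D.X := D.T_normal_X (D.T.inv_mem hh.1) hx
    rw [inv_inv] at hx'
    have := mem_centralizer_iff.1 (hKC hy) _ hx'
    calc x * (h * y * h⁻¹) = h * ((h⁻¹ * x * h) * y) * h⁻¹ := by group
      _ = h * y * h⁻¹ * x := by rw [this]; group
  · have ho : orderOf (h * y * h⁻¹) = orderOf y := (MulAut.conj h).orderOf_eq y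
    rw [ho]
    have hd : orderOf y ∣ Nat.card K := by
      rw [← Subgroup.orderOf_mk y hy]; exact orderOf_dvd_natCard _
    exact hKodd.of_dvd_nat hd

/-- Two root groups centralising `X` generate a `p`-group with it. -/
theorem pGroup_of_comm {p : ℕ} [CharP F p] (hp : p.Prime) {a b : G} {Y Y' : Subgroup G}
    (hY : D.RootAt a Y) (hY' : D.RootAt b Y')
    (hX : ∀ x ∈ D.X, ∀ y ∈ Y, x * y = y * x) (hX' : ∀ x ∈ D.X, ∀ y ∈ Y', x * y = y * x) :
    IsPGroup p (D.X ⊔ Y ⊔ Y' : Subgroup G) := by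
  haveI := Fact.mk hp
  have hodd : Odd p := hp.eq_two_or_odd'.resolve_left fun h => by
    subst h
    exact D.two_ne (by exact_mod_cast CharP.cast_eq_zero F 2)
  obtain ⟨K, hKodd, hUK, hKX, hKmem⟩ := D.exists_complement hp
  have hle : ∀ W : Subgroup G, IsPGroup p W → (∀ x ∈ D.X, ∀ y ∈ W, x * y = y * x) → W ≤ K := by
    intro W hW hc y hy
    refine hKmem y ?_ fun x hx => hc x hx y hy
    obtain ⟨k, hk⟩ := IsPGroup.iff_orderOf.1 hW ⟨y, hy⟩
    rw [Subgroup.orderOf_mk] at hk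
    rw [hk]; exact hodd.pow
  have hcop : (Nat.card D.four).Coprime (Nat.card K) := by
    haveI : Fact (Nat.Prime 2) := ⟨Nat.prime_two⟩
    obtain ⟨k, hk⟩ := D.four_isPGroup.exists_card_eq
    rw [hk]
    exact Nat.Coprime.pow_left k (Nat.coprime_two_left.2 hKodd)
  have hsolv : Group.IsSolvable D.four ∨ Group.IsSolvable K := by
    haveI : Fact (Nat.Prime 2) := ⟨Nat.prime_two⟩
    haveI := D.four_isPGroup.isNilpotent
    exact Or.inl inferInstance
  have hnorm : ∀ W : Subgroup G, (∀ g ∈ D.T, ∀ x ∈ W, g * x * g⁻¹ ∈ W) →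
      D.four ≤ normalizer (W : Set G) := fun W hW g hg =>
    Coprime.mem_normalizer_of_forall fun x hx => hW g hg.1 x hx
  obtain ⟨P, hYP, hPA⟩ := Coprime.exists_invariant_sylow_ge hUK hcop hsolv
    (hle Y (RootAt.pGroup D hp hY) hX) (RootAt.pGroup D hp hY)
    (hnorm _ fun g hg x hx => RootAt.T_normal D hY hg hx)
  obtain ⟨Q, hYQ, hQA⟩ := Coprime.exists_invariant_sylow_ge hUK hcop hsolv
    (hle Y' (RootAt.pGroup D hp hY') hX') (RootAt.pGroup D hp hY')
    (hnorm _ fun g hg x hx => RootAt.T_normal D hY' hg hx)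
  obtain ⟨c, hc, hcPQ⟩ := Coprime.invariant_sylow_conj hUK hcop hsolv P Q hPA hQA
  have hcT : (c : G) ∈ D.T := by
    rw [mem_centralizer_iff] at hc
    refine D.mem_T_of (MonoidHom.mem_range.1 (D.cent_X _
      (mem_centralizer_singleton_iff.2 (hc D.t ⟨D.t_mem, D.t_sq⟩).symm) fun a =>
        (hKX c c.2 _ (D.mem_X.2 ⟨a, rfl⟩)).symm)) (hc D.u ⟨D.u_mem, D.u_sq⟩).symm
  have hXK : D.X ≤ K := hle _ (D.X_pGroup hp) fun x hx y hy => D.X_comm hx hy
  haveI : (D.X.subgroupOf K).Normal := ⟨fun x hx k => by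
    rw [mem_subgroupOf] at hx ⊢
    push_cast
    rw [← hKX k k.2 x hx, mul_inv_cancel_right]
    exact hx⟩
  have hXP : D.X ≤ (P : Subgroup K).map K.subtype := fun x hx =>
    ⟨⟨x, hXK hx⟩, ((D.X_pGroup hp).of_equiv (subgroupOfEquivOfLe hXK).symm).le_sylow_of_normal P
      (mem_subgroupOf.2 hx), rfl⟩
  have hY'P : Y' ≤ (P : Subgroup K).map K.subtype := by
    intro y hy
    have h1 := hYQ (RootAt.T_normal D hY' hcT hy)
    rw [← hcPQ, Coprime.map_subtype_smul, Coprime.mem_conj] at h1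
    simpa [mul_assoc] using h1
  exact (P.2.map K.subtype).to_le (sup_le (sup_le hXP hYP) hY'P)

end LData

namespace Hyp

variable (H : Hyp F G)

theorem dG_eq (x : Fˣ × Fˣ) : (dG x : GL (Fin 2) F) = dg x := by
  apply mG_ext
  rw [mG, mG, dg_coe]
  rfl

theorem iG_uS (a : F) : (iG (uS a) : GL (Fin 2) F) = LThreeRec.u a := by
  apply mG_ext
  rw [mG_iG, mG, u_coe]
  rfl

theorem iG_vS (a : F) : (iG (vS a) : GL (Fin 2) F) = LThreeRec.v a := by
  apply mG_ext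
  rw [mG_iG, mG, v_coe]
  rfl

/-- The set-up of the good case. -/
noncomputable def toLData : LData G F where
  π := H.π
  t := H.t
  two_ne := H.two_ne
  π_neg := by rw [dG_eq]; rfl
  range_le := H.range_le
  normal := fun _ hx _ hy => H.conj_range hx hy
  odd_index := H.odd_index
  cent_X := fun _ hx hc => H.mem_range_of_cent_Xp hx fun c => by simpa only [iG_uS] using hc c
  cent_T := fun _ hx hc => H.mem_range_of_cent_T hx fun a => by simpa only [dG_eq] using hc a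
  norm_X := fun x hx hs a => by
    rw [dG_eq] at hs
    obtain ⟨d, e, hd, -⟩ := H.exists_diag hx hs
    exact ⟨(d.1 : F) * (d.2 : F)⁻¹ * e a, by rw [iG_uS, iG_uS, H.conj_u hd]⟩
  ker_center := H.ker_le
  ker_odd := H.ker_odd

instance [h : H.Exact] : H.toLData.Exact := ⟨h.range_eq⟩

theorem toLData_u : H.toLData.u = H.s := by
  show H.π (dG (1, -1)) = H.s
  rw [dG_eq]; rfl

theorem toLData_T : H.toLData.T = H.T := by
  ext x
  constructor
  · rintro ⟨a, rfl⟩; exact ⟨_, ⟨a, rfl⟩, congrArg H.π (dG_eq a).symm⟩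
  · rintro ⟨_, ⟨a, rfl⟩, rfl⟩; exact ⟨a, congrArg H.π (dG_eq a)⟩

theorem toLData_X : H.toLData.X = H.Xp := by
  ext x
  constructor
  · rintro ⟨a, rfl⟩; exact ⟨_, ⟨Multiplicative.ofAdd a, rfl⟩, congrArg H.π (iG_uS a).symm⟩
  · rintro ⟨_, ⟨a, rfl⟩, rfl⟩; exact ⟨a.toAdd, congrArg H.π (iG_uS a.toAdd)⟩

theorem toLData_X' : H.toLData.X' = H.Xm := by
  ext x
  rw [LData.mem_X']
  constructor
  · rintro ⟨a, rfl⟩; exact ⟨_, ⟨Multiplicative.ofAdd a, rfl⟩, congrArg H.π (iG_vS a).symm⟩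
  · rintro ⟨_, ⟨a, rfl⟩, rfl⟩; exact ⟨a.toAdd, congrArg H.π (iG_vS a.toAdd)⟩

include H in
/-- A rotation normalizes the centralizer of the four-group. -/
theorem cent_rot {σ x : G} (hσ : σ * H.t * σ⁻¹ = H.s) (hσ' : σ * H.s * σ⁻¹ = H.t * H.s)
    (hx : x ∈ centralizer {H.t}) (hs : x * H.s = H.s * x) :
    σ * x * σ⁻¹ ∈ centralizer {H.t} ∧ σ * x * σ⁻¹ * H.s = H.s * (σ * x * σ⁻¹) ∧
      σ⁻¹ * x * σ ∈ centralizer {H.t} ∧ σ⁻¹ * x * σ * H.s = H.s * (σ⁻¹ * x * σ) := by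
  have ht : Commute x H.t := mem_centralizer_singleton_iff.1 hx
  have hts : Commute x (H.t * H.s) := ht.mul_right hs
  have c1 : ∀ {v w : G}, Commute x v → σ * v * σ⁻¹ = w → Commute (σ * x * σ⁻¹) w := fun {v w} h e => by
    rw [← e]; exact (Commute.conj_iff σ).2 h
  have c2 : ∀ {v w : G}, Commute x w → σ * v * σ⁻¹ = w → Commute (σ⁻¹ * x * σ) v := fun {v w} h e => by
    have h' := (Commute.conj_iff σ⁻¹).2 h
    rwa [inv_inv, ← e, show σ⁻¹ * (σ * v * σ⁻¹) * σ = v by group] at h'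
  have e3 : σ * (H.t * H.s) * σ⁻¹ = H.t := by
    calc σ * (H.t * H.s) * σ⁻¹ = (σ * H.t * σ⁻¹) * (σ * H.s * σ⁻¹) := by group
      _ = H.t := by rw [hσ, hσ', ← mul_assoc, H.st_comm, mul_assoc, Involution.mul_self H.s_order, mul_one]
  exact ⟨mem_centralizer_singleton_iff.2 (c1 hts e3).eq, (c1 ht hσ).eq,
    mem_centralizer_singleton_iff.2 (c2 hs hσ).eq, (c2 hts hσ').eq⟩

include H in
/-- A rotation normalizes the torus. -/
theorem map_T_rot {σ τ : G} (hσ : σ * H.t * σ⁻¹ = H.s) (hσ' : σ * H.s * σ⁻¹ = H.t * H.s) (hτ : τ ∈ H.T) :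
    σ * τ * σ⁻¹ ∈ H.T :=
  H.map_T hτ fun _ hx hs => H.cent_rot hσ hσ' hx hs

include H in
/-- A rotation inversely normalizes the torus. -/
theorem map_T_rot' {σ τ : G} (hσ : σ * H.t * σ⁻¹ = H.s) (hσ' : σ * H.s * σ⁻¹ = H.t * H.s) (hτ : τ ∈ H.T) :
    σ⁻¹ * τ * σ ∈ H.T := by
  have h := H.map_T (σ := σ⁻¹) hτ fun x hx hs => by
    obtain ⟨h1, h2, h3, h4⟩ := H.cent_rot hσ hσ' hx hs
    rw [inv_inv]; exact ⟨h3, h4, h1, h2⟩
  rwa [inv_inv] at h

include H in
/-- The good case of the recognition theorem. -/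
theorem equiv_psl_of_partners [IsSimpleGroup G] {σ : G} (hσ : σ * H.t * σ⁻¹ = H.s)
    (hσ' : σ * H.s * σ⁻¹ = H.t * H.s)
    (hA : ∀ x ∈ H.Xp, ∀ y ∈ (H.conj σ).Xm, x * y = y * x)
    (hA' : ∀ x ∈ H.Xp, ∀ y ∈ (H.conj (σ * σ)).Xm, x * y = y * x) :
    Nonempty (G ≃* Matrix.ProjectiveSpecialLinearGroup (Fin 3) F) := by
  obtain ⟨p, hpc⟩ := CharP.exists F
  haveI := hpc
  have hp : p.Prime := CharP.char_is_prime F p
  set D := H.toLData with hD
  have hDt : D.t = H.t := rfl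
  have hDu : D.u = H.s := H.toLData_u
  have hσT : ∀ h ∈ D.T, σ * h * σ⁻¹ ∈ D.T := fun h hh =>
    H.toLData_T ▸ H.map_T_rot hσ hσ' (H.toLData_T ▸ hh)
  have hwT : ∀ h ∈ D.T, D.w * h * D.w⁻¹ ∈ D.T := by
    intro h hh
    obtain ⟨⟨a, b⟩, rfl⟩ := hh
    refine ⟨(b, a), ?_⟩
    rw [MonoidHom.comp_apply, MonoidHom.comp_apply, eq_mul_inv_iff_mul_eq, LData.w, LData.φ_apply,
      ← map_mul, ← map_mul]
    congr 1
    apply mG_ext
    rw [mG_mul, mG_mul, mG_iG, mG_dG, mG_dG]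
    ext i j; fin_cases i <;> fin_cases j <;> simp [wS, Matrix.mul_apply, Fin.sum_univ_two]
  -- the two root groups
  have hmap : ∀ g : G, (H.conj g).Xm = D.X.map (MulAut.conj (g * D.w)).toMonoidHom := by
    intro g
    rw [H.conj_Xm, ← H.toLData_X', LData.X', map_map]
    congr 1
    ext x
    simp [mul_assoc]
    rfl
  have hwt : D.w * D.t * D.w⁻¹ = D.t := by
    rw [LData.w, LData.φ_apply, D.comm_t, mul_inv_cancel_right]
  have hroot : ∀ (g a : G), (∀ h ∈ D.T, g * h * g⁻¹ ∈ D.T) → g * D.t * g⁻¹ = a →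
      D.RootAt a (H.conj g).Xm := by
    intro g a hgT hga
    refine ⟨g * D.w, ?_, fun h hh => ?_, hmap g⟩
    · calc g * D.w * D.t * (g * D.w)⁻¹ = g * (D.w * D.t * D.w⁻¹) * g⁻¹ := by group
        _ = a := by rw [hwt, hga]
    · have := hgT _ (hwT h hh)
      convert this using 1; group
  have hY' : D.RootAt D.u (H.conj σ).Xm := hroot σ _ hσT (by rw [hDt, hDu, hσ])
  have hY : D.RootAt (D.t * D.u) (H.conj (σ * σ)).Xm := hroot (σ * σ) _ (fun h hh => by
      have := hσT _ (hσT h hh)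
      convert this using 1; group)
    (by rw [hDt, hDu]
        calc σ * σ * H.t * (σ * σ)⁻¹ = σ * (σ * H.t * σ⁻¹) * σ⁻¹ := by group
          _ = H.t * H.s := by rw [hσ, hσ'])
  have hX : ∀ x ∈ D.X, ∀ y ∈ (H.conj (σ * σ)).Xm, x * y = y * x := fun x hx => hA' x (H.toLData_X ▸ hx)
  have hX' : ∀ x ∈ D.X, ∀ y ∈ (H.conj σ).Xm, x * y = y * x := fun x hx => hA x (H.toLData_X ▸ hx)
  refine D.equiv_psl_of_roots hp hY hY' hX hX' (D.pGroup_of_comm hp hY hY' hX hX') ?_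
  by_contra hno
  push Not at hno
  -- `X` commutes with the other root group of `C(s)` as well
  set n := σ * D.w * σ with hn
  have hσσw : ∀ x ∈ D.X, σ * σ * D.w * x * (σ * σ * D.w)⁻¹ ∈ (H.conj (σ * σ)).Xm := fun x hx => by
    rw [hmap]; exact ⟨x, hx, rfl⟩
  have hσw : ∀ x ∈ D.X, σ * D.w * x * (σ * D.w)⁻¹ ∈ (H.conj σ).Xm := fun x hx => by
    rw [hmap]; exact ⟨x, hx, rfl⟩
  -- `n` centralises `t` and maps `X'` to a root group of `C(t)`
  have hwu : D.w * D.u * D.w⁻¹ = D.t * D.u := by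
    rw [mul_inv_eq_iff_eq_mul, LData.w, LData.u, LData.φ_apply, ← D.π_neg, ← map_mul, ← map_mul,
      ← map_mul, ← map_mul]
    congr 1
    apply mG_ext
    rw [mG_mul, mG_mul, mG_iG, mG_dG, Prod.mk_mul_mk, mG_dG]
    ext i j; fin_cases i <;> fin_cases j <;> simp [wS, Matrix.mul_apply, Fin.sum_univ_two]
  have hσts : σ * (D.t * D.u) * σ⁻¹ = D.t := by
    rw [hDt, hDu]
    calc σ * (H.t * H.s) * σ⁻¹ = (σ * H.t * σ⁻¹) * (σ * H.s * σ⁻¹) := by group
      _ = H.s * (H.t * H.s) := by rw [hσ, hσ']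
      _ = H.t := by rw [← mul_assoc, H.st_comm, mul_assoc, Involution.mul_self H.s_order, mul_one]
  have hσt : σ * D.t * σ⁻¹ = D.u := by rw [hDt, hDu]; exact hσ
  have hnt : n * D.t * n⁻¹ = D.t := by
    calc n * D.t * n⁻¹ = σ * (D.w * (σ * D.t * σ⁻¹) * D.w⁻¹) * σ⁻¹ := by rw [hn]; group
      _ = D.t := by rw [hσt, hwu, hσts]
  have hnu : n * D.u * n⁻¹ = D.t * D.u := by
    have hσu : σ * D.u * σ⁻¹ = D.t * D.u := by rw [hDt, hDu]; exact hσ'
    have hwtu : D.w * (D.t * D.u) * D.w⁻¹ = D.u := by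
      calc D.w * (D.t * D.u) * D.w⁻¹ = (D.w * D.t * D.w⁻¹) * (D.w * D.u * D.w⁻¹) := by group
        _ = D.u := by rw [hwt, hwu, ← mul_assoc, D.t_sq, one_mul]
    calc n * D.u * n⁻¹ = σ * (D.w * (σ * D.u * σ⁻¹) * D.w⁻¹) * σ⁻¹ := by rw [hn]; group
      _ = D.t * D.u := by rw [hσu, hwtu, hσu]
  -- so `n w` lies in the torus
  have hm : n * D.w ∈ centralizer ({D.t, D.u} : Set G) := by
    have e1 : (n * D.w) * D.t * (n * D.w)⁻¹ = D.t := by
      calc _ = n * (D.w * D.t * D.w⁻¹) * n⁻¹ := by group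
        _ = D.t := by rw [hwt, hnt]
    have e2 : (n * D.w) * D.u * (n * D.w)⁻¹ = D.u := by
      calc _ = n * (D.w * D.u * D.w⁻¹) * n⁻¹ := by group
        _ = (n * D.t * n⁻¹) * (n * D.u * n⁻¹) := by rw [hwu]; group
        _ = D.u := by rw [hnt, hnu, ← mul_assoc, D.t_sq, one_mul]
    exact D.mem_cent_pair.2 ⟨mul_inv_eq_iff_eq_mul.1 e1, mul_inv_eq_iff_eq_mul.1 e2⟩
  have hww : D.w * D.w = D.t := by rw [LData.w, ← map_mul, wS_sq, D.φ_neg]
  have hall : ∀ x ∈ D.X, ∀ y ∈ D.X, x * (σ * y * σ⁻¹) = σ * y * σ⁻¹ * x := by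
    intro x hx y hy
    have hx0 : (n * D.w)⁻¹ * x * (n * D.w)⁻¹⁻¹ ∈ D.X := D.cent_pair_X (inv_mem hm) hx
    have hy0 : D.t⁻¹ * y * D.t⁻¹⁻¹ ∈ D.X := D.T_normal_X (D.T.inv_mem D.t_mem) hy
    have h := congrArg (fun z => σ * D.w * σ⁻¹ * z * (σ * D.w * σ⁻¹)⁻¹)
      (hno _ (hσσw _ hx0) _ (hσw _ hy0))
    simp only [inv_inv] at h
    have e1 : σ * D.w * σ⁻¹ * (σ * σ * D.w * ((n * D.w)⁻¹ * x * (n * D.w)) * (σ * σ * D.w)⁻¹) *
        (σ * D.w * σ⁻¹)⁻¹ = x := by rw [hn]; group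
    have e2 : σ * D.w * σ⁻¹ * (σ * D.w * (D.t⁻¹ * y * D.t) * (σ * D.w)⁻¹) * (σ * D.w * σ⁻¹)⁻¹ =
        σ * y * σ⁻¹ := by rw [← hww]; group
    have split : ∀ g a b : G, g * (a * b) * g⁻¹ = (g * a * g⁻¹) * (g * b * g⁻¹) := fun g a b => by group
    have h' := (split _ _ _).symm.trans (h.trans (split _ _ _))
    rw [e1, e2] at h'
    exact h'
  obtain ⟨x, hx, hx1⟩ := D.exists_ne_one_X
  have hphi : ∀ g, x * (σ * D.φ g * σ⁻¹) = σ * D.φ g * σ⁻¹ * x := by
    intro g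
    induction g using Matrix.SL2.transvection_induction with
    | htransvec i j hij b =>
      fin_cases i <;> fin_cases j
      · exact absurd rfl hij
      · have e : Matrix.SpecialLinearGroup.transvection hij b = (uS b : Matrix.SpecialLinearGroup (Fin 2) F) := by
          apply Subtype.ext; ext i j; fin_cases i <;> fin_cases j <;>
            simp [uS, Matrix.SpecialLinearGroup.transvection, Matrix.transvection]
        exact e ▸ hall x hx _ (D.mem_X.2 ⟨b, rfl⟩)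
      · have e : Matrix.SpecialLinearGroup.transvection hij b = (vS b : Matrix.SpecialLinearGroup (Fin 2) F) := by
          apply Subtype.ext; ext i j; fin_cases i <;> fin_cases j <;>
            simp [vS, Matrix.SpecialLinearGroup.transvection, Matrix.transvection]
        obtain ⟨z, hz, hzb⟩ := D.mem_X'.2 ⟨b, rfl⟩
        have hzb' : D.w * z * D.w⁻¹ = D.φ (vS b) := hzb
        refine e ▸ ?_
        rw [← hzb', show σ * (D.w * z * D.w⁻¹) * σ⁻¹ = σ * D.w * z * (σ * D.w)⁻¹ by group]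
        exact hX' x hx _ (hσw z hz)
      · exact absurd rfl hij
    | hmul g g' hg hg' =>
      rw [map_mul, show σ * (D.φ g * D.φ g') * σ⁻¹ = (σ * D.φ g * σ⁻¹) * (σ * D.φ g' * σ⁻¹) by group,
        ← mul_assoc, hg, mul_assoc, hg', ← mul_assoc]
  have hxu := hphi (hS (-1))
  rw [D.φ_neg, hσt] at hxu
  obtain ⟨b, hb⟩ := D.mem_X.1 hx
  exact hx1 (D.T_inter_pGroup hp (D.X_pGroup hp) hx (D.mem_T_of ⟨_, hb⟩ hxu))

end Hyp

end Cfsg.Agent.LThreeRec
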