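import Cfsg.Agent.Lib.LThreeRec.Inside
import Cfsg.Agent.Lib.LThreeRec.Good

/-!
# The good configuration from three root groups (helper60, S0484)

`LData.equiv_psl_of_roots` : if root groups `Y`, `Y'` at `t u`, `u` centralise `X`, generate a `p`-group
with it and do not commute, then the simple group is `PSL₃(q)`.
-/

set_option autoImplicit false
set_option linter.unusedSectionVars false
set_option linter.style.haveILetI false

namespace Cfsg.Agent.LThreeRec

open Subgroup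
open scoped Pointwise commutatorElement

variable {F : Type*} [Field F] [Fintype F] {G : Type*} [Group G] [Finite G]

namespace LData

variable (D : LData G F)

/-- `R` is a root group at the involution `a`. -/
def RootAt (a : G) (R : Subgroup G) : Prop :=
  ∃ n : G, n * D.t * n⁻¹ = a ∧ (∀ h ∈ D.T, n * h * n⁻¹ ∈ D.T) ∧ R = D.X.map (MulAut.conj n).toMonoidHom

include D

theorem t_sq : D.t * D.t = 1 := by
  have := pow_orderOf_eq_one D.t
  rwa [D.orderOf_t, sq] at this

theorem u_sq : D.u * D.u = 1 := by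
  have := pow_orderOf_eq_one D.u
  rwa [D.orderOf_u, sq] at this

theorem t_comm_u : D.t * D.u = D.u * D.t := D.T_comm D.t_mem D.u_mem

/-- The involutions of the torus. -/
theorem T_invol {x : G} (hx : x ∈ D.T) (h2 : x * x = 1) :
    x = 1 ∨ x = D.t ∨ x = D.u ∨ x = D.t * D.u := by
  obtain ⟨⟨a, b⟩, rfl⟩ := hx
  have hk : dG (a * a, b * b) ∈ D.π.ker := by
    rw [MonoidHom.mem_ker, show (a * a, b * b) = (a, b) * (a, b) from rfl, map_mul, map_mul]
    exact h2
  obtain ⟨h01, h10, h00⟩ := D.scalar_of_center (D.ker_center hk)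
  rw [mG_dG] at h00
  simp at h00
  have hb : b = a ∨ b = -a := by
    rcases mul_eq_zero.1 (show ((b : F) - a) * ((b : F) + a) = 0 by linear_combination -h00) with h | h
    · exact Or.inl (Units.ext (sub_eq_zero.1 h))
    · exact Or.inr (Units.ext (by simpa using eq_neg_of_add_eq_zero_left h))
  obtain ⟨m, hm⟩ := D.ker_odd
  have hpow : (dG (a * a, b * b) : GL (Fin 2) F) ^ (2 * m + 1) = 1 := by
    rw [← hm]
    exact congrArg Subtype.val (pow_card_eq_one' (x := (⟨_, hk⟩ : D.π.ker)))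
  have e1 : (dG (a, b) : GL (Fin 2) F) * dG (a, b) = dG (a * a, b * b) := by rw [← map_mul]; rfl
  -- replace by the odd power
  set c : Fˣ := a ^ (2 * m + 1) with hc
  have hc2 : c * c = 1 := by
    rw [← map_pow, Prod.pow_mk] at hpow
    have := congrFun (congrFun (congrArg mG hpow) 0) 0
    rw [mG_dG] at this
    apply Units.ext
    rw [hc, ← mul_pow]
    simpa using this
  have hx1 : D.π (dG (a, b)) = D.π (dG (a ^ (2 * m + 1), b ^ (2 * m + 1))) := by
    rw [← Prod.pow_mk, map_pow, map_pow, pow_succ, pow_mul, sq]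
    have : D.π (dG (a, b)) * D.π (dG (a, b)) = 1 := h2
    rw [this, one_pow, one_mul]
  have hcc : c = 1 ∨ c = -1 := by
    have h : ((c : F) - 1) * ((c : F) + 1) = 0 := by
      have := congrArg Units.val hc2
      simp at this
      linear_combination this
    rcases mul_eq_zero.1 h with h | h
    · exact Or.inl (Units.ext (sub_eq_zero.1 h))
    · exact Or.inr (Units.ext (by simpa using eq_neg_of_add_eq_zero_left h))
  have hu : D.t * D.u = D.π (dG (-1, 1)) := by
    rw [← D.π_neg, u, ← map_mul, ← map_mul]; simp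
  rw [MonoidHom.comp_apply, hx1]
  rcases hb with rfl | rfl
  · rcases hcc with h | h <;> rw [← hc, h]
    · left; rw [D.dG_one, map_one]
    · right; left; exact D.π_neg
  · rw [show (-a) ^ (2 * m + 1) = -c by rw [hc, Odd.neg_pow ⟨m, rfl⟩], ← hc]
    rcases hcc with h | h <;> rw [h]
    · right; right; left; rfl
    · right; right; right; rw [hu]; simp

theorem t_ne_one : D.t ≠ 1 := fun h => by
  have := D.orderOf_t
  rw [h, orderOf_one] at this
  norm_num at this

variable {a : G} {R : Subgroup G}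

theorem RootAt.le_cent (h : D.RootAt a R) : R ≤ centralizer ({a} : Set G) := by
  obtain ⟨n, rfl, -, rfl⟩ := h
  rintro _ ⟨x, hx, rfl⟩
  refine mem_centralizer_singleton_iff.2 ?_
  have := mem_centralizer_singleton_iff.1 (D.X_le_centralizer hx)
  show n * x * n⁻¹ * (n * D.t * n⁻¹) = n * D.t * n⁻¹ * (n * x * n⁻¹)
  calc n * x * n⁻¹ * (n * D.t * n⁻¹) = n * (x * D.t) * n⁻¹ := by group
    _ = _ := by rw [this]; group

theorem RootAt.card_eq (h : D.RootAt a R) : Nat.card R = Fintype.card F := by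
  obtain ⟨n, -, -, rfl⟩ := h
  rw [card_map_of_injective (MulAut.conj n).injective, D.card_X]

theorem X_comm {x y : G} (hx : x ∈ D.X) (hy : y ∈ D.X) : x * y = y * x := by
  obtain ⟨a, rfl⟩ := hx; obtain ⟨b, rfl⟩ := hy
  simp only [← map_mul, uS_add, add_comm]

theorem RootAt.comm (h : D.RootAt a R) {x y : G} (hx : x ∈ R) (hy : y ∈ R) : x * y = y * x := by
  obtain ⟨n, -, -, rfl⟩ := h
  obtain ⟨x, hx, rfl⟩ := hx; obtain ⟨y, hy, rfl⟩ := hy
  rw [← map_mul, ← map_mul, D.X_comm hx hy]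

theorem RootAt.T_normal (h : D.RootAt a R) {g x : G} (hg : g ∈ D.T) (hx : x ∈ R) :
    g * x * g⁻¹ ∈ R := by
  obtain ⟨n, -, hn, rfl⟩ := h
  have hnN : n⁻¹ ∈ normalizer (D.T : Set G) := inv_mem (Coprime.mem_normalizer_of_forall hn)
  obtain ⟨x, hx, rfl⟩ := hx
  refine ⟨(n⁻¹ * g * n) * x * (n⁻¹ * g * n)⁻¹, D.T_normal_X ?_ hx, ?_⟩
  · simpa using (mem_normalizer_iff.1 hnN g).1 hg
  · show n * _ * n⁻¹ = g * (n * x * n⁻¹) * g⁻¹
    group

theorem X_pGroup {p : ℕ} [CharP F p] (hp : p.Prime) : IsPGroup p D.X := by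
  haveI := Fact.mk hp
  obtain ⟨n, -, hn⟩ := FiniteField.card F p
  exact IsPGroup.of_card (n := n) (D.card_X.trans hn)

theorem RootAt.pGroup {p : ℕ} [CharP F p] (hp : p.Prime) (h : D.RootAt a R) : IsPGroup p R := by
  obtain ⟨n, -, -, rfl⟩ := h
  exact (D.X_pGroup hp).map _

/-- The fixed points of `u` in a `p`-subgroup of `C(t)` normalised by the torus lie in the image. -/
theorem fixed_mem {p : ℕ} [CharP F p] (hp : p.Prime) {W : Subgroup G} (hW : IsPGroup p W)
    (hWt : W ≤ centralizer ({D.t} : Set G)) (hWT : ∀ g ∈ D.T, ∀ x ∈ W, g * x * g⁻¹ ∈ W) :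
    ∀ x ∈ W, x * D.u = D.u * x → ∃ g, D.π g = x := by
  intro x hx hxu
  refine MonoidHom.mem_range.1 (D.cent_T x (hWt hx) fun a => ?_)
  have hτ : D.π (dG a) ∈ D.T := ⟨a, rfl⟩
  have hxτ : x * D.π (dG a) * x⁻¹ ∈ D.T := by
    refine D.mem_T_of (MonoidHom.mem_range.1 (D.normal x (hWt hx) _ ⟨_, rfl⟩)) ?_
    have e1 : Commute x D.u := hxu
    exact ((e1.mul_left (D.T_cent hτ).2).mul_left e1.inv_left).eq
  have h := D.T_inter_pGroup hp hW (mul_mem hx (inv_mem (hWT _ hτ _ hx)))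
    (x := x * (D.π (dG a) * x * (D.π (dG a))⁻¹)⁻¹) (by
      rw [show x * (D.π (dG a) * x * (D.π (dG a))⁻¹)⁻¹ = x * D.π (dG a) * x⁻¹ * (D.π (dG a))⁻¹ by group]
      exact mul_mem hxτ (inv_mem hτ))
  rw [mul_inv_eq_one] at h
  exact eq_mul_inv_iff_mul_eq.1 h

/-- Two root groups at each involution. -/
theorem RootAt.cases {p : ℕ} [CharP F p] (hp : p.Prime) (h : D.RootAt a R) :
    ∃ R' : Subgroup G, ∀ W : Subgroup G, IsPGroup p W → Nat.card W = Fintype.card F →
      W ≤ centralizer ({a} : Set G) → (∀ g ∈ D.T, ∀ x ∈ W, g * x * g⁻¹ ∈ W) → W = R ∨ W = R' := by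
  obtain ⟨n, hna, hn, rfl⟩ := h
  refine ⟨D.X'.map (MulAut.conj n).toMonoidHom, fun W hW hcard hWa hWT => ?_⟩
  set W0 : Subgroup G := W.map (MulAut.conj n⁻¹).toMonoidHom with hW0
  have hmem : ∀ {x : G}, x ∈ W0 ↔ n * x * n⁻¹ ∈ W := by
    intro x
    constructor
    · rintro ⟨y, hy, rfl⟩
      simpa [mul_assoc] using hy
    · intro hx
      exact ⟨_, hx, by simp [mul_assoc]⟩
  have h1 : W0 ≤ centralizer ({D.t} : Set G) := fun x hx => by
    have := mem_centralizer_singleton_iff.1 (hWa (hmem.1 hx))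
    rw [← hna] at this
    refine mem_centralizer_singleton_iff.2 (mul_left_cancel (a := n) (mul_right_cancel (b := n⁻¹) ?_))
    calc n * (x * D.t) * n⁻¹ = n * x * n⁻¹ * (n * D.t * n⁻¹) := by group
      _ = n * (D.t * x) * n⁻¹ := by rw [this]; group
  have h2 : ∀ x ∈ W0, D.u * x * D.u⁻¹ ∈ W0 := fun x hx => hmem.2 (by
    have := hWT _ (hn _ D.u_mem) _ (hmem.1 hx)
    convert this using 1; group)
  have hback : ∀ X0 : Subgroup G, W0 ≤ X0 → Nat.card X0 = Fintype.card F →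
      W = X0.map (MulAut.conj n).toMonoidHom := fun X0 hle hc => by
    refine Subgroup.eq_of_le_of_card_ge (fun x hx => ?_) ?_
    · exact ⟨n⁻¹ * x * n, hle (hmem.2 (by simpa [mul_assoc] using hx)), by simp [mul_assoc]⟩
    · rw [card_map_of_injective (MulAut.conj n).injective, hc, hcard]
  have h3 : ∀ x ∈ W0, x * D.u = D.u * x → ∃ g, D.π g = x :=
    D.fixed_mem hp (hW.map _) h1 fun g hg x hx => hmem.2 (by
      have := hWT _ (hn _ hg) _ (hmem.1 hx)
      convert this using 1; group)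
  rcases D.root_cases_of hp (hW.map _) h1 h2 h3 with h | h
  · exact Or.inl (hback _ h D.card_X)
  · exact Or.inr (hback _ h (by rw [X', card_map_of_injective (MulAut.conj D.w).injective, D.card_X]))

theorem mem_cent_pair {x : G} :
    x ∈ centralizer ({D.t, D.u} : Set G) ↔ x * D.t = D.t * x ∧ x * D.u = D.u * x := by
  rw [mem_centralizer_iff]
  simp [eq_comm]

theorem cent_le_sup :
    centralizer ({D.t} : Set G) ≤ D.φ.range ⊔ centralizer ({D.t, D.u} : Set G) := by
  intro x hx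
  have hx' := mem_centralizer_singleton_iff.1 hx
  obtain ⟨c, hc, hct, hcu⟩ := D.exists_conj_range (s := x * D.u * x⁻¹)
    (((MulAut.conj x).orderOf_eq D.u).trans D.orderOf_u)
    (by
      have e : Commute x D.t := hx'
      exact ((e.mul_left (D.T_cent D.u_mem).1).mul_left e.inv_left).eq)
    (fun h => D.u_ne_t (by
      calc D.u = x⁻¹ * (x * D.u * x⁻¹) * x := by group
        _ = D.t := by rw [h, mul_assoc, ← hx']; group))
  have hle : D.π.range ≤ D.φ.range ⊔ centralizer ({D.t, D.u} : Set G) :=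
    D.range_le_sup.trans (sup_le_sup_left (fun _ h => D.mem_cent_pair.2 (D.T_cent h)) _)
  rw [show x = c * (c⁻¹ * x) by group]
  refine mul_mem (hle hc) (le_sup_right (a := D.φ.range) (D.mem_cent_pair.2 ⟨?_, ?_⟩))
  · exact ((Commute.inv_left (hct : Commute c D.t)).mul_left (hx' : Commute x D.t)).eq
  · calc c⁻¹ * x * D.u = c⁻¹ * (x * D.u * x⁻¹) * x := by group
      _ = D.u * (c⁻¹ * x) := by rw [← hcu]; group

theorem cent_pair_X {g x : G} (hg : g ∈ centralizer ({D.t, D.u} : Set G)) (hx : x ∈ D.X) :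
    g * x * g⁻¹ ∈ D.X := by
  obtain ⟨a, rfl⟩ := hx
  obtain ⟨b, hb⟩ := D.norm_X g (mem_centralizer_singleton_iff.2 (D.mem_cent_pair.1 hg).1)
    (D.mem_cent_pair.1 hg).2 a
  exact ⟨b, hb⟩

theorem cent_pair_conj {n g : G} (hn : ∀ h ∈ D.T, n * h * n⁻¹ ∈ D.T)
    (hg : g ∈ centralizer ({D.t, D.u} : Set G)) : n⁻¹ * g * n ∈ centralizer ({D.t, D.u} : Set G) := by
  obtain ⟨h1, h2⟩ := D.mem_cent_pair.1 hg
  have key : ∀ v ∈ D.T, v * v = 1 → (n⁻¹ * g * n) * v = v * (n⁻¹ * g * n) := by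
    intro v hv hvv
    set v' := n * v * n⁻¹ with hv'
    have hc : g * v' = v' * g := by
      rcases D.T_invol (hn v hv) (show v' * v' = 1 by
        calc v' * v' = n * (v * v) * n⁻¹ := by rw [hv']; group
          _ = 1 := by rw [hvv]; group) with h | h | h | h <;> rw [← hv'] at h <;> rw [h]
      · rw [mul_one, one_mul]
      · exact h1
      · exact h2
      · exact (Commute.mul_right (h1 : Commute g D.t) (h2 : Commute g D.u)).eq
    calc n⁻¹ * g * n * v = n⁻¹ * (g * v') * n := by rw [hv']; group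
      _ = v * (n⁻¹ * g * n) := by rw [hc, hv']; group
  exact D.mem_cent_pair.2 ⟨key _ D.t_mem D.t_sq, key _ D.u_mem D.u_sq⟩

theorem RootAt.cent_pair_normal (h : D.RootAt a R) {g x : G}
    (hg : g ∈ centralizer ({D.t, D.u} : Set G)) (hx : x ∈ R) : g * x * g⁻¹ ∈ R := by
  obtain ⟨n, -, hn, rfl⟩ := h
  obtain ⟨x, hx, rfl⟩ := hx
  refine ⟨(n⁻¹ * g * n) * x * (n⁻¹ * g * n)⁻¹, D.cent_pair_X (D.cent_pair_conj hn hg) hx, ?_⟩
  show n * _ * n⁻¹ = g * (n * x * n⁻¹) * g⁻¹
  group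

theorem cent_pair_range {g x : G} (hg : g ∈ centralizer ({D.t, D.u} : Set G)) (hx : x ∈ D.φ.range) :
    g * x * g⁻¹ ∈ D.φ.range := by
  have hwt : D.w * D.t = D.t * D.w := D.comm_t _
  have hw' : D.w⁻¹ * g * D.w ∈ centralizer ({D.t, D.u} : Set G) := by
    refine D.cent_pair_conj (fun h hh => ?_) hg
    obtain ⟨⟨a, b⟩, rfl⟩ := hh
    refine ⟨(b, a), ?_⟩
    rw [MonoidHom.comp_apply, MonoidHom.comp_apply, eq_mul_inv_iff_mul_eq, w, φ_apply, ← map_mul, ← map_mul]
    congr 1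
    apply mG_ext
    rw [mG_mul, mG_mul, mG_iG, mG_dG, mG_dG]
    ext i j; fin_cases i <;> fin_cases j <;> simp [wS, Matrix.mul_apply, Fin.sum_univ_two]
  have hX' : ∀ z ∈ D.X', g * z * g⁻¹ ∈ D.X' := by
    rintro _ ⟨z, hz, rfl⟩
    refine ⟨_, D.cent_pair_X hw' hz, ?_⟩
    show D.w * _ * D.w⁻¹ = g * (D.w * z * D.w⁻¹) * g⁻¹
    group
  obtain ⟨k, rfl⟩ := hx
  induction k using Matrix.SL2.transvection_induction with
  | htransvec i j hij a =>
    fin_cases i <;> fin_cases j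
    · exact absurd rfl hij
    · have e : Matrix.SpecialLinearGroup.transvection hij a = (uS a : Matrix.SpecialLinearGroup (Fin 2) F) := by
        apply Subtype.ext; ext i j; fin_cases i <;> fin_cases j <;>
          simp [uS, Matrix.SpecialLinearGroup.transvection, Matrix.transvection]
      obtain ⟨b, hb⟩ := D.cent_pair_X hg (D.mem_X.2 ⟨a, rfl⟩)
      exact ⟨uS b, hb.trans (by rw [show uS a = _ from e.symm])⟩
    · have e : Matrix.SpecialLinearGroup.transvection hij a = (vS a : Matrix.SpecialLinearGroup (Fin 2) F) := by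
        apply Subtype.ext; ext i j; fin_cases i <;> fin_cases j <;>
          simp [vS, Matrix.SpecialLinearGroup.transvection, Matrix.transvection]
      obtain ⟨b, hb⟩ := D.mem_X'.1 (hX' _ (D.mem_X'.2 ⟨a, rfl⟩))
      exact ⟨vS b, hb.trans (by rw [show vS a = _ from e.symm])⟩
    · exact absurd rfl hij
  | hmul x z hx hz =>
    rw [map_mul, show g * (D.φ x * D.φ z) * g⁻¹ = (g * D.φ x * g⁻¹) * (g * D.φ z * g⁻¹) by group]
    exact D.φ.range.mul_mem hx hz

theorem exists_ne_one_X : ∃ x ∈ D.X, x ≠ 1 :=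
  ⟨_, D.mem_X.2 ⟨1, rfl⟩, fun e => one_ne_zero (D.φ_inj_root e)⟩

/-- The data of a nonabelian configuration at `t`. -/
structure Triangle (p : ℕ) (a a' : G) (Y Y' : Subgroup G) : Prop where
  atY : D.RootAt a Y
  atY' : D.RootAt a' Y'
  prod : a * a' = D.t
  memT : a ∈ D.T ∧ a' ∈ D.T
  swap : D.w * a * D.w⁻¹ = a' ∧ D.w * a' * D.w⁻¹ = a
  commX : ∀ x ∈ D.X, ∀ y ∈ Y, x * y = y * x
  commX' : ∀ x ∈ D.X, ∀ y ∈ Y', x * y = y * x
  pgroup : IsPGroup p (D.X ⊔ Y ⊔ Y' : Subgroup G)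
  nonabel : ∃ y ∈ Y, ∃ z ∈ Y', y * z ≠ z * y

variable {p : ℕ} {a' : G} {Y Y' : Subgroup G}

theorem Triangle.inter_t (T : D.Triangle p a a' Y Y') [CharP F p] (hp : p.Prime) {y : G}
    (hy : y ∈ Y) (hyt : y * D.t = D.t * y) : y = 1 :=
  by
  have hya := mem_centralizer_singleton_iff.1 (RootAt.le_cent D T.atY hy)
  have ha := T.memT.1
  obtain ⟨n, hna, hn, hY⟩ := T.atY
  rw [hY] at hy
  obtain ⟨x, hx, rfl⟩ := hy
  set v := n⁻¹ * D.t * n with hv
  have hvT : v ∈ D.T := by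
    simpa using (mem_normalizer_iff.1 (inv_mem (Coprime.mem_normalizer_of_forall hn)) D.t).1 D.t_mem
  have hxv : x * v = v * x := by
    have e : n * x * n⁻¹ * D.t = D.t * (n * x * n⁻¹) := hyt
    calc x * v = n⁻¹ * (n * x * n⁻¹ * D.t) * n := by rw [hv]; group
      _ = v * x := by rw [e, hv]; group
  have hxt := mem_centralizer_singleton_iff.1 (D.X_le_centralizer hx)
  have hv2 : v * v = 1 := by
    calc v * v = n⁻¹ * (D.t * D.t) * n := by rw [hv]; group
      _ = 1 := by rw [D.t_sq]; group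
  have hxu : x * D.u = D.u * x := by
    rcases D.T_invol hvT hv2 with h | h | h | h
    · refine absurd ?_ D.t_ne_one
      calc D.t = n * v * n⁻¹ := by rw [hv]; group
        _ = 1 := by rw [h]; group
    · exfalso
      have h' : n * D.t * n⁻¹ = D.t := by
        calc n * D.t * n⁻¹ = n * v * n⁻¹ := by rw [h]
          _ = D.t := by rw [hv]; group
      rw [hna] at h'
      obtain ⟨y, hy, z, -, hyz⟩ := T.nonabel
      obtain ⟨m, hma', -, -⟩ := T.atY'
      refine D.t_ne_one ?_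
      have h1 : a' = 1 := by simpa [h'] using T.prod
      calc D.t = m⁻¹ * a' * m := by rw [← hma']; group
        _ = 1 := by rw [h1]; group
    · rwa [h] at hxv
    · rw [h] at hxv
      calc x * D.u = D.t * (x * (D.t * D.u)) := by
            rw [← mul_assoc x, hxt, ← mul_assoc, ← mul_assoc, D.t_sq, one_mul]
        _ = D.u * x := by rw [hxv, ← mul_assoc, ← mul_assoc, D.t_sq, one_mul]
  obtain ⟨c, hc⟩ := D.mem_X.1 hx
  have hx1 := D.T_inter_pGroup hp (D.X_pGroup hp) hx (D.mem_T_of ⟨_, hc⟩ hxu)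
  rw [hx1, map_one]

theorem Triangle.T_normal_P (T : D.Triangle p a a' Y Y') {g x : G} (hg : g ∈ D.T)
    (hx : x ∈ D.X ⊔ Y ⊔ Y') : g * x * g⁻¹ ∈ D.X ⊔ Y ⊔ Y' := by
  have hle : D.X ⊔ Y ⊔ Y' ≤ (D.X ⊔ Y ⊔ Y').comap (MulAut.conj g).toMonoidHom :=
    sup_le (sup_le (fun y hy => le_sup_left (b := Y') (le_sup_left (b := Y) (D.T_normal_X hg hy)))
      (fun y hy => le_sup_left (b := Y') (le_sup_right (a := D.X) (RootAt.T_normal D T.atY hg hy))))
      (fun y hy => le_sup_right (a := D.X ⊔ Y) (RootAt.T_normal D T.atY' hg hy))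
  exact hle hx

theorem Triangle.central (T : D.Triangle p a a' Y Y') {x y : G} (hx : x ∈ D.X)
    (hy : y ∈ D.X ⊔ Y ⊔ Y') : x * y = y * x := by
  have hle : D.X ⊔ Y ⊔ Y' ≤ centralizer ({x} : Set G) :=
    sup_le (sup_le (fun y hy => mem_centralizer_singleton_iff.2 (D.X_comm hy hx))
      (fun y hy => mem_centralizer_singleton_iff.2 (T.commX x hx y hy).symm))
      (fun y hy => mem_centralizer_singleton_iff.2 (T.commX' x hx y hy).symm)
  exact (mem_centralizer_singleton_iff.1 (hle hy)).symm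

/-- Commutators of the `p`-group lie in `X`. -/
theorem Triangle.comm_mem (T : D.Triangle p a a' Y Y') [CharP F p] (hp : p.Prime) {y z : G}
    (hy : y ∈ D.X ⊔ Y ⊔ Y') (hz : z ∈ D.X ⊔ Y ⊔ Y') : ⁅y, z⁆ ∈ D.X := by
  set P := D.X ⊔ Y ⊔ Y' with hP
  have hXP : D.X ≤ P := le_sup_left.trans le_sup_left
  have htP : ∀ x ∈ P, D.t * x * D.t⁻¹ ∈ P := fun x hx => T.T_normal_P D D.t_mem hx
  -- the centraliser of `t` in `P`
  have hC : P ⊓ centralizer ({D.t} : Set G) ≤ D.X := by
    have hu : ∀ x ∈ P ⊓ centralizer ({D.t} : Set G),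
        D.u * x * D.u⁻¹ ∈ P ⊓ centralizer ({D.t} : Set G) := by
      rintro x ⟨hx, hxt⟩
      have hu' : D.u ∈ centralizer ({D.t} : Set G) :=
        mem_centralizer_singleton_iff.2 D.t_comm_u.symm
      exact ⟨T.T_normal_P D D.u_mem hx, (centralizer ({D.t} : Set G)).mul_mem
        ((centralizer ({D.t} : Set G)).mul_mem hu' hxt) ((centralizer ({D.t} : Set G)).inv_mem hu')⟩
    refine (D.root_cases_of hp (T.pgroup.to_le inf_le_left) inf_le_right hu fun x hx _ =>
      MonoidHom.mem_range.1 (D.cent_X x hx.2 fun a =>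
        (T.central D (D.mem_X.2 ⟨a, rfl⟩) hx.1).symm)).resolve_right fun h => ?_
    obtain ⟨x, hx, hx1⟩ := D.exists_ne_one_X
    exact hx1 (D.X_inter_X' hx (h ⟨hXP hx, D.X_le_centralizer hx⟩))
  let f : P →* P :=
    { toFun := fun x => ⟨D.t * x * D.t⁻¹, htP x x.2⟩
      map_one' := Subtype.ext (by simp)
      map_mul' := fun x y => Subtype.ext (by simp [mul_assoc]) }
  have hf2 : ∀ x, f (f x) = x := fun x => Subtype.ext (by
    show D.t * (D.t * x * D.t⁻¹) * D.t⁻¹ = (x : G)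
    calc D.t * (D.t * x * D.t⁻¹) * D.t⁻¹ = D.t * D.t * x * (D.t * D.t)⁻¹ := by group
      _ = x := by rw [D.t_sq]; simp)
  set N := D.X.subgroupOf P
  haveI : N.Normal := ⟨fun x hx y => by
    rw [mem_subgroupOf] at hx ⊢
    have := T.central D hx y.2
    push_cast
    rwa [← this, mul_inv_cancel_right]⟩
  have hfN : N ≤ N.comap f := fun x hx => by
    rw [mem_comap, mem_subgroupOf]
    exact D.T_normal_X D.t_mem hx
  let f' : P ⧸ N →* P ⧸ N := QuotientGroup.map N N f hfN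
  have hodd : Odd (Nat.card N) := by
    haveI := Fact.mk hp
    rw [Nat.card_congr (subgroupOfEquivOfLe hXP).toEquiv, D.card_X]
    obtain ⟨n, -, hn⟩ := FiniteField.card F p
    rw [hn]
    refine Odd.pow ?_
    rcases hp.eq_two_or_odd' with h2 | h2
    · subst h2
      exact absurd (CharP.cast_eq_zero F 2) (by exact_mod_cast D.two_ne)
    · exact h2
  have hinv := InvolutionEigen.inverts_of_fpf f' (fun x => by
      obtain ⟨x, rfl⟩ := QuotientGroup.mk_surjective x
      exact congrArg _ (hf2 x))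
    (fun x hx => by
      obtain ⟨x, rfl⟩ := QuotientGroup.mk_surjective x
      have hxx : x⁻¹ * f x ∈ N := QuotientGroup.eq.1 hx.symm
      obtain ⟨c, hc, hxc⟩ := InvolutionEigen.exists_fixed_lift f hf2 N hfN hodd hxx
      have hcX : (c : G) ∈ D.X := hC ⟨c.2, mem_centralizer_singleton_iff.2 (by
        have : D.t * (c : G) * D.t⁻¹ = c := congrArg Subtype.val hc
        exact (mul_inv_eq_iff_eq_mul.1 this).symm)⟩
      refine (QuotientGroup.eq_one_iff x).2 ?_
      have h := N.mul_mem (show c ∈ N from hcX) (N.inv_mem hxc)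
      simpa using h)
  have hcomm : (QuotientGroup.mk' N ⟨y, hy⟩) * QuotientGroup.mk' N ⟨z, hz⟩ =
      QuotientGroup.mk' N ⟨z, hz⟩ * QuotientGroup.mk' N ⟨y, hy⟩ := by
    have h := hinv (QuotientGroup.mk' N ⟨y, hy⟩ * QuotientGroup.mk' N ⟨z, hz⟩)
    rw [map_mul, hinv, hinv, mul_inv_rev] at h
    calc _ = ((QuotientGroup.mk' N ⟨z, hz⟩)⁻¹ * (QuotientGroup.mk' N ⟨y, hy⟩)⁻¹)⁻¹ := by group
      _ = _ := by rw [← h]; group
  have h1 : QuotientGroup.mk' N ⁅(⟨y, hy⟩ : P), ⟨z, hz⟩⁆ = 1 := by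
    rw [map_commutatorElement, commutatorElement_eq_one_iff_mul_comm]; exact hcomm
  exact (QuotientGroup.eq_one_iff (N := N) ⁅(⟨y, hy⟩ : P), ⟨z, hz⟩⁆).1 h1

/-- The conjugate configuration. -/
theorem Triangle.side (T : D.Triangle p a a' Y Y') [CharP F p] (hp : p.Prime) :
    (∀ y ∈ Y, ∀ z ∈ Y, y * cj D.φ wS z = cj D.φ wS z * y) ∧
      ∀ (b : F), ∀ y ∈ Y, ⁅D.φ (uS b), cj D.φ wS y⁆ ∈ Y := by
  obtain ⟨n, hna, hn, hYn⟩ := T.atY
  set c := (MulAut.conj n).toMonoidHom with hc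
  set Q := (D.X ⊔ Y ⊔ Y').map c with hQ
  have hPQ : ∀ x ∈ D.X ⊔ Y ⊔ Y', n * x * n⁻¹ ∈ Q := fun x hx => ⟨x, hx, rfl⟩
  have hQY : ∀ x ∈ Q, ∀ z ∈ Q, ⁅x, z⁆ ∈ Y := by
    rintro _ ⟨x, hx, rfl⟩ _ ⟨z, hz, rfl⟩
    rw [← map_commutatorElement, hYn]
    exact ⟨_, T.comm_mem D hp hx hz, rfl⟩
  have hYcent : ∀ y ∈ Y, ∀ x ∈ Q, y * x = x * y := by
    intro y hy
    rw [hYn] at hy
    obtain ⟨y, hy, rfl⟩ := hy
    rintro _ ⟨x, hx, rfl⟩
    rw [← map_mul, ← map_mul, T.central D hy hx]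
  have hQT : ∀ g ∈ D.T, ∀ R : Subgroup G, (∀ h ∈ D.T, ∀ x ∈ R, h * x * h⁻¹ ∈ R) →
      ∀ x ∈ R.map c, g * x * g⁻¹ ∈ R.map c := by
    intro g hg R hR x hx
    obtain ⟨x, hx, rfl⟩ := hx
    have hnN : n⁻¹ ∈ normalizer (D.T : Set G) := inv_mem (Coprime.mem_normalizer_of_forall hn)
    refine ⟨(n⁻¹ * g * n) * x * (n⁻¹ * g * n)⁻¹, hR _ ?_ _ hx, ?_⟩
    · simpa using (mem_normalizer_iff.1 hnN g).1 hg
    · show n * _ * n⁻¹ = g * (n * x * n⁻¹) * g⁻¹
      group
  -- the images of the two pieces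
  have himg : ∀ (b : G) (R : Subgroup G), D.RootAt b R → R.map c ≤ centralizer ({n * b * n⁻¹} : Set G) := by
    rintro b R hR _ ⟨x, hx, rfl⟩
    refine mem_centralizer_singleton_iff.2 ?_
    have := mem_centralizer_singleton_iff.1 (RootAt.le_cent D hR hx)
    show n * x * n⁻¹ * (n * b * n⁻¹) = _
    calc n * x * n⁻¹ * (n * b * n⁻¹) = n * (x * b) * n⁻¹ := by group
      _ = n * b * n⁻¹ * (n * x * n⁻¹) := by rw [this]; group
  have ha2 : ∀ b ∈ D.T, b * b = 1 → b = 1 ∨ b = D.t ∨ b = D.u ∨ b = D.t * D.u :=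
    fun b hb h => D.T_invol hb h
  have haa : a * a = 1 := by
    rw [← hna]
    calc n * D.t * n⁻¹ * (n * D.t * n⁻¹) = n * (D.t * D.t) * n⁻¹ := by group
      _ = 1 := by rw [D.t_sq]; group
  obtain ⟨m, hma', -, -⟩ := T.atY'
  have ha'a' : a' * a' = 1 := by
    rw [← hma']
    calc m * D.t * m⁻¹ * (m * D.t * m⁻¹) = m * (D.t * D.t) * m⁻¹ := by group
      _ = 1 := by rw [D.t_sq]; group
  have hat : a ≠ D.t := fun h => by
    obtain ⟨y, hy, z, -, hyz⟩ := T.nonabel
    refine hyz ?_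
    have hy1 := T.inter_t D hp hy (h ▸ mem_centralizer_singleton_iff.1 (RootAt.le_cent D T.atY hy))
    rw [hy1, one_mul, mul_one]
  have ha'1 : a' ≠ 1 := fun h => hat (by rw [← T.prod, h, mul_one])
  have ha't : a' ≠ D.t := fun h => by
    have := T.prod
    rw [h] at this
    have ha1 : a = 1 := by simpa using this
    refine D.t_ne_one ?_
    calc D.t = n⁻¹ * a * n := by rw [← hna]; group
      _ = 1 := by rw [ha1]; group
  -- one of the images lies in `C(t)`, the other in `C(a')`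
  have hcase : (n * a * n⁻¹ = a' ∧ n * a' * n⁻¹ = D.t) ∨
      (n * a * n⁻¹ = D.t ∧ n * a' * n⁻¹ = a') := by
    have hprod : n * a * n⁻¹ * (n * a' * n⁻¹) = a := by
      calc _ = n * (a * a') * n⁻¹ := by group
        _ = a := by rw [T.prod, hna]
    have hb : (n * a' * n⁻¹) * (n * a' * n⁻¹) = 1 := by
      calc _ = n * (a' * a') * n⁻¹ := by group
        _ = 1 := by rw [ha'a']; group
    have hb1 : n * a' * n⁻¹ ≠ 1 := fun h => ha'1 (by
      calc a' = n⁻¹ * (n * a' * n⁻¹) * n := by group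
        _ = 1 := by rw [h]; group)
    have hba : n * a' * n⁻¹ ≠ a := fun h => ha't (by
      rw [← hna] at h
      exact mul_left_cancel (mul_right_cancel h))
    have haeq : a' = a * D.t := by
      rw [← T.prod, ← mul_assoc, haa, one_mul]
    have hmem := ha2 _ (hn _ T.memT.2) hb
    have hlist : n * a' * n⁻¹ = D.t ∨ n * a' * n⁻¹ = a' := by
      rcases ha2 a T.memT.1 haa with h | h | h | h
      · exact absurd (by rw [h, one_mul] at haeq; exact haeq) ha't
      · exact absurd h hat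
      · rcases hmem with h' | h' | h' | h'
        · exact absurd h' hb1
        · exact Or.inl h'
        · exact absurd (h'.trans h.symm) hba
        · exact Or.inr (by rw [h', haeq, h, D.t_comm_u])
      · rcases hmem with h' | h' | h' | h'
        · exact absurd h' hb1
        · exact Or.inl h'
        · exact Or.inr (by rw [h', haeq, h, D.t_comm_u, mul_assoc, D.t_sq, mul_one])
        · exact absurd (h'.trans h.symm) hba
    rcases hlist with h | h
    · refine Or.inl ⟨?_, h⟩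
      rw [h] at hprod
      rw [← mul_left_inj D.t, hprod, haeq, mul_assoc, D.t_sq, mul_one]
    · refine Or.inr ⟨?_, h⟩
      rw [h] at hprod
      have hta : D.t * a = a * D.t := D.T_comm D.t_mem T.memT.1
      rw [← mul_left_inj a', hprod, haeq, ← mul_assoc, hta, mul_assoc, D.t_sq, mul_one]
  obtain ⟨A, B, hA, hB, hAQ, hBQ⟩ : ∃ A B : Subgroup G,
      (IsPGroup p A ∧ Nat.card A = Fintype.card F ∧ A ≤ centralizer ({D.t} : Set G) ∧
        ∀ g ∈ D.T, ∀ x ∈ A, g * x * g⁻¹ ∈ A) ∧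
      (IsPGroup p B ∧ Nat.card B = Fintype.card F ∧ B ≤ centralizer ({a'} : Set G) ∧
        ∀ g ∈ D.T, ∀ x ∈ B, g * x * g⁻¹ ∈ B) ∧ A ≤ Q ∧ B ≤ Q := by
    have hYQ : Y.map c ≤ Q := map_mono (le_sup_right.trans le_sup_left)
    have hY'Q : Y'.map c ≤ Q := map_mono le_sup_right
    have e1 : Nat.card (Y.map c) = Fintype.card F := by
      rw [hc, card_map_of_injective (MulAut.conj n).injective, RootAt.card_eq D T.atY]
    have e2 : Nat.card (Y'.map c) = Fintype.card F := by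
      rw [hc, card_map_of_injective (MulAut.conj n).injective, RootAt.card_eq D T.atY']
    have t1 := fun g hg => hQT g hg Y fun h hh x hx => RootAt.T_normal D T.atY hh hx
    have t2 := fun g hg => hQT g hg Y' fun h hh x hx => RootAt.T_normal D T.atY' hh hx
    rcases hcase with ⟨h1, h2⟩ | ⟨h1, h2⟩
    · exact ⟨Y'.map c, Y.map c, ⟨(RootAt.pGroup D hp T.atY').map c, e2, h2 ▸ himg _ _ T.atY', t2⟩,
        ⟨(RootAt.pGroup D hp T.atY).map c, e1, h1 ▸ himg _ _ T.atY, t1⟩, hY'Q, hYQ⟩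
    · exact ⟨Y.map c, Y'.map c, ⟨(RootAt.pGroup D hp T.atY).map c, e1, h1 ▸ himg _ _ T.atY, t1⟩,
        ⟨(RootAt.pGroup D hp T.atY').map c, e2, h2 ▸ himg _ _ T.atY', t2⟩, hYQ, hY'Q⟩
  have hXQ : D.X ≤ Q := by
    refine le_trans ?_ hAQ
    rcases D.root_cases_of hp hA.1 hA.2.2.1 (fun x hx => hA.2.2.2 _ D.u_mem x hx)
      (D.fixed_mem hp hA.1 hA.2.2.1 hA.2.2.2) with h | h
    · exact (Subgroup.eq_of_le_of_card_ge h (by rw [D.card_X, hA.2.1])).ge
    · exfalso
      have hX'Q : D.X' ≤ Q := (Subgroup.eq_of_le_of_card_ge h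
        (by rw [X', card_map_of_injective (MulAut.conj D.w).injective, D.card_X, hA.2.1])).ge.trans hAQ
      obtain ⟨y, hy, z, -, hyz⟩ := T.nonabel
      have hall : ∀ g, D.φ g * y = y * D.φ g := by
        intro g
        induction g using Matrix.SL2.transvection_induction with
        | htransvec i j hij b =>
          fin_cases i <;> fin_cases j
          · exact absurd rfl hij
          · have e : Matrix.SpecialLinearGroup.transvection hij b = (uS b : Matrix.SpecialLinearGroup (Fin 2) F) := by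
              apply Subtype.ext; ext i j; fin_cases i <;> fin_cases j <;>
                simp [uS, Matrix.SpecialLinearGroup.transvection, Matrix.transvection]
            exact e ▸ T.commX _ (D.mem_X.2 ⟨b, rfl⟩) y hy
          · have e : Matrix.SpecialLinearGroup.transvection hij b = (vS b : Matrix.SpecialLinearGroup (Fin 2) F) := by
              apply Subtype.ext; ext i j; fin_cases i <;> fin_cases j <;>
                simp [vS, Matrix.SpecialLinearGroup.transvection, Matrix.transvection]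
            exact e ▸ (hYcent y hy _ (hX'Q (D.mem_X'.2 ⟨b, rfl⟩))).symm
          · exact absurd rfl hij
        | hmul x x' hx hx' =>
          rw [map_mul, mul_assoc, hx', ← mul_assoc, hx, mul_assoc]
      have := hall (hS (-1))
      rw [D.φ_neg] at this
      refine hyz ?_
      rw [T.inter_t D hp hy this.symm, one_mul, mul_one]
  have hWQ : ∀ y ∈ Y, cj D.φ wS y ∈ Q := by
    set WY := Y.map (MulAut.conj D.w).toMonoidHom with hWY
    have hw2 : D.w * D.w = D.t := by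
      rw [w, ← map_mul, wS_sq, D.φ_neg]
    obtain ⟨R', hR'⟩ := RootAt.cases D hp T.atY'
    have hwN : ∀ g ∈ D.T, D.w⁻¹ * g * D.w ∈ D.T := by
      rintro g ⟨⟨b, b'⟩, rfl⟩
      refine ⟨(b', b), ?_⟩
      rw [MonoidHom.comp_apply, MonoidHom.comp_apply, mul_assoc, eq_inv_mul_iff_mul_eq, w, φ_apply,
        ← map_mul, ← map_mul]
      congr 1
      apply mG_ext
      rw [mG_mul, mG_mul, mG_iG, mG_dG, mG_dG]
      ext i j; fin_cases i <;> fin_cases j <;>
        simp [wS, Matrix.mul_apply, Fin.sum_univ_two]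
    have hWYc : WY ≤ centralizer ({a'} : Set G) := by
      rintro _ ⟨y, hy, rfl⟩
      refine mem_centralizer_singleton_iff.2 ?_
      have h := mem_centralizer_singleton_iff.1 (RootAt.le_cent D T.atY hy)
      rw [← T.swap.1]
      show D.w * y * D.w⁻¹ * (D.w * a * D.w⁻¹) = _
      calc D.w * y * D.w⁻¹ * (D.w * a * D.w⁻¹) = D.w * (y * a) * D.w⁻¹ := by group
        _ = D.w * a * D.w⁻¹ * (D.w * y * D.w⁻¹) := by rw [h]; group
    have hWYT : ∀ g ∈ D.T, ∀ x ∈ WY, g * x * g⁻¹ ∈ WY := by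
      rintro g hg _ ⟨y, hy, rfl⟩
      refine ⟨_, RootAt.T_normal D T.atY (hwN g hg) hy, ?_⟩
      show D.w * _ * D.w⁻¹ = g * (D.w * y * D.w⁻¹) * g⁻¹
      group
    have hne : WY ≠ Y' := by
      intro he
      obtain ⟨y, hy, z, hz, hyz⟩ := T.nonabel
      have hz2 : D.w * z * D.w⁻¹ ∈ Y := by
        rw [← he] at hz
        obtain ⟨y', hy', rfl⟩ := hz
        have := RootAt.T_normal D T.atY D.t_mem hy'
        rw [← hw2] at this
        show D.w * (D.w * y' * D.w⁻¹) * D.w⁻¹ ∈ Y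
        convert this using 1; group
      have hy2 : D.w * y * D.w⁻¹ ∈ Y' := he ▸ ⟨y, hy, rfl⟩
      have h1 : ⁅D.w * y * D.w⁻¹, D.w * z * D.w⁻¹⁆ ∈ D.X :=
        T.comm_mem D hp (le_sup_right (a := D.X ⊔ Y) hy2)
          (le_sup_left (b := Y') (le_sup_right (a := D.X) hz2))
      have h2 : ⁅D.w * y * D.w⁻¹, D.w * z * D.w⁻¹⁆ ∈ D.X' :=
        ⟨⁅y, z⁆, T.comm_mem D hp (le_sup_left (b := Y') (le_sup_right (a := D.X) hy))
          (le_sup_right (a := D.X ⊔ Y) hz), map_commutatorElement _ _ _⟩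
      have h := D.X_inter_X' h1 h2
      rw [commutatorElement_eq_one_iff_mul_comm] at h
      refine hyz (mul_left_cancel (a := D.w) (mul_right_cancel (b := D.w⁻¹) ?_))
      calc D.w * (y * z) * D.w⁻¹ = (D.w * y * D.w⁻¹) * (D.w * z * D.w⁻¹) := by group
        _ = D.w * (z * y) * D.w⁻¹ := by rw [h]; group
    have hWcard : Nat.card WY = Fintype.card F := by
      rw [hWY, card_map_of_injective (MulAut.conj D.w).injective, RootAt.card_eq D T.atY]
    have hW' := (hR' WY ((RootAt.pGroup D hp T.atY).map _) hWcard hWYc hWYT).resolve_left hne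
    have hBne : B ≠ Y' := by
      intro he
      obtain ⟨y, hy, z, hz, hyz⟩ := T.nonabel
      exact hyz (hYcent y hy z (hBQ (he ▸ hz)))
    have hB' := (hR' B hB.1 hB.2.1 hB.2.2.1 hB.2.2.2).resolve_left hBne
    intro y hy
    have : D.w * y * D.w⁻¹ ∈ WY := ⟨y, hy, rfl⟩
    rw [hW', ← hB'] at this
    exact hBQ this
  exact ⟨fun y hy z hz => hYcent y hy _ (hWQ z hz),
    fun b y hy => hQY _ (hXQ (D.mem_X.2 ⟨b, rfl⟩)) _ (hWQ y hy)⟩

/-- A root group of the triangle is a module line. -/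
theorem Triangle.modData (T : D.Triangle p a a' Y Y') [CharP F p] (hp : p.Prime) :
    ModData D.φ Y where
  abel y hy z hz := RootAt.comm D T.atY hy hz
  cent b y hy := T.commX _ (D.mem_X.2 ⟨b, rfl⟩) y hy
  torus b y hy := by
    refine RootAt.T_normal D T.atY ⟨(b, b⁻¹), ?_⟩ hy
    rw [MonoidHom.comp_apply, φ_apply]
    congr 1
    apply mG_ext
    rw [mG_dG, mG_iG]
    ext i j; fin_cases i <;> fin_cases j <;> simp [hS]
  disj y hy hy' := by
    have hwt : D.w * D.t = D.t * D.w := D.comm_t _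
    have hy1 := mem_centralizer_singleton_iff.1 (RootAt.le_cent D T.atY hy)
    have hy2 := mem_centralizer_singleton_iff.1 (RootAt.le_cent D T.atY hy')
    have h1 : cj D.φ wS y = D.w * y * D.w⁻¹ := rfl
    rw [h1] at hy2
    have hya' : y * a' = a' * y := by
      have hwa : D.w⁻¹ * a * D.w = a' := by
        calc D.w⁻¹ * a * D.w = D.w⁻¹ * (D.w * a' * D.w⁻¹) * D.w := by rw [T.swap.2]
          _ = a' := by group
      rw [← hwa]
      calc y * (D.w⁻¹ * a * D.w) = D.w⁻¹ * ((D.w * y * D.w⁻¹) * a) * D.w := by group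
        _ = D.w⁻¹ * (a * (D.w * y * D.w⁻¹)) * D.w := by
            rw [hy2]
        _ = _ := by group
    refine T.inter_t D hp hy ?_
    rw [← T.prod, ← mul_assoc, hy1, mul_assoc, hya', mul_assoc]
  wcomm := (T.side D hp).1
  shift := (T.side D hp).2

/-- The good case. -/
theorem equiv_psl_of_roots [IsSimpleGroup G] {p : ℕ} [CharP F p] (hp : p.Prime) {Y Y' : Subgroup G}
    (hY : D.RootAt (D.t * D.u) Y) (hY' : D.RootAt D.u Y')
    (hX : ∀ x ∈ D.X, ∀ y ∈ Y, x * y = y * x) (hX' : ∀ x ∈ D.X, ∀ y ∈ Y', x * y = y * x)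
    (hP : IsPGroup p (D.X ⊔ Y ⊔ Y' : Subgroup G)) (hne : ∃ y ∈ Y, ∃ z ∈ Y', y * z ≠ z * y) :
    Nonempty (G ≃* Matrix.ProjectiveSpecialLinearGroup (Fin 3) F) := by
  have hwu : D.w * D.u * D.w⁻¹ = D.t * D.u := by
    rw [mul_inv_eq_iff_eq_mul, w, u, φ_apply, ← D.π_neg, ← map_mul, ← map_mul, ← map_mul, ← map_mul]
    congr 1
    apply mG_ext
    rw [mG_mul, mG_mul, mG_iG, mG_dG, Prod.mk_mul_mk, mG_dG]
    ext i j; fin_cases i <;> fin_cases j <;> simp [wS, Matrix.mul_apply, Fin.sum_univ_two]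
  have hwtu : D.w * (D.t * D.u) * D.w⁻¹ = D.u := by
    have hwt : D.w * D.t = D.t * D.w := D.comm_t _
    calc D.w * (D.t * D.u) * D.w⁻¹ = (D.w * D.t) * D.u * D.w⁻¹ := by group
      _ = D.t * (D.w * D.u * D.w⁻¹) := by rw [hwt]; group
      _ = D.u := by rw [hwu, ← mul_assoc, D.t_sq, one_mul]
  have T1 : D.Triangle p (D.t * D.u) D.u Y Y' :=
    { atY := hY
      atY' := hY'
      prod := by rw [mul_assoc, D.u_sq, mul_one]
      memT := ⟨mul_mem D.t_mem D.u_mem, D.u_mem⟩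
      swap := ⟨hwtu, hwu⟩
      commX := hX
      commX' := hX'
      pgroup := hP
      nonabel := hne }
  have T2 : D.Triangle p D.u (D.t * D.u) Y' Y :=
    { atY := hY'
      atY' := hY
      prod := by rw [D.t_comm_u, ← mul_assoc, D.u_sq, one_mul]
      memT := ⟨D.u_mem, mul_mem D.t_mem D.u_mem⟩
      swap := ⟨hwu, hwtu⟩
      commX := hX'
      commX' := hX
      pgroup := by rwa [sup_assoc, sup_comm Y', ← sup_assoc]
      nonabel := by
        obtain ⟨y, hy, z, hz, h⟩ := hne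
        exact ⟨z, hz, y, hy, fun e => h e.symm⟩ }
  refine GoodData.equiv_psl (φ := D.φ) (t := D.t) (Y := Y) (Y' := Y')
    (T := centralizer ({D.t, D.u} : Set G))
    ⟨⟨T1.modData D hp, T2.modData D hp, RootAt.card_eq D hY, RootAt.card_eq D hY',
      fun b => D.φ_inj_root, ?_, hne, D.two_ne⟩, D.orderOf_t, D.φ_neg, D.cent_le_sup,
      fun x hx y hy => D.cent_pair_range hx hy, fun x hx y hy => RootAt.cent_pair_normal D hY hx hy,
      fun x hx y hy => RootAt.cent_pair_normal D hY' hx hy, D.exists_sylow, D.oneClass⟩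
  intro y hy z hz
  obtain ⟨c, hc⟩ := D.mem_X.1 (T1.comm_mem D hp (le_sup_left (b := Y') (le_sup_right (a := D.X) hy))
    (le_sup_right (a := D.X ⊔ Y) hz))
  exact ⟨c, hc.symm⟩

end LData

end Cfsg.Agent.LThreeRec
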