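import Cfsg.Agent.Lib.LThreeRec.Local
import Cfsg.Agent.Lib.LThreeRec.Arith
import Cfsg.Agent.Lib.Coprime.Invariant
import Cfsg.Agent.Lib.Coprime.Factorization

/-!
# The case `Xp` commutes with `σ Xm σ⁻¹` but not with `σ² Xm σ⁻²` (helper60, S0484)

* `HalfHyp.E` : the product of the two commuting root groups, a Sylow `p`-subgroup;
* `Hyp.false_of_half` : this case does not occur.
-/

set_option autoImplicit false
set_option linter.unusedSectionVars false
set_option linter.style.haveILetI false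

namespace Cfsg.Agent.LThreeRec

open Subgroup
open scoped Pointwise

namespace Hyp

variable {F : Type*} [Field F] [Fintype F] {G : Type*} [Group G] [Finite G] [IsSimpleGroup G]
  (H : Hyp F G)

/-- The configuration. -/
structure HalfHyp (σ : G) : Prop where
  map_t : σ * H.t * σ⁻¹ = H.s
  map_s : σ * H.s * σ⁻¹ = H.t * H.s
  pos : ¬ Comm H.Xp (H.conj σ).Xp
  negOne : Comm H.Xp (H.conj σ).Xm
  negTwo : ¬ Comm H.Xp (H.conj (σ * σ)).Xm

/-- The product of the two commuting root groups. -/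
noncomputable def halfE (σ : G) : Subgroup G := H.Xp ⊔ (H.conj σ).Xm

variable {H} {σ : G} [H.Exact]

theorem HalfHyp.negTwo' (h : H.HalfHyp σ) : ¬ Comm H.Xp (H.conj (σ * σ)).Xp :=
  fun e => h.pos ((H.pos_iff h.map_t h.map_s).2 e)

theorem HalfHyp.conj_T (h : H.HalfHyp σ) : (H.conj σ).T = H.T := H.conjT h.map_t h.map_s

theorem HalfHyp.T_norm_A (h : H.HalfHyp σ) {τ a : G} (hτ : τ ∈ H.T) (ha : a ∈ (H.conj σ).Xm) :
    τ * a * τ⁻¹ ∈ (H.conj σ).Xm := by
  rw [← (H.conj σ).dual_Xp] at ha ⊢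
  exact (H.conj σ).dual.T_norm (by rw [(H.conj σ).dual_T, h.conj_T]; exact hτ) ha

theorem HalfHyp.t_inv_A (h : H.HalfHyp σ) {a : G} (ha : a ∈ (H.conj σ).Xm) :
    H.t * a * H.t⁻¹ = a⁻¹ ∧ H.t * H.s * a * (H.t * H.s)⁻¹ = a⁻¹ ∧ a * H.s = H.s * a := by
  have hs : a * H.s = H.s * a := by
    have := mem_centralizer_singleton_iff.1 ((H.conj σ).Xm_le ha)
    rwa [H.conj_t_eq h.map_t h.map_s] at this
  have hts : H.t * H.s * a * (H.t * H.s)⁻¹ = a⁻¹ := by
    have := (H.conj σ).dual.s_inv (x := a) (by rw [(H.conj σ).dual_Xp]; exact ha)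
    rwa [(H.conj σ).dual_s, H.conj_s_eq h.map_t h.map_s] at this
  refine ⟨?_, hts, hs⟩
  calc H.t * a * H.t⁻¹ = H.t * (H.s * a * H.s⁻¹) * H.t⁻¹ := by rw [← hs, mul_inv_cancel_right]
    _ = H.t * H.s * a * (H.t * H.s)⁻¹ := by group
    _ = a⁻¹ := hts

theorem t_fix {x : G} (hx : x ∈ H.Xp) : H.t * x * H.t⁻¹ = x := by
  rw [← mem_centralizer_singleton_iff.1 (H.Xp_le hx), mul_inv_cancel_right]

theorem ts_inv {x : G} (hx : x ∈ H.Xp) : H.t * H.s * x * (H.t * H.s)⁻¹ = x⁻¹ := by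
  calc _ = H.t * (H.s * x * H.s⁻¹) * H.t⁻¹ := by group
    _ = x⁻¹ := by rw [H.s_inv hx, t_fix (inv_mem hx)]

theorem HalfHyp.exists_decomp (h : H.HalfHyp σ) {e : G} (he : e ∈ H.halfE σ) :
    ∃ x ∈ H.Xp, ∃ a ∈ (H.conj σ).Xm, x * a = e := by
  refine (Coprime.mem_sup_iff (fun a ha => Coprime.mem_normalizer_of_forall fun x hx => ?_)).1 he
  rw [← h.negOne x hx a ha, mul_inv_cancel_right]
  exact hx

theorem HalfHyp.ts_inv_E (h : H.HalfHyp σ) {e : G} (he : e ∈ H.halfE σ) :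
    H.t * H.s * e * (H.t * H.s)⁻¹ = e⁻¹ := by
  obtain ⟨x, hx, a, ha, rfl⟩ := h.exists_decomp he
  calc _ = (H.t * H.s * x * (H.t * H.s)⁻¹) * (H.t * H.s * a * (H.t * H.s)⁻¹) := by group
    _ = (x * a)⁻¹ := by
      rw [ts_inv hx, (h.t_inv_A ha).2.1, h.negOne x hx a ha, mul_inv_rev]

theorem HalfHyp.T_norm_E (h : H.HalfHyp σ) : H.T ≤ normalizer (H.halfE σ : Set G) := fun τ hτ =>
  Coprime.mem_normalizer_of_forall fun e he => by
    obtain ⟨x, hx, a, ha, rfl⟩ := h.exists_decomp he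
    rw [show τ * (x * a) * τ⁻¹ = (τ * x * τ⁻¹) * (τ * a * τ⁻¹) by group]
    exact mul_mem_sup (H.T_norm hτ hx) (h.T_norm_A hτ ha)

theorem HalfHyp.card_E (h : H.HalfHyp σ) {p : ℕ} [CharP F p] (hp : p.Prime) :
    Nat.card (H.halfE σ) = Fintype.card F ^ 2 := by
  have hdisj : H.Xp ⊓ (H.conj σ).Xm = ⊥ := by
    refine (eq_bot_iff_forall _).2 fun y hy => ?_
    have e := (h.t_inv_A hy.2).1
    rw [t_fix hy.1] at e
    have h2 : y * y = 1 := by
      nth_rewrite 1 [e]; rw [inv_mul_cancel]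
    have hd : orderOf y ∣ Fintype.card F := by
      rw [← H.card_Xp, ← Subgroup.orderOf_mk y hy.1]; exact orderOf_dvd_natCard _
    obtain ⟨n, -, hn⟩ := FiniteField.card F p
    refine orderOf_eq_one_iff.1 (Nat.eq_one_of_dvd_coprimes (a := 2) (b := Fintype.card F) ?_
      (orderOf_dvd_of_pow_eq_one (show y ^ 2 = 1 by rw [sq, h2])) hd)
    rw [hn]
    exact (Nat.coprime_two_left.2 ((H.odd_p hp).pow))
  have hc := Coprime.card_mul_inf H.Xp (H.conj σ).Xm
  rw [hdisj, Subgroup.card_bot, mul_one, H.card_Xp, (H.conj σ).card_Xm] at hc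
  have e : (H.Xp : Set G) * ((H.conj σ).Xm : Set G) = (H.halfE σ : Set G) := by
    ext y
    constructor
    · rintro ⟨x, hx, a, ha, rfl⟩; exact mul_mem_sup hx ha
    · intro hy
      obtain ⟨x, hx, a, ha, rfl⟩ := h.exists_decomp hy
      exact Set.mul_mem_mul hx ha
  rw [e] at hc
  rw [sq]; exact hc

theorem HalfHyp.mem_cent (h : H.HalfHyp σ) {y : G} :
    y ∈ centralizer (H.halfE σ : Set G) ↔
      (∀ x ∈ H.Xp, x * y = y * x) ∧ ∀ a ∈ (H.conj σ).Xm, a * y = y * a := by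
  constructor
  · intro hy
    exact ⟨fun x hx => mem_centralizer_iff.1 hy x (mem_sup_left hx),
      fun a ha => mem_centralizer_iff.1 hy a (mem_sup_right ha)⟩
  · rintro ⟨h1, h2⟩
    refine mem_centralizer_iff.2 fun e he => ?_
    obtain ⟨x, hx, a, ha, rfl⟩ := h.exists_decomp he
    exact (Commute.mul_left (h1 x hx : Commute x y) (h2 a ha : Commute a y)).eq

theorem HalfHyp.E_le_cent (h : H.HalfHyp σ) : H.halfE σ ≤ centralizer (H.halfE σ : Set G) := by
  intro e he
  obtain ⟨x, hx, a, ha, rfl⟩ := h.exists_decomp he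
  refine h.mem_cent.2 ⟨fun z hz => ?_, fun z hz => ?_⟩
  · exact (Commute.mul_right (H.Xp_comm hz hx : Commute z x) (h.negOne z hz a ha : Commute z a)).eq
  · refine (Commute.mul_right ((h.negOne x hx z hz).symm : Commute z x) ?_).eq
    rw [← (H.conj σ).dual_Xp] at ha hz
    exact (H.conj σ).dual.Xp_comm hz ha

theorem HalfHyp.four_norm_cent (_h : H.HalfHyp σ) {g : G} (hg : g ∈ normalizer (H.halfE σ : Set G)) :
    g ∈ normalizer (centralizer (H.halfE σ : Set G) : Set G) :=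
  Coprime.mem_normalizer_of_forall fun c hc => mem_centralizer_iff.2 fun e he => by
    have he' : g⁻¹ * e * g ∈ H.halfE σ := (mem_normalizer_iff''.1 hg e).1 he
    have := mem_centralizer_iff.1 hc _ he'
    calc e * (g * c * g⁻¹) = g * ((g⁻¹ * e * g) * c) * g⁻¹ := by group
      _ = g * c * g⁻¹ * e := by rw [this]; group

theorem HalfHyp.cent_odd (h : H.HalfHyp σ) {p : ℕ} [CharP F p] (hp : p.Prime) :
    Odd (Nat.card (centralizer (H.halfE σ : Set G))) := by
  have key : ∀ {z x : G}, x ^ Fintype.card F = 1 → x ≠ 1 → z * x * z⁻¹ = x⁻¹ → z * x ≠ x * z := by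
    intro z x hx hx1 hi e
    rw [e, mul_inv_cancel_right] at hi
    have h2 : x ^ 2 = 1 := by rw [sq]; nth_rewrite 1 [hi]; rw [inv_mul_cancel]
    obtain ⟨n, -, hn⟩ := FiniteField.card F p
    exact hx1 (orderOf_eq_one_iff.1 (Nat.eq_one_of_dvd_coprimes
      (Nat.coprime_two_left.2 (hn ▸ (H.odd_p hp).pow))
      (orderOf_dvd_of_pow_eq_one h2) (orderOf_dvd_of_pow_eq_one hx)))
  obtain ⟨x, hx, hx1⟩ := H.exists_ne_one
  obtain ⟨a, ha, ha1⟩ := (H.conj σ).dual.exists_ne_one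
  rw [(H.conj σ).dual_Xp] at ha
  have hxq : x ^ Fintype.card F = 1 := by
    rw [← H.card_Xp]
    exact congrArg Subtype.val (pow_card_eq_one' (x := (⟨x, hx⟩ : H.Xp)))
  have haq : a ^ Fintype.card F = 1 := by
    rw [← (H.conj σ).card_Xm]
    exact congrArg Subtype.val (pow_card_eq_one' (x := (⟨a, ha⟩ : (H.conj σ).Xm)))
  refine H.odd_of_free ((H.U4_le_T.trans h.T_norm_E).trans fun g hg => h.four_norm_cent hg) ?_ ?_ ?_
  · exact fun e => key haq ha1 (h.t_inv_A ha).1 ((h.mem_cent.1 e).2 a ha).symm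
  · exact fun e => key hxq hx1 (H.s_inv hx) ((h.mem_cent.1 e).1 x hx).symm
  · exact fun e => key hxq hx1 (ts_inv hx) ((h.mem_cent.1 e).1 x hx).symm

theorem HalfHyp.relIndex_cent (h : H.HalfHyp σ) {p : ℕ} [CharP F p] (hp : p.Prime) :
    ¬ p ∣ (H.halfE σ).relIndex (centralizer (H.halfE σ : Set G)) := by
  haveI := Fact.mk hp
  set E := H.halfE σ
  set C := centralizer (E : Set G)
  have hCodd := h.cent_odd hp
  have hUC : H.U4 ≤ normalizer (C : Set G) :=
    (H.U4_le_T.trans h.T_norm_E).trans fun g hg => h.four_norm_cent hg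
  obtain ⟨P, hP⟩ := Coprime.exists_invariant_sylow hUC (H.card_U4_coprime hCodd)
    (Or.inl (Group.isSolvable_of_comm fun a b => Subtype.ext (H.T_comm (H.U4_le_T a.2) (H.U4_le_T b.2)))) p
  set P' := (P : Subgroup C).map C.subtype with hP'
  have hle : P' ≤ E := by
    have hPC : P' ≤ C := map_subtype_le _
    have hc : ∀ y ∈ P', (∀ x ∈ H.Xp, x * y = y * x) ∧ ∀ a ∈ (H.conj σ).Xm, a * y = y * a :=
      fun y hy => h.mem_cent.1 (hPC hy)
    have hPp : IsPGroup p P' := P.isPGroup'.map _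
    obtain ⟨x, hx, hx1⟩ := H.exists_ne_one
    obtain ⟨a, ha, ha1⟩ := (H.conj σ).dual.exists_ne_one
    refine H.p_le_of_blocks hp h.map_t h.map_s hPp hP ?_ ?_ ?_
    · rintro y hy (hy0 | hy0)
      · exact mem_sup_left hy0
      · have hy1 := H.cent_root_p hp hx hx1 hPp hy (H.Xm_le hy0) ((hc y hy).1 x hx).symm
        rw [H.Xp_inf_Xm hy1 hy0]; exact one_mem _
    · rintro y hy (hy0 | hy0)
      · have hya : y * a = a * y := ((hc y hy).2 a ((H.conj σ).dual_Xp ▸ ha)).symm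
        have hy1 := (H.conj σ).dual.cent_root_p hp ha ha1 hPp hy
          (by rw [(H.conj σ).dual_t]; exact (H.conj σ).Xp_le hy0) hya
        rw [(H.conj σ).dual_Xp] at hy1
        rw [(H.conj σ).Xp_inf_Xm hy0 hy1]; exact one_mem _
      · exact mem_sup_right hy0
    · rintro y hy (hy0 | hy0) <;> by_cases hy1 : y = 1
      · rw [hy1]; exact one_mem _
      · exact absurd (H.comm_full (H.conjT2 h.map_t h.map_s) hy0 hy1 (hc y hy).1) h.negTwo'
      · rw [hy1]; exact one_mem _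
      · exact absurd (H.comm_full_m (H.conjT2 h.map_t h.map_s) hy0 hy1 (hc y hy).1) h.negTwo
  obtain ⟨n, -, hn⟩ := FiniteField.card F p
  have hEp : IsPGroup p E := IsPGroup.of_card (n := n * 2) (by rw [h.card_E hp, hn, pow_mul])
  obtain ⟨Q, hQ⟩ := (hEp.of_equiv (subgroupOfEquivOfLe h.E_le_cent).symm).exists_le_sylow
  have hPE : Nat.card (P : Subgroup C) ≤ Nat.card E := by
    rw [← card_map_of_injective (K := (P : Subgroup C)) C.subtype_injective]
    exact card_le_of_le hle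
  have heq : E.subgroupOf C = Q := by
    refine eq_of_le_of_card_ge hQ ?_
    rw [Nat.card_congr (subgroupOfEquivOfLe h.E_le_cent).toEquiv, Q.card_eq_multiplicity,
      ← P.card_eq_multiplicity]
    exact hPE
  rw [Subgroup.relIndex, show E.subgroupOf C = (Q : Subgroup C) from heq]
  exact Q.not_dvd_index

/-- No root element of the third block normalizes `E`. -/
theorem HalfHyp.no_root (h : H.HalfHyp σ) {p : ℕ} [CharP F p] (hp : p.Prime) {R : Subgroup G}
    (hR : R = (H.conj (σ * σ)).Xp ∨ R = (H.conj (σ * σ)).Xm)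
    (hRN : R ≤ normalizer (H.halfE σ : Set G)) : False := by
  haveI := Fact.mk hp
  set E := H.halfE σ
  obtain ⟨n, hn0, hn⟩ := FiniteField.card F p
  have hT2 := H.conjT2 h.map_t h.map_s
  have hRp : IsPGroup p R := by
    rcases hR with rfl | rfl
    · exact (H.conj (σ * σ)).Xp_pGroup hp
    · rw [← (H.conj (σ * σ)).dual_Xp]; exact (H.conj (σ * σ)).dual.Xp_pGroup hp
  have hRT : ∀ τ ∈ H.T, ∀ r ∈ R, τ * r * τ⁻¹ ∈ R := by
    intro τ hτ r hr
    rcases hR with rfl | rfl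
    · exact (H.conj (σ * σ)).T_norm (hT2.symm ▸ hτ) hr
    · rw [← (H.conj (σ * σ)).dual_Xp] at hr ⊢
      exact (H.conj (σ * σ)).dual.T_norm (by rw [(H.conj (σ * σ)).dual_T, hT2]; exact hτ) hr
  -- a fixed point of `R` on `E`
  letI act : MulAction R E :=
    { smul := fun r e => ⟨(r : G) * e * (r : G)⁻¹, (mem_normalizer_iff.1 (hRN r.2) _).1 e.2⟩
      one_smul := fun e => Subtype.ext (by show (1 : G) * e * 1⁻¹ = e; simp)
      mul_smul := fun r r' e => Subtype.ext (by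
        show ((r * r' : R) : G) * e * ((r * r' : R) : G)⁻¹ = (r : G) * ((r' : G) * e * (r' : G)⁻¹) * (r : G)⁻¹
        simp [mul_assoc]) }
  have hdvd : p ∣ Nat.card E := by
    rw [h.card_E hp, hn, ← pow_mul]
    exact dvd_pow_self p (Nat.mul_ne_zero (PNat.ne_zero n) two_ne_zero)
  obtain ⟨⟨e, he⟩, hfix, hne⟩ := hRp.exists_fixed_point_of_prime_dvd_card_of_fixed_point E hdvd
    (a := 1) (fun r => Subtype.ext (by show (r : G) * 1 * (r : G)⁻¹ = 1; simp))
  have hec : ∀ r ∈ R, Commute r e := fun r hr => mul_inv_eq_iff_eq_mul.1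
    (congrArg Subtype.val (hfix ⟨r, hr⟩))
  obtain ⟨x, hx, a, ha, rfl⟩ := h.exists_decomp he
  have hE2 : ∀ y ∈ E, (∀ r ∈ R, Commute r (y * y)) → ∀ r ∈ R, Commute r y := by
    intro y hy hyy r hr
    have hq : Odd (Nat.card E) := by rw [h.card_E hp, hn]; exact ((H.odd_p hp).pow).pow
    obtain ⟨m, hm⟩ := hq
    have e1 : y ^ Nat.card E = 1 := congrArg Subtype.val (pow_card_eq_one' (x := (⟨y, hy⟩ : E)))
    have e2 : y = (y * y) ^ (m + 1) := by
      rw [← sq, ← pow_mul, show 2 * (m + 1) = Nat.card E + 1 by omega, pow_succ, e1, one_mul]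
    rw [e2]
    exact (hyy r hr).pow_right _
  have hec' : ∀ r ∈ R, Commute r (x * a⁻¹) := fun r hr => by
    have hr' := hec _ (hRT _ H.t_mem_T r hr)
    have e1 : x * a⁻¹ = H.t * (x * a) * H.t⁻¹ := by
      rw [show H.t * (x * a) * H.t⁻¹ = (H.t * x * H.t⁻¹) * (H.t * a * H.t⁻¹) by group, t_fix hx,
        (h.t_inv_A ha).1]
    have ht : H.t⁻¹ = H.t := Involution.inv_eq H.t_order
    rw [e1]
    have h1 := hec _ (hRT _ (inv_mem H.t_mem_T) r hr)
    show r * (H.t * (x * a) * H.t⁻¹) = H.t * (x * a) * H.t⁻¹ * r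
    calc r * (H.t * (x * a) * H.t⁻¹) = H.t * ((H.t⁻¹ * r * H.t⁻¹⁻¹) * (x * a)) * H.t⁻¹ := by group
      _ = H.t * (x * a) * H.t⁻¹ * r := by rw [h1.eq]; group
  have hxa : Commute x a := h.negOne x hx a ha
  have hcx : ∀ r ∈ R, Commute r x := hE2 x (mem_sup_left hx) fun r hr => by
    rw [show x * x = (x * a) * (x * a⁻¹) by
      calc x * x = x * (x * a) * a⁻¹ := by group
        _ = x * (a * x) * a⁻¹ := by rw [hxa.eq]
        _ = _ := by group]
    exact (hec r hr).mul_right (hec' r hr)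
  have hca : ∀ r ∈ R, Commute r a := fun r hr => by
    rw [show a = x⁻¹ * (x * a) by group]
    exact ((hcx r hr).inv_right).mul_right (hec r hr)
  have hinvK : ∀ τ ∈ H.T, ∀ y ∈ centralizer (R : Set G), τ * y * τ⁻¹ ∈ centralizer (R : Set G) := by
    intro τ hτ y hy
    refine mem_centralizer_iff.2 fun r hr => ?_
    have := mem_centralizer_iff.1 hy _ (hRT _ (inv_mem hτ) r hr)
    calc r * (τ * y * τ⁻¹) = τ * ((τ⁻¹ * r * τ⁻¹⁻¹) * y) * τ⁻¹ := by group
      _ = τ * y * τ⁻¹ * r := by rw [this]; group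
  by_cases hx1 : x = 1
  · have ha1 : a ≠ 1 := fun ea => hne (Subtype.ext (by
      show (1 : G) = x * a
      rw [hx1, ea, mul_one]))
    have hA : Comm (H.conj σ).Xm R := fun z hz r hr =>
      (mem_centralizer_iff.1 ((H.conj σ).root_full_m (K := centralizer (R : Set G))
        (fun τ hτ => hinvK τ (h.conj_T ▸ hτ)) ha (mem_centralizer_iff.2 fun r hr => (hca r hr).eq)
        ha1 hz) r hr).symm
    have h' := (hA.conj σ⁻¹).conj (H.π ww)
    rw [H.conj_map_Xm, inv_mul_cancel, conj_Xm, map_one,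
      show (1 : MulAut G).toMonoidHom = MonoidHom.id G from rfl, map_id, H.w_Xm] at h'
    rcases hR with rfl | rfl
    · rw [H.conj_map_Xp (σ * σ) σ⁻¹, inv_mul_cancel_left,
        H.w_conj_Xp h.map_t h.map_s] at h'
      exact h.negTwo h'
    · rw [H.conj_map_Xm (σ * σ) σ⁻¹, inv_mul_cancel_left,
        H.w_conj_Xm h.map_t h.map_s] at h'
      exact h.negTwo' h'
  · have hX : Comm H.Xp R := fun z hz r hr =>
      (mem_centralizer_iff.1 (H.root_full (K := centralizer (R : Set G)) hinvK hx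
        (mem_centralizer_iff.2 fun r hr => (hcx r hr).eq) hx1 hz) r hr).symm
    rcases hR with rfl | rfl
    · exact h.negTwo' hX
    · exact h.negTwo hX

/-- The normalizer is `C(E) L`, `L = N(E) ∩ C(ts)`. -/
theorem HalfHyp.norm_factor (h : H.HalfHyp σ) {p : ℕ} [CharP F p] (hp : p.Prime) {g : G}
    (hg : g ∈ normalizer (H.halfE σ : Set G)) :
    ∃ c ∈ centralizer (H.halfE σ : Set G),
      ∃ l ∈ normalizer (H.halfE σ : Set G) ⊓ centralizer {H.t * H.s}, c * l = g := by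
  set v := g * (H.t * H.s) * g⁻¹ * (H.t * H.s) with hv
  have hzz := Involution.mul_self H.ts_order
  have hzi : (H.t * H.s)⁻¹ = H.t * H.s := Involution.inv_eq H.ts_order
  have hvC : v ∈ centralizer (H.halfE σ : Set G) := mem_centralizer_iff.2 fun e he => by
    have he' : g⁻¹ * e⁻¹ * g ∈ H.halfE σ := (mem_normalizer_iff''.1 hg _).1 (inv_mem he)
    have e1 := h.ts_inv_E he'
    have e2 := h.ts_inv_E he
    rw [hv]
    have : g * (H.t * H.s) * g⁻¹ * e⁻¹ * (g * (H.t * H.s) * g⁻¹)⁻¹ = e := by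
      calc _ = g * (H.t * H.s * (g⁻¹ * e⁻¹ * g) * (H.t * H.s)⁻¹) * g⁻¹ := by group
        _ = _ := by rw [e1]; group
    symm
    rw [← mul_inv_eq_iff_eq_mul]
    calc g * (H.t * H.s) * g⁻¹ * (H.t * H.s) * e * (g * (H.t * H.s) * g⁻¹ * (H.t * H.s))⁻¹
        = g * (H.t * H.s) * g⁻¹ * (H.t * H.s * e * (H.t * H.s)⁻¹) * (g * (H.t * H.s) * g⁻¹)⁻¹ := by group
      _ = e := by rw [e2, this]
  have hvinv : H.t * H.s * v * (H.t * H.s)⁻¹ = v⁻¹ := by
    have key : ∀ z : G, z * z = 1 → z * (g * z * g⁻¹ * z) * z⁻¹ = (g * z * g⁻¹ * z)⁻¹ := fun z hz => by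
      simp [mul_assoc, inv_eq_of_mul_eq_one_right hz, hz]
    exact key _ hzz
  obtain ⟨m, hm⟩ := h.cent_odd hp
  set r := v ^ (m + 1) with hr
  have hrr : r * r = v := by
    rw [hr, ← pow_add, show m + 1 + (m + 1) = 2 * m + 1 + 1 by ring, ← hm, pow_succ]
    have : v ^ Nat.card (centralizer (H.halfE σ : Set G)) = 1 :=
      congrArg Subtype.val (pow_card_eq_one' (x := (⟨v, hvC⟩ : centralizer (H.halfE σ : Set G))))
    rw [this, one_mul]
  have hrinv : H.t * H.s * r * (H.t * H.s)⁻¹ = r⁻¹ := by rw [hr, ← conj_pow, hvinv, inv_pow]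
  have hrz : r * (H.t * H.s) * r⁻¹ = g * (H.t * H.s) * g⁻¹ := by
    calc r * (H.t * H.s) * r⁻¹ = r * (H.t * H.s * r⁻¹ * (H.t * H.s)⁻¹) * (H.t * H.s) := by group
      _ = r * r * (H.t * H.s) := by
        rw [show H.t * H.s * r⁻¹ * (H.t * H.s)⁻¹ = (H.t * H.s * r * (H.t * H.s)⁻¹)⁻¹ by group,
          hrinv, inv_inv]
      _ = _ := by rw [hrr, hv, mul_assoc, hzz, mul_one]
  refine ⟨r, pow_mem hvC _, r⁻¹ * g, Subgroup.mem_inf.2 ⟨?_, mem_centralizer_singleton_iff.2 ?_⟩,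
    mul_inv_cancel_left _ _⟩
  · exact mul_mem (inv_mem (centralizer_le_normalizer _ (pow_mem hvC _))) hg
  · calc r⁻¹ * g * (H.t * H.s) = r⁻¹ * (g * (H.t * H.s) * g⁻¹) * g := by group
      _ = H.t * H.s * (r⁻¹ * g) := by rw [← hrz]; group

theorem HalfHyp.relIndex_norm (h : H.HalfHyp σ) {p : ℕ} [CharP F p] (hp : p.Prime)
    (h5 : 5 ≤ Fintype.card F) :
    ¬ p ∣ (H.halfE σ).relIndex (normalizer (H.halfE σ : Set G)) ∧
      ¬ p ∣ Nat.card (normalizer (H.halfE σ : Set G) ⊓ centralizer {H.t * H.s} : Subgroup G) := by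
  haveI := Fact.mk hp
  set E := H.halfE σ
  set N := normalizer (E : Set G)
  set C := centralizer (E : Set G)
  set L := N ⊓ centralizer {H.t * H.s}
  have hTL : H.T ≤ L := le_inf h.T_norm_E fun τ hτ => mem_centralizer_singleton_iff.2
    (H.T_comm hτ (H.T.mul_mem H.t_mem_T H.s_mem_T))
  have hno : ∀ R : Subgroup G, (R = (H.conj (σ * σ)).Xp ∨ R = (H.conj (σ * σ)).Xm) → ¬ R ≤ L :=
    fun R hR hle => h.no_root hp hR (hle.trans inf_le_left)
  have hT2 := H.conjT2 h.map_t h.map_s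
  have hinv : ∀ τ ∈ (H.conj (σ * σ)).T, ∀ y ∈ L, τ * y * τ⁻¹ ∈ L := fun τ hτ y hy =>
    mul_mem (mul_mem (hTL (hT2 ▸ hτ)) hy) (inv_mem (hTL (hT2 ▸ hτ)))
  have h7 : 7 ≤ Fintype.card F ∨ p ≠ 3 := by
    rcases Nat.lt_or_ge (Fintype.card F) 7 with hlt | hge
    · refine Or.inr fun e3 => ?_
      subst e3
      obtain ⟨n, -, hn⟩ := FiniteField.card F 3
      rcases Nat.lt_or_ge (n : ℕ) 2 with h2 | h2
      · rw [show (n : ℕ) = 1 by have := n.pos; omega, pow_one] at hn
        omega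
      · have := Nat.pow_le_pow_right (show 0 < 3 by norm_num) h2
        omega
    · exact Or.inl hge
  have hL : ¬ p ∣ Nat.card L := by
    refine (H.conj (σ * σ)).pprime_of_no_root hp h7 (hT2.symm ▸ hTL) ?_ ?_ ?_
    · rw [H.conj2_t h.map_t h.map_s]; exact inf_le_right
    · intro x hx hxR
      by_contra hx1
      exact hno _ (Or.inl rfl) ((H.conj (σ * σ)).root_full hinv hxR hx hx1)
    · intro x hx hxR
      by_contra hx1
      exact hno _ (Or.inr rfl) ((H.conj (σ * σ)).root_full_m hinv hxR hx hx1)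
  refine ⟨fun hd => ?_, hL⟩
  have hCN : C ≤ N := centralizer_le_normalizer _
  have hset : (C : Set G) * (L : Set G) = (N : Set G) := by
    ext g
    constructor
    · rintro ⟨c, hc, l, hl, rfl⟩; exact mul_mem (hCN hc) hl.1
    · intro hg
      obtain ⟨c, hc, l, hl, rfl⟩ := h.norm_factor hp hg
      exact Set.mul_mem_mul hc hl
  have hc := Coprime.card_mul_inf C L
  rw [hset] at hc
  have e1 : Nat.card E * E.relIndex N = Nat.card N := by
    rw [Subgroup.relIndex, ← Nat.card_congr (subgroupOfEquivOfLe (le_normalizer (H := E))).toEquiv,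
      card_mul_index]
  have e2 : Nat.card E * E.relIndex C = Nat.card C := by
    rw [Subgroup.relIndex, ← Nat.card_congr (subgroupOfEquivOfLe h.E_le_cent).toEquiv, card_mul_index]
  change Nat.card N * _ = _ at hc
  rw [← e1, ← e2, mul_assoc, mul_assoc] at hc
  have hc' := Nat.eq_of_mul_eq_mul_left Nat.card_pos hc
  rcases hp.dvd_mul.1 (hc' ▸ dvd_mul_of_dvd_left hd _ : p ∣ E.relIndex C * Nat.card L) with h1 | h1
  · exact h.relIndex_cent hp h1
  · exact hL h1

/-- The structure of `N(E)` for `q ≡ 3 (mod 4)`. -/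
theorem HalfHyp.card_norm (h : H.HalfHyp σ) {p : ℕ} [CharP F p] (hp : p.Prime)
    (h7 : 7 ≤ Fintype.card F) :
    Nat.card (normalizer (H.halfE σ : Set G)) = Fintype.card F ^ 2 * (2 * Nat.card H.T) := by
  haveI := Fact.mk hp
  obtain ⟨-, hLp⟩ := h.relIndex_norm hp (by omega)
  set E := H.halfE σ
  set N := normalizer (E : Set G)
  set C := centralizer (E : Set G)
  set L := N ⊓ centralizer {H.t * H.s} with hL
  set H2 := H.conj (σ * σ) with hH2
  have hT2 : H2.T = H.T := H.conjT2 h.map_t h.map_s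
  have hTL : H.T ≤ L := le_inf h.T_norm_E fun τ hτ => mem_centralizer_singleton_iff.2
    (H.T_comm hτ (H.T.mul_mem H.t_mem_T H.s_mem_T))
  have hLt : L ≤ centralizer {H2.t} := by rw [hH2, H.conj2_t h.map_t h.map_s]; exact inf_le_right
  have hinv : ∀ τ ∈ H2.T, ∀ y ∈ L, τ * y * τ⁻¹ ∈ L := fun τ hτ y hy =>
    mul_mem (mul_mem (hTL (hT2 ▸ hτ)) hy) (inv_mem (hTL (hT2 ▸ hτ)))
  have hu : ∀ x ∈ L, x ∈ H2.Xp → x = 1 := fun x hx hxR => by
    by_contra hx1
    exact h.no_root hp (Or.inl rfl) ((H2.root_full hinv hxR hx hx1).trans inf_le_left)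
  have hv : ∀ x ∈ L, x ∈ H2.Xm → x = 1 := fun x hx hxR => by
    by_contra hx1
    exact h.no_root hp (Or.inr rfl) ((H2.root_full_m hinv hxR hx hx1).trans inf_le_left)
  -- the centralizer is `E (C ∩ T)`
  have hC : C ≤ E ⊔ H.T := by
    obtain ⟨x0, hx0, hx01⟩ := H.exists_ne_one
    obtain ⟨a0, ha0, ha01⟩ := (H.conj σ).dual.exists_ne_one
    refine H.le_of_four (h.cent_odd hp)
      ((H.U4_le_T.trans h.T_norm_E).trans fun g hg => h.four_norm_cent hg) fun a ha ha1 y hy => ?_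
    obtain ⟨hyC, hya⟩ := hy
    rcases ha with rfl | rfl | rfl | rfl
    · exact absurd rfl ha1
    · obtain ⟨z, hz, w, hw, rfl⟩ := H.cent_root hx0 hx01 hya ((h.mem_cent.1 hyC).1 x0 hx0).symm
      exact mul_mem (mem_sup_right (H.Zt_le hz)) (mem_sup_left (mem_sup_left hw))
    · obtain ⟨z, hz, w, hw, rfl⟩ := (H.conj σ).dual.cent_root ha0 ha01
        (by rw [(H.conj σ).dual_t, H.conj_t_eq h.map_t h.map_s]; exact hya)
        ((h.mem_cent.1 hyC).2 a0 ((H.conj σ).dual_Xp ▸ ha0)).symm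
      have hz' := (H.conj σ).dual.Zt_le hz
      rw [(H.conj σ).dual_T, h.conj_T] at hz'
      rw [(H.conj σ).dual_Xp] at hw
      exact mul_mem (mem_sup_right hz') (mem_sup_left (mem_sup_right hw))
    · have hyL : y ∈ L := ⟨centralizer_le_normalizer _ hyC, hya⟩
      refine mem_sup_right (hT2 ▸ H2.mem_T_of_odd h7 (hT2.symm ▸ hTL) hu hv hyL (H2.range_t.symm ▸ hLt hyL) ?_)
      exact (h.cent_odd hp).of_dvd_nat (by
        rw [← Subgroup.orderOf_mk y hyC]; exact orderOf_dvd_natCard _)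
  have hLN : L ≤ N := inf_le_left
  have hN : N = E ⊔ L := by
    refine le_antisymm (fun g hg => ?_) (sup_le le_normalizer hLN)
    obtain ⟨c, hc, l, hl, rfl⟩ := h.norm_factor hp hg
    exact mul_mem ((sup_le_sup_left hTL E) (hC hc)) (mem_sup_right hl)
  obtain ⟨n, -, hn⟩ := FiniteField.card F p
  have hcop : (Nat.card E).Coprime (Nat.card L) := by
    rw [h.card_E hp, hn]
    exact ((hp.coprime_iff_not_dvd.2 hLp).pow_left _).pow_left _
  rw [show Nat.card N = Nat.card (E ⊔ L : Subgroup G) by rw [← hN],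
    Coprime.card_sup_of_coprime hLN hcop, h.card_E hp]
  congr 1
  -- `T` has index two in `L`
  have h2 : (H.T.subgroupOf L).index = 2 := by
    have hw2 : H2.π ww ∈ L := by
      set W := H2.π ww with hW
      have hWt : W ∈ centralizer {H.t * H.s} := by
        rw [← H.conj2_t h.map_t h.map_s]; exact H2.π_mem_cent _
      have hmap : H.Xp.map (MulAut.conj W).toMonoidHom = (H.conj σ).Xm := by
        have hWσ : W = σ * σ * H.π ww * (σ * σ)⁻¹ := rfl
        have hXX : (H.conj σ).Xp.map (MulAut.conj (σ * σ)).toMonoidHom = H.Xp := by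
          rw [H.conj_map_Xp, H.conj_sigma_cube_Xp h.map_t h.map_s]
        rw [← hXX, map_conj_map, hWσ, inv_mul_cancel_right, ← map_conj_map _ (H.π ww) (σ * σ),
          H.w_conj_Xp h.map_t h.map_s, H.conj_map_Xm, conj_Xm, conj_Xm,
          show σ * σ * (σ * σ) = σ * (σ * σ * σ) by group, ← map_conj_map _ (σ * σ * σ) σ]
        congr 1
        rw [← H.dual_Xp]
        exact H.dual.T_map_Xp (by rw [H.dual_T]; exact H.sigma_cube h.map_t h.map_s)
      have hW2 : W * W = 1 := H2.ww_mul_self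
      have hmap' : (H.conj σ).Xm.map (MulAut.conj W).toMonoidHom = H.Xp := by
        rw [← hmap, map_conj_map, hW2, map_one]
        exact map_id _
      refine ⟨Coprime.mem_normalizer_of_forall fun e he => ?_, hWt⟩
      obtain ⟨x, hx, a, ha, rfl⟩ := h.exists_decomp he
      rw [show W * (x * a) * W⁻¹ = (W * x * W⁻¹) * (W * a * W⁻¹) by group]
      exact mul_mem (mem_sup_right (hmap ▸ ⟨x, hx, rfl⟩)) (mem_sup_left (hmap' ▸ ⟨a, ha, rfl⟩))
    have hwT : H2.π ww ∉ H.T := by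
      intro hT
      obtain ⟨g, ⟨d, rfl⟩, hg⟩ := hT2.symm ▸ hT
      have e' : H2.π ww * H2.π gs = H2.π gs * H2.π ww := by
        rw [← hg, ← map_mul, ← map_mul, gs, ← map_mul, ← map_mul, mul_comm]
      have := congrArg (fun g : GL (Fin 2) F => g 0 1) (H2.commute_iff.1 e')
      simp at this
      exact H.two_ne (by linear_combination -this)
    refine (Subgroup.index_eq_two_iff).2 ⟨⟨_, hw2⟩, fun b => ?_⟩
    rw [mem_subgroupOf, mem_subgroupOf, Subgroup.coe_mul]
    obtain ⟨g, hg⟩ := H2.exists_of_mem_cent (hLt b.2)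
    have hmon := monomial (L := L.comap H2.π) (H2.lift_dg_le (hT2.symm ▸ hTL))
      (fun c hc => H2.π_u_injective (hu _ hc ⟨_, ⟨_, rfl⟩, rfl⟩))
      (fun c hc => H2.π_v_injective (hv _ hc ⟨_, ⟨_, rfl⟩, rfl⟩)) H.two_ne h7
      (g := g) (by rw [mem_comap, hg]; exact b.2)
    rw [← hg, ← map_mul, ← hT2]
    rcases hmon with ⟨h01, h10⟩ | ⟨h00, h11⟩
    · refine Or.inr ⟨⟨g, mem_dg h01 h10, rfl⟩, fun hm => hwT ?_⟩
      rw [← hT2]
      have : H2.π g ∈ H2.T := ⟨g, mem_dg h01 h10, rfl⟩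
      rw [map_mul] at hm
      exact (mul_mem_cancel_left this).1 hm
    · refine Or.inl ⟨⟨g * ww, mem_dg (by simp [h00]) (by simp [h11]), rfl⟩, fun hm => hwT ?_⟩
      rw [← hT2]
      have : H2.π (g * ww) ∈ H2.T := ⟨g * ww, mem_dg (by simp [h00]) (by simp [h11]), rfl⟩
      rw [map_mul] at this
      exact (mul_mem_cancel_left hm).1 this
  have := card_mul_index (H.T.subgroupOf L)
  rw [h2, Nat.card_congr (subgroupOfEquivOfLe hTL).toEquiv] at this
  rw [← this, mul_comm]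

variable (H)

/-- The case where `Xp` commutes with exactly one root group of another block. -/
theorem false_of_half (h5 : 5 ≤ Fintype.card F) {σ : G} (hσ : σ * H.t * σ⁻¹ = H.s)
    (hσ' : σ * H.s * σ⁻¹ = H.t * H.s) (hpos : ¬ Comm H.Xp (H.conj σ).Xp)
    (hA : Comm H.Xp (H.conj σ).Xm) (hB : ¬ Comm H.Xp (H.conj (σ * σ)).Xm)
    (hJ : Fintype.card F % 4 = 1 → (centralizer {H.t}).index =
      Fintype.card F ^ 2 * (Fintype.card F ^ 2 + Fintype.card F + 1)) : False := by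
  have h : H.HalfHyp σ := ⟨hσ, hσ', hpos, hA, hB⟩
  obtain ⟨p, hpc⟩ := CharP.exists F
  haveI := hpc
  have hp : p.Prime := CharP.char_is_prime F p
  haveI := Fact.mk hp
  obtain ⟨n, -, hn⟩ := FiniteField.card F p
  set q := Fintype.card F with hq
  set E := H.halfE σ
  have hEcard : Nat.card E = p ^ (2 * (n : ℕ)) := by rw [h.card_E hp, ← hq, hn, ← pow_mul, mul_comm]
  have hSyl : Nat.card E = p ^ (Nat.card G).factorization p :=
    card_eq_sylow (IsPGroup.of_card hEcard) (h.relIndex_norm hp h5).1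
  have hJp : (centralizer {H.t}).index.factorization p = n := by
    have h1 := H.g_vp hp hn
    have h2 : 2 * (n : ℕ) = (Nat.card G).factorization p :=
      Nat.pow_right_injective hp.two_le (hEcard.symm.trans hSyl)
    omega
  have hodd : Odd q := by rw [hn]; exact (H.odd_p hp).pow
  obtain ⟨k, hk⟩ := hodd
  have h4 : q % 4 = 1 ∨ q % 4 = 3 := by omega
  rcases h4 with h4 | h4
  · have hnd : ¬ p ∣ q ^ 2 + q + 1 := fun hd => by
      have hd1 : p ∣ q ^ 2 + q := dvd_add (dvd_pow (H.p_dvd_q hp hn) two_ne_zero) (H.p_dvd_q hp hn)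
      exact hp.not_dvd_one ((Nat.dvd_add_right hd1).1 hd)
    rw [hJ h4, Nat.factorization_mul (pow_ne_zero _ (by omega)) (by omega), Finsupp.add_apply,
      Nat.factorization_eq_zero_of_not_dvd hnd, hn, ← pow_mul, hp.factorization_pow,
      Finsupp.single_eq_same] at hJp
    have h0 := n.pos
    omega
  · have h7 : 7 ≤ q := by omega
    obtain ⟨X, hX0, hX1, hXq, hsec, htwo, hidx⟩ := H.exists_equations hp hn h4
    have heqs : Eqs p n q (centralizer {H.t}).index X :=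
      ⟨hp, hn, n.pos, h4, h7, hX0, hX1, hXq, hidx, hsec, htwo⟩
    let P : Sylow p G := Sylow.ofCard E hSyl
    refine heqs.half_false hJp (np := Nat.card (Sylow p G)) ?_ ?_
    · have h1 : Nat.card (Sylow p G) * Nat.card (normalizer (E : Set G)) = Nat.card G := by
        rw [P.card_eq_index_normalizer]
        exact index_mul_card _
      rw [h.card_norm hp h7, ← index_mul_card (centralizer ({H.t} : Set G)), H.card_cent_eq_T, ← hq] at h1
      refine Nat.eq_of_mul_eq_mul_right (Nat.mul_pos (Nat.card_pos (α := H.T)) (show 0 < q by omega)) ?_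
      calc 2 * (Nat.card (Sylow p G) * q) * (Nat.card H.T * q)
          = Nat.card (Sylow p G) * (q ^ 2 * (2 * Nat.card H.T)) := by ring
        _ = _ := h1
        _ = _ := by ring
    · have := (card_sylow_modEq_one p G)
      rw [Nat.ModEq, Nat.mod_eq_of_lt hp.one_lt] at this
      exact this

end Hyp

end Cfsg.Agent.LThreeRec
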