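import Cfsg.Agent.Lib.LThreeRec.Centre
import Cfsg.Agent.Lib.Coprime.Basic
import Cfsg.Agent.Lib.Coprime.InvolutionEigen
import Cfsg.Agent.Lib.Transfer.IsolatedSylow

/-!
# Inside the involution centraliser (helper60, S0484)

* `root_cases` : a `p`-subgroup of `C(t)` inverted by `u` lies in one root group
* `root_full` : and is the root group if the torus normalises it
* `exists_conj_u` : one class of involutions other than `t`
* `exists_sylow` : a Sylow 2-subgroup of `G` lies in `C(t)`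
* `exists_swap` : `t` and `u` are interchanged in a simple group
-/

set_option autoImplicit false
set_option linter.unusedSectionVars false
set_option linter.style.haveILetI false

namespace Cfsg.Agent.LThreeRec

open Subgroup
open scoped Pointwise

variable {F : Type*} [Field F] [Fintype F] {G : Type*} [Group G] [Finite G]

namespace LData

variable (D : LData G F)
include D

theorem X_le_centralizer : D.X ≤ centralizer ({D.t} : Set G) := by
  rintro _ ⟨a, rfl⟩
  exact mem_centralizer_singleton_iff.2 (D.comm_t _)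

theorem coprime_units {p : ℕ} (hp : p.Prime) [CharP F p] (k : ℕ) :
    (p ^ k).Coprime (Fintype.card F - 1) := by
  haveI := Fact.mk hp
  obtain ⟨n, -, hn⟩ := FiniteField.card F p
  refine Nat.Coprime.pow_left _ (hp.coprime_iff_not_dvd.2 fun h => hp.not_dvd_one ?_)
  have hd : p ∣ Fintype.card F := hn ▸ dvd_pow_self p n.pos.ne'
  have h1 := Nat.dvd_sub hd h
  rwa [Nat.sub_sub_self (Fintype.card_pos (α := F))] at h1

theorem pow_units (a : Fˣ) : a ^ (Fintype.card F - 1) = 1 := by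
  classical
  rw [← Fintype.card_units]; exact pow_card_eq_one

theorem ker_pow {z : GL (Fin 2) F} (hz : z ∈ D.π.ker) : z ^ (Fintype.card F - 1) = 1 := by
  obtain ⟨a, rfl⟩ := D.eq_dG_of_center (D.ker_center hz)
  rw [← map_pow, Prod.pow_mk, D.pow_units, ← Prod.one_eq_mk, map_one]

theorem T_pow {x : G} (hx : x ∈ D.T) : x ^ (Fintype.card F - 1) = 1 := by
  obtain ⟨⟨a, b⟩, rfl⟩ := hx
  rw [← map_pow, Prod.pow_mk, D.pow_units, D.pow_units, ← Prod.one_eq_mk, map_one]

theorem T_inter_pGroup {p : ℕ} (hp : p.Prime) [CharP F p] {W : Subgroup G} (hW : IsPGroup p W)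
    {x : G} (hx : x ∈ W) (hxT : x ∈ D.T) : x = 1 := by
  obtain ⟨k, hk⟩ := hW ⟨x, hx⟩
  have hk' : x ^ p ^ k = 1 := congrArg Subtype.val hk
  exact orderOf_eq_one_iff.1 (Nat.eq_one_of_dvd_coprimes (D.coprime_units hp k)
    (orderOf_dvd_of_pow_eq_one hk') (orderOf_dvd_of_pow_eq_one (D.T_pow hxT)))

/-- An element inverted by `u` of `p`-power order has a root lift. -/
theorem root_elem {p : ℕ} (hp : p.Prime) [CharP F p] {x : G} (hxt : x * D.t = D.t * x) {k : ℕ}
    (hk : x ^ p ^ k = 1) (hinv : D.u * x * D.u⁻¹ = x⁻¹) : x ∈ D.X ∨ x ∈ D.X' := by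
  haveI := Fact.mk hp
  obtain ⟨g0, rfl⟩ := D.mem_of_inverted ⟨_, rfl⟩ hxt hinv (Odd.of_dvd_nat
    ((hp.eq_two_or_odd'.resolve_left fun h2 => D.two_ne (by
      subst h2; exact_mod_cast CharP.cast_eq_zero F 2)).pow (n := k)) (orderOf_dvd_of_pow_eq_one hk))
  have hz : g0 ^ p ^ k ∈ D.π.ker := by rw [MonoidHom.mem_ker, map_pow, hk]
  -- injectivity of the power on the kernel
  have inj : ∀ z ∈ D.π.ker, z ^ p ^ k = 1 → z = 1 := fun z hz h =>
    orderOf_eq_one_iff.1 (Nat.eq_one_of_dvd_coprimes (D.coprime_units hp k)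
      (orderOf_dvd_of_pow_eq_one h) (orderOf_dvd_of_pow_eq_one (D.ker_pow hz)))
  obtain ⟨z, hzk, hze⟩ : ∃ z ∈ D.π.ker, z ^ p ^ k = g0 ^ p ^ k := by
    let f : D.π.ker → D.π.ker := fun z => z ^ p ^ k
    have hinj : Function.Injective f := fun a b h => by
      have hc : Commute (a : GL (Fin 2) F) (b : GL (Fin 2) F) :=
        (Subgroup.mem_center_iff.1 (D.ker_center a.2) b).symm
      have h' : (a : GL (Fin 2) F) ^ p ^ k = (b : GL (Fin 2) F) ^ p ^ k := congrArg Subtype.val h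
      have := inj _ (mul_mem a.2 (inv_mem b.2)) (by rw [hc.inv_right.mul_pow, h', inv_pow, mul_inv_cancel])
      exact Subtype.ext (mul_inv_eq_one.1 this)
    obtain ⟨z, hz'⟩ := (Finite.injective_iff_surjective.1 hinj) ⟨_, hz⟩
    exact ⟨z, z.2, congrArg Subtype.val hz'⟩
  set g := g0 * z⁻¹ with hg
  have hπ : D.π g = D.π g0 := by rw [hg, map_mul, map_inv, MonoidHom.mem_ker.1 hzk, inv_one, mul_one]
  have hcz : Commute g0 z⁻¹ := (Commute.inv_right (Subgroup.mem_center_iff.1 (D.ker_center hzk) g0))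
  have hgP : g ^ p ^ k = 1 := by rw [hg, hcz.mul_pow, inv_pow, hze, mul_inv_cancel]
  -- inverted
  have hker : dG (1, -1) * g * dG (1, -1) * g ∈ D.π.ker := by
    rw [MonoidHom.mem_ker, map_mul, map_mul, map_mul, hπ]
    show D.u * D.π g0 * D.u * D.π g0 = 1
    have hu : D.u⁻¹ = D.u := inv_eq_of_mul_eq_one_right (by
      have := pow_orderOf_eq_one D.u
      rwa [D.orderOf_u, sq] at this)
    rw [hu] at hinv
    rw [hinv, inv_mul_cancel]
  set h := dG (1, -1) * g * dG (1, -1) * g with hh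
  have hDD : (dG (1, -1) : GL (Fin 2) F) * dG (1, -1) = 1 := by rw [← map_mul]; simp [D.dG_one]
  have hconj : dG (1, -1) * g * dG (1, -1) = h * g⁻¹ := by rw [hh, mul_inv_cancel_right]
  have h1 : h = 1 := by
    refine inj h hker ?_
    have hp' : (dG (1, -1) * g * dG (1, -1)) ^ p ^ k = 1 := by
      have hD' : (dG (1, -1) : GL (Fin 2) F)⁻¹ = dG (1, -1) := inv_eq_of_mul_eq_one_right hDD
      nth_rewrite 2 [← hD']
      rw [conj_pow, hgP, mul_one, mul_inv_cancel]
    have cc : Commute h g⁻¹ := (Subgroup.mem_center_iff.1 (D.ker_center hker) g⁻¹).symm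
    rw [hconj, cc.mul_pow, inv_pow, hgP,
      inv_one, mul_one] at hp'
    exact hp'
  have hm := congrArg mG (h1 : dG (1, -1) * g * dG (1, -1) * g = 1)
  rw [mG_mul, mG_mul, mG_mul, mG_dG] at hm
  have e00 := congrFun (congrFun hm 0) 0
  have e01 := congrFun (congrFun hm 0) 1
  have e10 := congrFun (congrFun hm 1) 0
  simp [Matrix.mul_apply, Fin.sum_univ_two, Matrix.vecMul, dotProduct] at e00 e01 e10
  have hdet : mG g 0 0 * mG g 1 1 - mG g 0 1 * mG g 1 0 = 1 := by
    have h' := congrArg (fun a : GL (Fin 2) F => (mG a).det) hgP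
    simp only [mG, Units.val_pow_eq_pow_val, Units.val_one, Matrix.det_pow, Matrix.det_one] at h'
    rw [← iterate_frobenius] at h'
    have h2 : (mG g).det = 1 :=
      (frobenius_inj F p).iterate k (h'.trans (by rw [iterate_frobenius, one_pow]))
    rwa [Matrix.det_fin_two] at h2
  have hz0 : (mG g - 1).det = 0 := by
    have h' : (mG g - 1) ^ p ^ k = 0 := by
      rw [sub_pow_char_pow_of_commute _ _ (Commute.one_right _), one_pow]
      show (mG g) ^ p ^ k - 1 = 0
      rw [← Units.val_pow_eq_pow_val, hgP, Units.val_one, sub_self]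
    have := congrArg Matrix.det h'
    rw [Matrix.det_pow, Matrix.det_zero] at this
    exact eq_zero_of_pow_eq_zero this
  rw [Matrix.det_fin_two] at hz0
  simp [Matrix.one_apply] at hz0
  have had : mG g 0 0 = mG g 1 1 := by
    by_contra hne
    have hne' : mG g 0 0 - mG g 1 1 ≠ 0 := sub_ne_zero.2 hne
    have b : mG g 0 1 = 0 := (mul_eq_zero.1 (show (mG g 0 0 - mG g 1 1) * mG g 0 1 = 0 by
      linear_combination e01)).resolve_left hne'
    have a : mG g 0 0 = 0 := (mul_eq_zero.1 (show (mG g 0 0 - mG g 1 1) * mG g 0 0 = 0 by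
      linear_combination e00 - hdet)).resolve_left hne'
    rw [a, b] at hdet; simp at hdet
  rw [← had] at hdet hz0
  have ha1 : mG g 0 0 = 1 := by
    have : (2 : F) * (mG g 0 0 - 1) = 0 := by linear_combination hdet - hz0
    exact sub_eq_zero.1 ((mul_eq_zero.1 this).resolve_left D.two_ne)
  have hd1 : mG g 1 1 = 1 := had.symm.trans ha1
  have hbc : mG g 0 1 * mG g 1 0 = 0 := by
    rw [ha1] at hdet; linear_combination -hdet
  rw [← hπ]
  rcases mul_eq_zero.1 hbc with hb | hc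
  · refine Or.inr (D.mem_X'.2 ⟨mG g 1 0, congrArg D.π ?_⟩)
    apply mG_ext; rw [mG_iG]
    ext i j; fin_cases i <;> fin_cases j <;> simp [vS, ha1, hd1, hb]
  · refine Or.inl (D.mem_X.2 ⟨mG g 0 1, congrArg D.π ?_⟩)
    apply mG_ext; rw [mG_iG]
    ext i j; fin_cases i <;> fin_cases j <;> simp [uS, ha1, hd1, hc]

theorem X_inter_X' {x : G} (h : x ∈ D.X) (h' : x ∈ D.X') : x = 1 := by
  obtain ⟨a, rfl⟩ := h
  obtain ⟨b, hb⟩ := D.mem_X'.1 h'
  simp only at hb ⊢
  have hk : iG (uS a) * (iG (vS b))⁻¹ ∈ D.π.ker := by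
    rw [MonoidHom.mem_ker, map_mul, map_inv, ← D.φ_apply, ← D.φ_apply, hb, mul_inv_cancel]
  have hc := D.scalar_of_center (D.ker_center hk)
  have e : (iG (vS b) : GL (Fin 2) F)⁻¹ = iG (vS (-b)) := by
    rw [← map_inv]; congr 1
    apply inv_eq_of_mul_eq_one_right
    rw [vS_add, add_neg_cancel]
    apply Subtype.ext; ext i j; fin_cases i <;> fin_cases j <;> simp [vS]
  rw [e, ← map_mul, mG_iG, Matrix.SpecialLinearGroup.coe_mul] at hc
  have h0 : a = 0 := by
    simpa [uS, vS, Matrix.mul_apply, Fin.sum_univ_two] using hc.1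
  have e0 : (uS (0 : F) : Matrix.SpecialLinearGroup (Fin 2) F) = 1 := by
    apply Subtype.ext; ext i j; fin_cases i <;> fin_cases j <;> simp [uS]
  rw [h0, e0, map_one]

/-- A `p`-subgroup of `C(t)` normalised by `u`, whose fixed points are in the image, lies in a root
group. -/
theorem root_cases_of {p : ℕ} (hp : p.Prime) [CharP F p] {W : Subgroup G} (hW : IsPGroup p W)
    (hWt : W ≤ centralizer ({D.t} : Set G)) (hWu : ∀ x ∈ W, D.u * x * D.u⁻¹ ∈ W)
    (hfix : ∀ x ∈ W, x * D.u = D.u * x → ∃ g, D.π g = x) :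
    W ≤ D.X ∨ W ≤ D.X' := by
  let f : W →* W :=
    { toFun := fun x => ⟨D.u * x * D.u⁻¹, hWu x x.2⟩
      map_one' := Subtype.ext (by simp)
      map_mul' := fun x y => Subtype.ext (by simp [mul_assoc]) }
  have hu2 : D.u * D.u = 1 := by
    have := pow_orderOf_eq_one D.u
    rwa [D.orderOf_u, sq] at this
  have hinv : ∀ x ∈ W, D.u * x * D.u⁻¹ = x⁻¹ := fun x hx => by
    have := InvolutionEigen.inverts_of_fpf f (fun y => Subtype.ext (by
      show D.u * (D.u * y * D.u⁻¹) * D.u⁻¹ = (y : G)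
      calc D.u * (D.u * y * D.u⁻¹) * D.u⁻¹ = D.u * D.u * y * (D.u * D.u)⁻¹ := by group
        _ = y := by rw [hu2]; simp))
      (fun y hy => Subtype.ext (D.T_inter_pGroup hp hW y.2 (by
        have h : D.u * y * D.u⁻¹ = (y : G) := congrArg Subtype.val hy
        have h' := (mul_inv_eq_iff_eq_mul.1 h).symm
        exact D.mem_T_of (hfix y y.2 h') h'))) ⟨x, hx⟩
    exact congrArg Subtype.val this
  have hmem : ∀ x ∈ W, x ∈ D.X ∨ x ∈ D.X' := fun x hx => by
    obtain ⟨k, hk⟩ := hW ⟨x, hx⟩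
    exact D.root_elem hp (mem_centralizer_singleton_iff.1 (hWt hx)) (k := k)
      (congrArg Subtype.val hk) (hinv x hx)
  by_contra hne
  obtain ⟨⟨x, hx, hxX⟩, y, hy, hyX⟩ : (∃ x ∈ W, x ∉ D.X) ∧ ∃ y ∈ W, y ∉ D.X' := by
    simpa [SetLike.not_le_iff_exists] using hne
  have hx' := (hmem x hx).resolve_left hxX
  have hy' := (hmem y hy).resolve_right hyX
  rcases hmem (x * y) (W.mul_mem hx hy) with h | h
  · exact hxX (by simpa using D.X.mul_mem h (D.X.inv_mem hy'))
  · exact hyX (by simpa using D.X'.mul_mem (D.X'.inv_mem hx') h)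

/-- A `p`-subgroup of `C(t)` normalised by `u` lies in a root group. -/
theorem root_cases [D.Exact] {p : ℕ} (hp : p.Prime) [CharP F p] {W : Subgroup G} (hW : IsPGroup p W)
    (hWt : W ≤ centralizer ({D.t} : Set G)) (hWu : ∀ x ∈ W, D.u * x * D.u⁻¹ ∈ W) :
    W ≤ D.X ∨ W ≤ D.X' :=
  D.root_cases_of hp hW hWt hWu fun _ hx _ => D.exists_lift (mem_centralizer_singleton_iff.1 (hWt hx))

theorem root_full {K : Subgroup G} (hK : ∀ h ∈ D.T, ∀ x ∈ K, h * x * h⁻¹ ∈ K) {x : G}
    (hx : x ∈ D.X) (hxK : x ∈ K) (hx1 : x ≠ 1) : D.X ≤ K := by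
  obtain ⟨a, rfl⟩ := hx
  rintro _ ⟨b, rfl⟩
  simp only
  have h0 : D.φ (uS (0 : F)) = 1 := by
    have e : (uS (0 : F) : Matrix.SpecialLinearGroup (Fin 2) F) = 1 := by
      apply Subtype.ext; ext i j; fin_cases i <;> fin_cases j <;> simp [uS]
    rw [e, map_one]
  have ha : a ≠ 0 := fun e => hx1 (by simp only [e, h0])
  rcases eq_or_ne b 0 with rfl | hb
  · rw [h0]; exact K.one_mem
  have := hK _ ⟨(Units.mk0 (b * a⁻¹) (mul_ne_zero hb (inv_ne_zero ha)), 1), rfl⟩ _ hxK
  convert this using 1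
  rw [MonoidHom.comp_apply, eq_mul_inv_iff_mul_eq]
  simp only [φ_apply]
  rw [← map_mul, ← map_mul]
  congr 1
  apply mG_ext
  rw [mG_mul, mG_mul, mG_dG, mG_iG, mG_iG]
  ext i j; fin_cases i <;> fin_cases j <;> simp [uS, Matrix.mul_apply, Fin.sum_univ_two]
  field_simp

/-- The conjugating element may be taken in the image. -/
theorem exists_conj_range {s : G} (hs : orderOf s = 2) (hc : s * D.t = D.t * s) (hne : s ≠ D.t) :
    ∃ c : G, c ∈ D.π.range ∧ c * D.t = D.t * c ∧ c * D.u * c⁻¹ = s := by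
  obtain ⟨g0, rfl⟩ := D.mem_of_two hc (k := 1) (by rw [pow_one, ← hs, pow_orderOf_eq_one])
  have hs2 : D.π g0 * D.π g0 = 1 := by
    have := pow_orderOf_eq_one (D.π g0)
    rwa [hs, sq] at this
  have hz : g0 * g0 ∈ D.π.ker := by rw [MonoidHom.mem_ker, map_mul, hs2]
  obtain ⟨m, hm⟩ := D.ker_odd
  set z := (g0 * g0) ^ m with hzdef
  have hzk : z ∈ D.π.ker := pow_mem hz m
  set g := g0 * z with hg
  have hπ : D.π g = D.π g0 := by rw [hg, map_mul, MonoidHom.mem_ker.1 hzk, mul_one]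
  have hcc : Commute g0 z := Subgroup.mem_center_iff.1 (D.ker_center hzk) g0
  have hg2 : g * g = 1 := by
    have e : g * g = g0 * g0 * (z * z) := by
      rw [hg, mul_assoc g0 z, ← mul_assoc z g0, ← hcc.eq]; group
    rw [e, hzdef, ← pow_add, ← pow_succ', ← two_mul, ← hm]
    exact congrArg Subtype.val (pow_card_eq_one' (x := (⟨_, hz⟩ : D.π.ker)))
  have hm2 := congrArg mG hg2
  rw [mG_mul] at hm2
  have e00 := congrFun (congrFun hm2 0) 0
  have e01 := congrFun (congrFun hm2 0) 1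
  have e10 := congrFun (congrFun hm2 1) 0
  have e11 := congrFun (congrFun hm2 1) 1
  simp [Matrix.mul_apply, Fin.sum_univ_two] at e00 e01 e10 e11
  have had : mG g 0 0 + mG g 1 1 = 0 := by
    by_contra hne'
    have b : mG g 0 1 = 0 := (mul_eq_zero.1 (show (mG g 0 0 + mG g 1 1) * mG g 0 1 = 0 by
      linear_combination e01)).resolve_left hne'
    have c : mG g 1 0 = 0 := (mul_eq_zero.1 (show (mG g 0 0 + mG g 1 1) * mG g 1 0 = 0 by
      linear_combination e10)).resolve_left hne'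
    rw [b, zero_mul, add_zero] at e00
    rw [c, zero_mul, zero_add] at e11
    have hd : mG g 1 1 = mG g 0 0 := by
      rcases mul_eq_zero.1 (show (mG g 1 1 - mG g 0 0) * (mG g 1 1 + mG g 0 0) = 0 by
        linear_combination e11 - e00) with h | h
      · exact sub_eq_zero.1 h
      · exact absurd (by linear_combination h) hne'
    rcases mul_eq_zero.1 (show (mG g 0 0 - 1) * (mG g 0 0 + 1) = 0 by linear_combination e00)
      with h | h
    · have : g = 1 := mG_ext (by
        ext i j; fin_cases i <;> fin_cases j <;> simp [b, c, hd, sub_eq_zero.1 h])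
      rw [← hπ, this, map_one, orderOf_one] at hs
      norm_num at hs
    · refine hne ?_
      rw [← hπ, ← D.π_neg]
      congr 1
      apply mG_ext
      rw [mG_dG]
      ext i j; fin_cases i <;> fin_cases j <;> simp [b, c, hd, eq_neg_of_add_eq_zero_left h]
  have hd : mG g 1 1 = -mG g 0 0 := eq_neg_of_add_eq_zero_right had
  obtain ⟨a, ha'⟩ : ∃ x, mG g 0 0 = x := ⟨_, rfl⟩
  obtain ⟨b, hb'⟩ : ∃ x, mG g 0 1 = x := ⟨_, rfl⟩
  obtain ⟨c, hc''⟩ : ∃ x, mG g 1 0 = x := ⟨_, rfl⟩
  rw [ha', hb', hc''] at e00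
  rw [ha'] at hd
  obtain ⟨M, hM, hgM⟩ : ∃ M : Matrix (Fin 2) (Fin 2) F, M.det ≠ 0 ∧
      mG g * M = M * mG (dG (1, -1)) := by
    by_cases ha : a = -1
    · rcases mul_eq_zero.1 (show b * c = 0 by rw [ha] at e00; linear_combination e00) with hb | hc'
      · refine ⟨!![0, 2; 1, -c], ?_, ?_⟩
        · simp [Matrix.det_fin_two, D.two_ne]
        · rw [mG_dG]
          ext i j; fin_cases i <;> fin_cases j <;>
            simp [Matrix.mul_apply, Fin.sum_univ_two, ha, hd, hb, ha', hb', hc''] <;> ring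
      · refine ⟨!![b, 1; 2, 0], ?_, ?_⟩
        · simp [Matrix.det_fin_two, D.two_ne]
        · rw [mG_dG]
          ext i j; fin_cases i <;> fin_cases j <;>
            simp [Matrix.mul_apply, Fin.sum_univ_two, ha, hd, hc', ha', hb', hc''] <;> ring
    · refine ⟨!![1 + a, b; c, -1 - a], ?_, ?_⟩
      · rw [Matrix.det_fin_two]
        simp
        intro h
        exact ha (by
          have : (2 : F) * (a + 1) = 0 := by linear_combination -h - e00
          exact eq_neg_of_add_eq_zero_left ((mul_eq_zero.1 this).resolve_left D.two_ne))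
      · rw [mG_dG]
        ext i j; fin_cases i <;> fin_cases j <;>
          simp [Matrix.mul_apply, Fin.sum_univ_two, hd, ha', hb', hc''] <;>
            first | linear_combination e00 | linear_combination -e00 | ring
  let Mg : GL (Fin 2) F := Matrix.GeneralLinearGroup.mkOfDetNeZero M hM
  refine ⟨D.π Mg, ⟨Mg, rfl⟩, D.comm_t _, ?_⟩
  rw [← hπ, u, ← map_inv, ← map_mul, ← map_mul]
  congr 1
  rw [mul_inv_eq_iff_eq_mul]
  apply mG_ext
  rw [mG_mul, mG_mul]
  exact hgM.symm

/-- The involutions of `C(t)` other than `t` form one class. -/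
theorem exists_conj_u {s : G} (hs : orderOf s = 2) (hc : s * D.t = D.t * s) (hne : s ≠ D.t) :
    ∃ c : G, c * D.t = D.t * c ∧ c * D.u * c⁻¹ = s :=
  let ⟨c, h⟩ := D.exists_conj_range hs hc hne
  ⟨c, h.2⟩

theorem oneClass (s s' : G) (hs : orderOf s = 2) (hs' : orderOf s' = 2)
    (hc : s * D.t = D.t * s) (hc' : s' * D.t = D.t * s') (hne : s ≠ D.t) (hne' : s' ≠ D.t) :
    ∃ c : G, c * D.t = D.t * c ∧ c * s * c⁻¹ = s' := by
  obtain ⟨c, hct, rfl⟩ := D.exists_conj_u hs hc hne
  obtain ⟨d, hdt, rfl⟩ := D.exists_conj_u hs' hc' hne'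
  refine ⟨d * c⁻¹, ?_, by group⟩
  exact (Commute.mul_left (hdt : Commute d D.t) (Commute.inv_left (hct : Commute c D.t))).eq

/-- The swap of the two coordinates. -/
def w2 : GL (Fin 2) F :=
  ⟨!![0, 1; 1, 0], !![0, 1; 1, 0],
    by ext i j; fin_cases i <;> fin_cases j <;> simp [Matrix.mul_apply, Fin.sum_univ_two],
    by ext i j; fin_cases i <;> fin_cases j <;> simp [Matrix.mul_apply, Fin.sum_univ_two]⟩

theorem mG_w2 : mG (w2 : GL (Fin 2) F) = !![0, 1; 1, 0] := rfl

/-- The torus has even index in `C(t)`. -/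
theorem two_dvd_relIndex : 2 ∣ D.T.relIndex (centralizer ({D.t} : Set G)) := by
  set C := centralizer ({D.t} : Set G)
  have hTC : D.T ≤ C := fun x hx => mem_centralizer_singleton_iff.2 (D.T_cent hx).1
  set v := D.π (w2 : GL (Fin 2) F) with hv
  have hw2 : ((w2 : GL (Fin 2) F) : GL (Fin 2) F) * (w2 : GL (Fin 2) F) = 1 := Units.val_injective (w2 : GL (Fin 2) F).val_inv
  have hconj : ∀ a b : Fˣ, (w2 : GL (Fin 2) F) * dG (a, b) * (w2 : GL (Fin 2) F)⁻¹ = dG (b, a) := fun a b => by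
    rw [mul_inv_eq_iff_eq_mul]
    apply mG_ext
    rw [mG_mul, mG_mul, mG_dG, mG_dG]
    rw [D.mG_w2]
    ext i j; fin_cases i <;> fin_cases j <;> simp [Matrix.mul_apply, Fin.sum_univ_two]
  set N := C ⊓ normalizer (D.T : Set G)
  have hvN : v ∈ N := by
    refine ⟨mem_centralizer_singleton_iff.2 (D.comm_t _), ?_⟩
    refine Coprime.mem_normalizer_of_forall fun x hx => ?_
    obtain ⟨⟨a, b⟩, rfl⟩ := hx
    refine ⟨(b, a), ?_⟩
    rw [hv, MonoidHom.comp_apply, MonoidHom.comp_apply, ← map_inv, ← map_mul, ← map_mul, hconj]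
  have hnot : v ∉ D.T := fun h => by
    have h2 := (D.T_cent h).2
    have := congrArg mG (D.comm_lift h2)
    rw [mG_mul, mG_mul, mG_dG] at this
    have e := congrFun (congrFun this 0) 1
    rw [D.mG_w2] at e
    simp [Matrix.mul_apply, Fin.sum_univ_two] at e
    exact D.two_ne (by linear_combination -e)
  have hTN : D.T ≤ N := le_inf hTC le_normalizer
  haveI : (D.T.subgroupOf N).Normal := Subgroup.normal_subgroupOf_of_le_normalizer inf_le_right
  have h2 : orderOf (QuotientGroup.mk' (D.T.subgroupOf N) ⟨v, hvN⟩) = 2 := by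
    refine orderOf_eq_prime ?_ fun h => hnot ((QuotientGroup.eq_one_iff (N := D.T.subgroupOf N) (⟨v, hvN⟩ : N)).1 h)
    rw [← map_pow]
    have : (⟨v, hvN⟩ : N) ^ 2 = 1 := Subtype.ext (by
      show v ^ 2 = 1
      rw [sq, hv, ← map_mul, hw2, map_one])
    rw [this, map_one]
  have h3 : 2 ∣ D.T.relIndex N := by
    rw [Subgroup.relIndex, Subgroup.index, ← h2]
    exact orderOf_dvd_natCard _
  exact h3.trans (Dvd.intro _ (Subgroup.relIndex_mul_relIndex D.T N C hTN inf_le_left))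

/-- A Sylow 2-subgroup of `G` lies in `C(t)`. -/
theorem exists_sylow : ∃ S : Sylow 2 G, (S : Subgroup G) ≤ centralizer ({D.t} : Set G) := by
  haveI : Fact (Nat.Prime 2) := ⟨Nat.prime_two⟩
  set C := centralizer ({D.t} : Set G) with hCdef
  obtain ⟨S0⟩ : Nonempty (Sylow 2 C) := inferInstance
  set S : Subgroup G := (S0 : Subgroup C).map C.subtype with hSdef
  have hSC : S ≤ C := map_subtype_le _
  obtain ⟨P, hSP⟩ := (S0.2.map C.subtype).exists_le_sylow
  refine ⟨P, ?_⟩
  by_contra hPC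
  have hlt : S < (P : Subgroup G) := lt_of_le_of_ne hSP fun e => hPC (e ▸ hSC)
  have htC : D.t ∈ C := mem_centralizer_singleton_iff.2 rfl
  have htS : D.t ∈ S := by
    have hp : IsPGroup 2 (zpowers (⟨D.t, htC⟩ : C)) := IsPGroup.of_card (n := 1) (by
      rw [Nat.card_zpowers, Subgroup.orderOf_mk, D.orderOf_t, pow_one])
    obtain ⟨Q, hQ⟩ := hp.exists_le_sylow
    obtain ⟨g, hg⟩ := MulAction.exists_smul_eq C Q S0
    have h1 : MulAut.conj g • (⟨D.t, htC⟩ : C) ∈ MulAut.conj g • (Q : Subgroup C) :=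
      Subgroup.smul_mem_pointwise_smul _ _ _ (hQ (mem_zpowers _))
    have h2 : ((g • Q : Sylow 2 C) : Subgroup C) = MulAut.conj g • (Q : Subgroup C) := rfl
    rw [← h2, hg] at h1
    refine ⟨_, h1, ?_⟩
    show (g : G) * D.t * (g : G)⁻¹ = D.t
    rw [mem_centralizer_singleton_iff.1 g.2, mul_inv_cancel_right]
  have := Group.normalizerCondition_of_isNilpotent (G := (P : Subgroup G)) (h := P.2.isNilpotent)
    (S.subgroupOf P) (by
      rw [lt_top_iff_ne_top, Ne, subgroupOf_eq_top]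
      exact fun h => hlt.not_ge h)
  obtain ⟨r, hr, hrS⟩ := SetLike.exists_of_lt this
  have hrS' : (r : G) ∉ S := hrS
  have hS : ∀ x ∈ S, (r : G) * x * (r : G)⁻¹ ∈ S := fun x hx =>
    (mem_normalizer_iff.1 hr ⟨x, hSP hx⟩).1 hx
  by_cases hrt : (r : G) * D.t * (r : G)⁻¹ = D.t
  · -- then `r` enlarges the Sylow subgroup of `C`
    have hrC : (r : G) ∈ C := mem_centralizer_singleton_iff.2 (mul_inv_eq_iff_eq_mul.1 hrt)
    have hle : (S0 : Subgroup C) ≤ ((P : Subgroup G) ⊓ C).subgroupOf C := fun x hx =>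
      ⟨hSP ⟨x, hx, rfl⟩, x.2⟩
    have hP2 : IsPGroup 2 (((P : Subgroup G) ⊓ C).subgroupOf C) :=
      (P.2.to_le inf_le_left).of_equiv (subgroupOfEquivOfLe inf_le_right).symm
    have e := S0.3 hP2 hle
    refine hrS' ⟨⟨r, hrC⟩, ?_, rfl⟩
    rw [SetLike.mem_coe, ← e]
    exact ⟨r.2, hrC⟩
  · set s := (r : G) * D.t * (r : G)⁻¹ with hs
    have hso : orderOf s = 2 := by
      rw [hs]; exact ((MulAut.conj (r : G)).orderOf_eq D.t).trans D.orderOf_t
    have hst : s * D.t = D.t * s := mem_centralizer_singleton_iff.1 (hSC (hS _ htS))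
    have hcen : ∀ x ∈ S, x * s = s * x := by
      have hS' : ∀ x ∈ S, (r : G)⁻¹ * x * (r : G) ∈ S := fun x hx => by
        have := (mem_normalizer_iff.1 ((normalizer _).inv_mem hr) ⟨x, hSP hx⟩).1 hx
        simpa [Subgroup.mem_subgroupOf] using this
      intro x hx
      have h := mem_centralizer_singleton_iff.1 (hSC (hS' x hx))
      calc x * s = (r : G) * ((r : G)⁻¹ * x * r * D.t) * (r : G)⁻¹ := by rw [hs]; group
        _ = (r : G) * (D.t * ((r : G)⁻¹ * x * r)) * (r : G)⁻¹ := by rw [h]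
        _ = s * x := by rw [hs]; group
    obtain ⟨c, hct, hcs⟩ := D.exists_conj_u hso hst hrt
    have hcC : c ∈ C := mem_centralizer_singleton_iff.2 hct
    have hle : (S0 : Subgroup C) ≤ MulAut.conj (⟨c, hcC⟩ : C) • (D.T.subgroupOf C) := by
      intro x hx
      rw [Coprime.mem_conj, Subgroup.mem_subgroupOf]
      have hxS : (x : G) ∈ S := ⟨x, hx, rfl⟩
      show c⁻¹ * (x : G) * c ∈ D.T
      refine D.mem_T_of ?_ ?_
      · obtain ⟨k, hk⟩ := P.2 ⟨_, hSP hxS⟩
        have hk' : (x : G) ^ 2 ^ k = 1 := congrArg Subtype.val hk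
        obtain ⟨g, hg⟩ := D.mem_of_two (mem_centralizer_singleton_iff.1 x.2) hk'
        exact MonoidHom.mem_range.1 (by simpa using D.normal _ (C.inv_mem hcC) _ ⟨g, hg⟩)
      · have h := hcen _ hxS
        rw [← hcs] at h
        calc c⁻¹ * x * c * D.u = c⁻¹ * ((x : G) * (c * D.u * c⁻¹)) * c := by group
          _ = D.u * (c⁻¹ * x * c) := by rw [h]; group
    have hidx := Subgroup.index_dvd_of_le hle
    have he : (MulAut.conj (⟨c, hcC⟩ : C) • (D.T.subgroupOf C)).index =
        (D.T.subgroupOf C).index := Subgroup.index_map_equiv _ _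
    exact S0.not_dvd_index ((D.two_dvd_relIndex.trans (dvd_of_eq he.symm)).trans hidx)

/-- `t` and `u` are interchanged by an element of a simple group. -/
theorem exists_swap [IsSimpleGroup G] : ∃ a : G, a * D.t * a⁻¹ = D.u ∧ a * D.u * a⁻¹ = D.t := by
  by_contra hno
  have hfus : ∀ g : G, g * D.t * g⁻¹ ≠ D.u := by
    intro g hg
    have hgu : g⁻¹ * D.t * g * D.t = D.t * (g⁻¹ * D.t * g) := by
      have hc : D.t * (g * D.t * g⁻¹) = (g * D.t * g⁻¹) * D.t := by
        rw [hg]; exact (D.T_cent D.u_mem).1.symm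
      calc g⁻¹ * D.t * g * D.t = g⁻¹ * (D.t * (g * D.t * g⁻¹)) * g := by group
        _ = D.t * (g⁻¹ * D.t * g) := by rw [hc]; group
    have ho : orderOf (g⁻¹ * D.t * g) = 2 := by
      rw [← D.orderOf_t]
      simpa using (MulAut.conj g⁻¹).orderOf_eq D.t
    have hne : g⁻¹ * D.t * g ≠ D.t := fun e => D.u_ne_t (by
      rw [← hg]
      calc g * D.t * g⁻¹ = g * (g⁻¹ * D.t * g) * g⁻¹ := by rw [e]
        _ = D.t := by group)
    obtain ⟨c, hct, hc⟩ := D.exists_conj_u ho hgu hne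
    refine hno ⟨g * c, ?_, ?_⟩
    · calc g * c * D.t * (g * c)⁻¹ = g * (c * D.t) * c⁻¹ * g⁻¹ := by group
        _ = D.u := by rw [hct, ← hg]; group
    · calc g * c * D.u * (g * c)⁻¹ = g * (c * D.u * c⁻¹) * g⁻¹ := by group
        _ = D.t := by rw [hc]; group
  have hiso : Cfsg.IsIsolatedInvolution D.t := by
    refine ⟨D.orderOf_t, fun g hc => ?_⟩
    by_contra hne
    obtain ⟨c, -, hc'⟩ := D.exists_conj_u (s := g * D.t * g⁻¹)
      (by rw [← D.orderOf_t]; exact (MulAut.conj g).orderOf_eq D.t) hc.eq.symm hne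
    refine hfus (c⁻¹ * g) ?_
    calc c⁻¹ * g * D.t * (c⁻¹ * g)⁻¹ = c⁻¹ * (g * D.t * g⁻¹) * c := by group
      _ = D.u := by rw [← hc']; group
  obtain ⟨N, hN, hodd, hcen⟩ := Transfer.exists_odd_normal_of_isolated hiso
  have h2 : 2 ∣ Nat.card G := D.orderOf_t ▸ orderOf_dvd_natCard D.t
  rcases IsSimpleGroup.eq_bot_or_eq_top_of_normal N hN with rfl | rfl
  · have ht : D.t ∈ center G := mem_center_iff.2 fun g => by
      exact (mul_inv_eq_iff_eq_mul.1 (mul_inv_eq_one.1 (mem_bot.1 (hcen g)))).symm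
    have hbot : center G = ⊤ := ((IsSimpleGroup.eq_bot_or_eq_top_of_normal (center G)
      inferInstance).resolve_left fun h => by
        rw [h, mem_bot] at ht
        have := D.orderOf_t
        rw [ht, orderOf_one] at this
        norm_num at this)
    have hc : D.φ (uS 1) * D.u = D.u * D.φ (uS 1) :=
      (mem_center_iff.1 (hbot ▸ mem_top (D.φ (uS 1)) : D.φ (uS 1) ∈ center G) D.u).symm
    have := congrArg mG (D.comm_lift (g := iG (uS 1)) hc)
    rw [mG_mul, mG_mul, mG_iG, mG_dG] at this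
    have e := congrFun (congrFun this 0) 1
    simp [uS, Matrix.mul_apply, Fin.sum_univ_two] at e
    exact D.two_ne (by linear_combination -e)
  · rw [Subgroup.card_top] at hodd
    exact Nat.not_even_iff_odd.2 hodd (even_iff_two_dvd.2 h2)

end LData

end Cfsg.Agent.LThreeRec
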