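import Cfsg.Agent.Lib.LThreeRec.Roots
import Cfsg.Agent.Lib.LThreeRec.Equations
import Mathlib.GroupTheory.Sylow

/-!
# Characterising `PSL(3, q)`: local lemmas for the bad configurations

* `sylow_congr`: Sylow congruence from small intersections
* `card_eq_sylow`: a `p`-subgroup of index prime to `p` in its normalizer is a Sylow subgroup
* `Hyp.cent_vp`, `Hyp.g_vp`: `p`-parts
* `Hyp.sq_mem_T`, `Hyp.pprime_of_no_root`: subgroups of `C(t)` over `T` without root elements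
* `Hyp.mem_borel_of_norm`: normalizer of a root group in `C(t)`
* `Hyp.p_le_of_blocks`: a `p`-group normalised by the four-group
-/

set_option autoImplicit false
set_option linter.unusedSectionVars false
set_option linter.style.haveILetI false

namespace Cfsg.Agent.LThreeRec

open Subgroup
open scoped Pointwise

section general

variable {G : Type*} [Group G] [Finite G] {p : ℕ} [hp : Fact p.Prime]

/-- A `p`-subgroup of index prime to `p` in its normalizer has Sylow order. -/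
theorem card_eq_sylow {P : Subgroup G} (hP : IsPGroup p P) (h : ¬ p ∣ P.relIndex (normalizer (P : Set G))) :
    Nat.card P = p ^ (Nat.card G).factorization p := by
  obtain ⟨m, hm⟩ := hP.exists_card_eq
  have hle : m ≤ (Nat.card G).factorization p :=
    (Nat.Prime.pow_dvd_iff_le_factorization hp.out Nat.card_pos.ne').1 (hm ▸ Subgroup.card_subgroup_dvd_card P)
  rcases hle.eq_or_lt with e | hlt
  · rw [hm, e]
  · refine absurd ?_ h
    have hd : p ^ (m + 1) ∣ Nat.card G := (Nat.Prime.pow_dvd_iff_le_factorization hp.out Nat.card_pos.ne').2 hlt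
    have := Sylow.prime_dvd_card_quotient_normalizer hd hm
    rwa [← Subgroup.index_eq_card] at this

/-- Sylow congruence from the orders of the intersections. -/
theorem sylow_congr (P : Sylow p G) {d : ℕ}
    (h : ∀ Q : Sylow p G, Q ≠ P → d ∣ ((Q : Subgroup G) ⊓ P).relIndex (P : Subgroup G)) :
    d ∣ Nat.card (Sylow p G) - 1 := by
  classical
  let Y := {Q : Sylow p G // Q ≠ P}
  have hfix : ∀ a : (P : Subgroup G), (a : G) • P = P := fun a =>
    Sylow.smul_eq_iff_mem_normalizer.2 (le_normalizer a.2)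
  letI act : MulAction (P : Subgroup G) Y :=
    { smul := fun a Q => ⟨(a : G) • Q.1, fun e => Q.2 (smul_left_cancel (a : G) (e.trans (hfix a).symm))⟩
      one_smul := fun Q => Subtype.ext (one_smul G Q.1)
      mul_smul := fun a b Q => Subtype.ext (mul_smul (a : G) (b : G) Q.1) }
  have hY : Nat.card Y = Nat.card (Sylow p G) - 1 := by
    haveI := Fintype.ofFinite (Sylow p G)
    rw [Nat.card_eq_fintype_card, Nat.card_eq_fintype_card, Fintype.card_subtype_compl,
      Fintype.card_subtype_eq]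
  haveI := Fintype.ofFinite (Quotient (MulAction.orbitRel (P : Subgroup G) Y))
  rw [← hY, Nat.card_congr (MulAction.selfEquivSigmaOrbitsQuotientStabilizer (P : Subgroup G) Y), Nat.card_sigma]
  refine Finset.dvd_sum fun ω _ => ?_
  have e : MulAction.stabilizer (P : Subgroup G) ω.out =
      ((ω.out.1 : Subgroup G) ⊓ P).subgroupOf P := by
    ext a
    rw [mem_subgroupOf, mem_inf, MulAction.mem_stabilizer_iff]
    have e2 : a • ω.out = ω.out ↔ (a : G) • ω.out.1 = ω.out.1 := Subtype.ext_iff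
    rw [e2, Sylow.smul_eq_iff_mem_normalizer]
    constructor
    · intro ha
      have := (P.2.inf_normalizer_sylow ω.out.1).le ⟨a.2, ha⟩
      exact ⟨this.2, a.2⟩
    · exact fun ha => le_normalizer ha.1
  rw [← Subgroup.index_eq_card, e]
  exact h _ ω.out.2

end general

namespace Hyp

variable {F : Type*} [Field F] [Fintype F] {G : Type*} [Group G] [Finite G] [IsSimpleGroup G] (H : Hyp F G)
include H

section exact

variable [H.Exact]

theorem card_cent_eq_T : Nat.card (centralizer {H.t}) = Nat.card H.T * (Fintype.card F * (Fintype.card F + 1)) := by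
  refine Nat.eq_of_mul_eq_mul_right (Nat.card_pos (α := H.π.ker)) ?_
  rw [H.card_cent, mul_assoc, mul_comm (Fintype.card F * _), ← mul_assoc, H.card_T]
  obtain ⟨r, hr⟩ : ∃ r, Fintype.card F = r + 1 := ⟨Fintype.card F - 1, by have := Fintype.one_lt_card (α := F); omega⟩
  rw [hr, Nat.add_sub_cancel, show (r + 1) ^ 2 - 1 = r * r + 2 * r from
    Nat.sub_eq_of_eq_add (by ring), show (r + 1) ^ 2 - (r + 1) = r * r + r from
    Nat.sub_eq_of_eq_add (by ring)]
  ring

section char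

variable {p n : ℕ} [CharP F p] (hp : p.Prime) (hF : Fintype.card F = p ^ n)
include hp hF

theorem one_le_n : 1 ≤ n := by
  rcases Nat.eq_zero_or_pos n with rfl | h
  · have := Fintype.one_lt_card (α := F); rw [hF, pow_zero] at this; omega
  · exact h

theorem p_dvd_q : p ∣ Fintype.card F := hF ▸ dvd_pow_self p (by have := H.one_le_n hp hF; omega)

theorem T_not_dvd : ¬ p ∣ Nat.card H.T := fun h => by
  have h1 : p ∣ (Fintype.card F - 1) ^ 2 := H.card_T ▸ h.mul_right _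
  have h2 := Nat.dvd_sub (H.p_dvd_q hp hF) (hp.dvd_of_dvd_pow h1)
  rw [Nat.sub_sub_self (Fintype.one_lt_card (α := F)).le] at h2
  exact hp.not_dvd_one h2

theorem cent_vp : (Nat.card (centralizer {H.t})).factorization p = n := by
  rw [H.card_cent_eq_T, Nat.factorization_mul Nat.card_pos.ne' (by positivity), Finsupp.add_apply,
    Nat.factorization_eq_zero_of_not_dvd (H.T_not_dvd hp hF), zero_add,
    Nat.factorization_mul (by have := Fintype.one_lt_card (α := F); omega) (by omega), Finsupp.add_apply,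
    Nat.factorization_eq_zero_of_not_dvd (n := Fintype.card F + 1) (fun h => hp.not_dvd_one
      ((Nat.dvd_add_right (H.p_dvd_q hp hF)).1 h)), add_zero, hF, Nat.Prime.factorization_pow hp,
    Finsupp.single_eq_same]

theorem g_vp : (Nat.card G).factorization p = (centralizer {H.t}).index.factorization p + n := by
  rw [← (centralizer {H.t}).index_mul_card, Nat.factorization_mul index_ne_zero_of_finite Nat.card_pos.ne',
    Finsupp.add_apply, H.cent_vp hp hF]

end char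

end exact

theorem lift_dg_le {L : Subgroup G} (hT : H.T ≤ L) : (dg (F := F)).range ≤ L.comap H.π :=
  fun _ ⟨a, ha⟩ => hT ⟨_, ⟨a, rfl⟩, congrArg H.π ha⟩

/-- Subgroups of `C(t)` over `T` without root elements are monomial. -/
theorem sq_mem_T (h7 : 7 ≤ Fintype.card F) {L : Subgroup G} (hT : H.T ≤ L)
    (hu : ∀ x ∈ L, x ∈ H.Xp → x = 1) (hv : ∀ x ∈ L, x ∈ H.Xm → x = 1)
    {x : G} (hx : x ∈ L) (hxt : x ∈ H.π.range) : x * x ∈ H.T := by
  obtain ⟨g, rfl⟩ := hxt
  have h := monomial (L := L.comap H.π) (H.lift_dg_le hT)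
    (fun c hc => H.π_u_injective (hu _ hc ⟨_, ⟨_, rfl⟩, rfl⟩))
    (fun c hc => H.π_v_injective (hv _ hc ⟨_, ⟨_, rfl⟩, rfl⟩)) H.two_ne h7 (g := g) hx
  refine ⟨g * g, mem_dg ?_ ?_, map_mul _ _ _⟩
  · rcases h with h | h <;> simp [h.1, h.2]
  · rcases h with h | h <;> simp [h.1, h.2]

theorem mem_T_of_odd (h7 : 7 ≤ Fintype.card F) {L : Subgroup G} (hT : H.T ≤ L)
    (hu : ∀ x ∈ L, x ∈ H.Xp → x = 1) (hv : ∀ x ∈ L, x ∈ H.Xm → x = 1)
    {x : G} (hx : x ∈ L) (hxt : x ∈ H.π.range) (hodd : Odd (orderOf x)) : x ∈ H.T := by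
  have h := H.sq_mem_T h7 hT hu hv hx hxt
  obtain ⟨k, hk⟩ := hodd
  have e : x = ((x * x) ^ k)⁻¹ := by
    refine eq_inv_of_mul_eq_one_left ?_
    rw [← sq, ← pow_mul, ← pow_succ', ← hk, pow_orderOf_eq_one]
  rw [e]
  exact inv_mem (pow_mem h k)

/-- A `p`-element of `C(t)` has a unipotent lift. -/
theorem exists_unipotent {p : ℕ} [CharP F p] (hp : p.Prime) {x : G} (hxt : x ∈ H.π.range) {k : ℕ}
    (hk : x ^ p ^ k = 1) :
    ∃ g : GL (Fin 2) F, H.π g = x ∧ g 0 0 + g 1 1 = 2 ∧ g 0 0 * g 1 1 - g 0 1 * g 1 0 = 1 := by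
  haveI := Fact.mk hp
  obtain ⟨g0, rfl⟩ := hxt
  have hz : g0 ^ p ^ k ∈ H.π.ker := by rw [MonoidHom.mem_ker, map_pow, hk]
  have hkerp : ∀ z ∈ H.π.ker, z ^ p ^ k = 1 → z = 1 := fun z hz h =>
    orderOf_eq_one_iff.1 (Nat.eq_one_of_dvd_coprimes (H.toLData.coprime_units hp k)
      (orderOf_dvd_of_pow_eq_one h) (orderOf_dvd_of_pow_eq_one (H.toLData.ker_pow hz)))
  let f : H.π.ker → H.π.ker := fun z => z ^ p ^ k
  have hinj : Function.Injective f := fun a b h => by
    have hc : Commute (a : GL (Fin 2) F) (b : GL (Fin 2) F) := (mem_center_iff.1 (H.ker_le a.2) b).symm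
    have h' : (a : GL (Fin 2) F) ^ p ^ k = (b : GL (Fin 2) F) ^ p ^ k := congrArg Subtype.val h
    have := hkerp _ (mul_mem a.2 (inv_mem b.2)) (by rw [hc.inv_right.mul_pow, h', inv_pow, mul_inv_cancel])
    exact Subtype.ext (mul_inv_eq_one.1 this)
  obtain ⟨z, hz'⟩ := (Finite.injective_iff_surjective.1 hinj) ⟨_, hz⟩
  have hze : (z : GL (Fin 2) F) ^ p ^ k = g0 ^ p ^ k := congrArg Subtype.val hz'
  set g := g0 * (z : GL (Fin 2) F)⁻¹ with hg
  have hcz : Commute g0 (z : GL (Fin 2) F)⁻¹ := Commute.inv_right (mem_center_iff.1 (H.ker_le z.2) g0)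
  have hgP : g ^ p ^ k = 1 := by rw [hg, hcz.mul_pow, inv_pow, hze, mul_inv_cancel]
  have hdet : (g : Matrix (Fin 2) (Fin 2) F).det = 1 := by
    have h' := congrArg (fun a : GL (Fin 2) F => (a : Matrix (Fin 2) (Fin 2) F).det) hgP
    simp only [Units.val_pow_eq_pow_val, Units.val_one, Matrix.det_pow, Matrix.det_one] at h'
    rw [← iterate_frobenius] at h'
    exact (frobenius_inj F p).iterate k (h'.trans (by rw [iterate_frobenius, one_pow]))
  have hz0 : ((g : Matrix (Fin 2) (Fin 2) F) - 1).det = 0 := by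
    have h' : ((g : Matrix (Fin 2) (Fin 2) F) - 1) ^ p ^ k = 0 := by
      rw [sub_pow_char_pow_of_commute _ _ (Commute.one_right _), one_pow, ← Units.val_pow_eq_pow_val, hgP,
        Units.val_one, sub_self]
    have := congrArg Matrix.det h'
    rw [Matrix.det_pow, Matrix.det_zero] at this
    exact eq_zero_of_pow_eq_zero this
  rw [Matrix.det_fin_two] at hz0 hdet
  simp [Matrix.one_apply] at hz0
  refine ⟨g, ?_, by linear_combination hdet - hz0, hdet⟩
  rw [hg, map_mul, map_inv, MonoidHom.mem_ker.1 z.2, inv_one, mul_one]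

/-- Subgroups of `C(t)` over `T` without root elements are `p'`-groups. -/
theorem pprime_of_no_root' {p : ℕ} [CharP F p] (hp : p.Prime) (h5 : 7 ≤ Fintype.card F ∨ p ≠ 3) {L : Subgroup G}
    (hT : H.T ≤ L) (hLt : L ≤ H.π.range)
    (hu : ∀ x ∈ L, x ∈ H.Xp → x = 1) (hv : ∀ x ∈ L, x ∈ H.Xm → x = 1) : ¬ p ∣ Nat.card L := by
  haveI := Fact.mk hp
  intro hd
  obtain ⟨y, hy⟩ := exists_prime_orderOf_dvd_card' (G := L) p hd
  rw [← Subgroup.orderOf_coe] at hy
  have hy1 : (y : G) ≠ 1 := fun e => by rw [e, orderOf_one] at hy; exact hp.one_lt.ne hy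
  rcases h5 with h7 | h3
  · refine hy1 (H.T_inter_p hp (IsPGroup.of_card (n := 1) (by rw [Nat.card_zpowers, hy, pow_one]))
      (mem_zpowers (y : G)) (H.mem_T_of_odd h7 hT hu hv y.2 (hLt y.2) ?_))
    rw [hy]; exact H.odd_p hp
  · obtain ⟨g, hg, htr, hdet⟩ := H.exists_unipotent hp (hLt y.2) (k := 1)
      (by rw [pow_one, ← hy, pow_orderOf_eq_one])
    refine hy1 ?_
    rw [← hg, eq_one_of_unipotent (L := L.comap H.π) (H.lift_dg_le hT)
      (fun c hc => H.π_u_injective (hu _ hc ⟨_, ⟨_, rfl⟩, rfl⟩))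
      (fun c hc => H.π_v_injective (hv _ hc ⟨_, ⟨_, rfl⟩, rfl⟩)) H.two_ne
      (fun e => h3 ?_) (show g ∈ L.comap H.π from by rw [mem_comap, hg]; exact y.2) htr hdet, map_one]
    exact (Nat.prime_dvd_prime_iff_eq hp Nat.prime_three).1
      ((CharP.cast_eq_zero_iff F p 3).1 (by exact_mod_cast e))

theorem pprime_of_no_root [H.Exact] {p : ℕ} [CharP F p] (hp : p.Prime) (h5 : 7 ≤ Fintype.card F ∨ p ≠ 3) {L : Subgroup G}
    (hT : H.T ≤ L) (hLt : L ≤ centralizer {H.t})
    (hu : ∀ x ∈ L, x ∈ H.Xp → x = 1) (hv : ∀ x ∈ L, x ∈ H.Xm → x = 1) : ¬ p ∣ Nat.card L :=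
  H.pprime_of_no_root' hp h5 hT (H.range_t.symm ▸ hLt) hu hv

/-- The normalizer of a root group in `C(t)`. -/
theorem mem_borel_of_norm [H.Exact] {h : G} (ht : h ∈ centralizer {H.t}) (hn : ∀ x ∈ H.Xp, h * x * h⁻¹ ∈ H.Xp) :
    ∃ τ ∈ H.T, ∃ y ∈ H.Xp, h = τ * y := by
  obtain ⟨g, rfl⟩ := H.exists_of_mem_cent ht
  obtain ⟨_, ⟨a, rfl⟩, ha⟩ := hn _ ⟨_, ⟨Multiplicative.ofAdd (1 : F), rfl⟩, rfl⟩
  have hk : g * u 1 * (up a * g)⁻¹ ∈ H.π.ker := by
    rw [MonoidHom.mem_ker, map_mul, map_mul, map_inv, map_mul, ha]; group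
  obtain ⟨k01, k10, k00⟩ := center_scalar (H.ker_le hk)
  have e : g * u 1 * (up a * g)⁻¹ * (up a * g) = g * u 1 := inv_mul_cancel_right _ _
  have e10 := congrArg (fun m : GL (Fin 2) F => m 1 0) e
  have e11 := congrArg (fun m : GL (Fin 2) F => m 1 1) e
  generalize g * u 1 * (up a * g)⁻¹ = k at k01 k10 k00 e10 e11
  simp [up, k10] at e10 e11
  have h10 : g 1 0 = 0 := by
    by_contra h
    have hb : k 1 1 = 1 := mul_right_cancel₀ h (by linear_combination e10)
    rw [hb] at e11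
    exact h (by linear_combination -e11)
  have hd := GLOrder.GL2_det g
  rw [h10, mul_zero, sub_zero] at hd
  refine ⟨H.π (dg (Units.mk0 _ (left_ne_zero_of_mul hd), Units.mk0 _ (right_ne_zero_of_mul hd))),
    ⟨_, ⟨_, rfl⟩, rfl⟩, H.π (u ((g 0 0)⁻¹ * g 0 1)), ⟨_, ⟨_, rfl⟩, rfl⟩, ?_⟩
  rw [← map_mul]
  congr 1
  exact ext2 (by simp) (by simp [← mul_assoc, mul_inv_cancel₀ (left_ne_zero_of_mul hd)]) (by simp [h10]) (by simp)

/-- A `p`-group normalised by the four-group lies in any subgroup containing the root parts. -/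
theorem p_le_of_blocks' {p : ℕ} [CharP F p] (hp : p.Prime) {σ : G} (hσ : σ * H.t * σ⁻¹ = H.s)
    (hσ' : σ * H.s * σ⁻¹ = H.t * H.s) {P W : Subgroup G} (hP : IsPGroup p P)
    (hU : H.U4 ≤ normalizer (P : Set G))
    (hfix : ∀ y ∈ P, y ∈ centralizer {H.t} → y * H.s = H.s * y → y ∈ H.T)
    (h0 : ∀ y ∈ P, (y ∈ H.Xp ∨ y ∈ H.Xm) → y ∈ W)
    (h1 : ∀ y ∈ P, (y ∈ (H.conj σ).Xp ∨ y ∈ (H.conj σ).Xm) → y ∈ W)
    (h2 : ∀ y ∈ P, (y ∈ (H.conj (σ * σ)).Xp ∨ y ∈ (H.conj (σ * σ)).Xm) → y ∈ W) : P ≤ W := by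
  haveI := Fact.mk hp
  have hodd : Odd (Nat.card P) := by
    obtain ⟨m, hm⟩ := hP.exists_card_eq
    rw [hm]; exact (H.odd_p hp).pow
  have hblock : ∀ (g a b : G), (H.conj g).t = a → (H.conj g).s = b → a ∈ H.U4 → b ∈ H.U4 →
      (H.conj g).T = H.T →
      (∀ y : G, y * a = a * y → y * b = b * y → y ∈ centralizer {H.t} ∧ y * H.s = H.s * y) →
      ∀ y ∈ P, y * a = a * y → y ∈ (H.conj g).Xp ∨ y ∈ (H.conj g).Xm := by
    intro g a b hga hgb ha hb hgT hU4 y hy hya
    have hW : ∀ x ∈ P ⊓ centralizer {a}, (H.conj g).s * x * (H.conj g).s⁻¹ ∈ P ⊓ centralizer {a} := by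
      intro x hx
      rw [hgb]
      refine ⟨(mem_normalizer_iff.1 (hU hb) x).1 hx.1, ?_⟩
      have hba : b ∈ centralizer {a} :=
        mem_centralizer_singleton_iff.2 (H.T_comm (H.U4_le_T hb) (H.U4_le_T ha))
      exact (centralizer {a}).mul_mem ((centralizer {a}).mul_mem hba hx.2) ((centralizer {a}).inv_mem hba)
    have h := (H.conj g).root_cases_of hp (W := P ⊓ centralizer {a}) (hP.to_le inf_le_left)
      (by rw [hga]; exact inf_le_right) hW fun x hx hxs => by
        rw [hgb] at hxs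
        obtain ⟨h1, h2⟩ := hU4 x (mem_centralizer_singleton_iff.1 hx.2) hxs
        have hxT := hfix x hx.1 h1 h2
        rw [← hgT] at hxT
        obtain ⟨k, -, hk⟩ := hxT
        exact ⟨k, hk⟩
    have hyW : y ∈ P ⊓ centralizer {a} := ⟨hy, mem_centralizer_singleton_iff.2 hya⟩
    exact h.imp (fun h => h hyW) fun h => h hyW
  refine H.le_of_four hodd hU fun a ha ha1 y hy => ?_
  have hya := mem_centralizer_singleton_iff.1 hy.2
  rcases ha with rfl | rfl | rfl | rfl
  · exact absurd rfl ha1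
  · have := hblock 1 H.t H.s (by rw [conj_t]; group) (by rw [conj_s]; group) H.t_mem_U4 H.s_mem_U4
      (by rw [conj_T, map_one, show (1 : MulAut G).toMonoidHom = MonoidHom.id G from rfl, map_id])
      (fun y h1 h2 => ⟨mem_centralizer_singleton_iff.2 h1, h2⟩) y hy.1 hya
    refine h0 y hy.1 ?_
    rwa [conj_Xp, conj_Xm, map_one, show (1 : MulAut G).toMonoidHom = MonoidHom.id G from rfl, map_id, map_id] at this
  · refine h1 y hy.1 (hblock σ H.s (H.t * H.s) hσ hσ' H.s_mem_U4 (Or.inr (Or.inr (Or.inr rfl)))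
      (H.conjT hσ hσ') (fun y e1 e2 => ⟨mem_centralizer_singleton_iff.2 ?_, e1⟩) y hy.1 hya)
    have h := (Commute.mul_right (e2 : Commute y (H.t * H.s)) (e1 : Commute y H.s))
    rwa [mul_assoc, Involution.mul_self H.s_order, mul_one] at h
  · refine h2 y hy.1 (hblock (σ * σ) (H.t * H.s) H.t (H.conj2_t hσ hσ') (H.conj2_s hσ hσ')
      (Or.inr (Or.inr (Or.inr rfl))) H.t_mem_U4 (H.conjT2 hσ hσ')
      (fun y e1 e2 => ⟨mem_centralizer_singleton_iff.2 e2, ?_⟩) y hy.1 hya)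
    have h := (Commute.mul_right (e2 : Commute y H.t) (e1 : Commute y (H.t * H.s)))
    rwa [← mul_assoc, Involution.mul_self H.t_order, one_mul] at h

/-- A `p`-group normalised by the four-group lies in any subgroup containing the root parts. -/
theorem p_le_of_blocks [H.Exact] {p : ℕ} [CharP F p] (hp : p.Prime) {σ : G} (hσ : σ * H.t * σ⁻¹ = H.s)
    (hσ' : σ * H.s * σ⁻¹ = H.t * H.s) {P W : Subgroup G} (hP : IsPGroup p P)
    (hU : H.U4 ≤ normalizer (P : Set G))
    (h0 : ∀ y ∈ P, (y ∈ H.Xp ∨ y ∈ H.Xm) → y ∈ W)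
    (h1 : ∀ y ∈ P, (y ∈ (H.conj σ).Xp ∨ y ∈ (H.conj σ).Xm) → y ∈ W)
    (h2 : ∀ y ∈ P, (y ∈ (H.conj (σ * σ)).Xp ∨ y ∈ (H.conj (σ * σ)).Xm) → y ∈ W) : P ≤ W :=
  H.p_le_of_blocks' hp hσ hσ' hP hU (fun _ _ ht hs => H.mem_T_iff.2 ⟨ht, hs⟩) h0 h1 h2

end Hyp

end Cfsg.Agent.LThreeRec
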