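import Cfsg.Agent.Lib.LThreeRec.Equations
import Cfsg.Agent.Lib.InvolChar.WreathBranch

/-!
# Characterising `PSL(3, q)` by an involution centralizer: the index of `C(t)`

* `Hyp.card_cent_eq` : `|C(t)| = q (q + 1) |T|`;
* `Hyp.index_of_one_mod_four` : `|G : C(t)| = q² (q² + q + 1)` for `q ≡ 1 (mod 4)`;
* `Hyp.index_of_cube` : the same whenever `q³` divides `|G|`.
-/

set_option autoImplicit false
set_option linter.style.haveILetI false
set_option linter.unusedSectionVars false

namespace Cfsg.Agent.LThreeRec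

open Subgroup

universe u

namespace Hyp

variable {F : Type*} [Field F] [Fintype F] {G : Type u} [Group G] [Finite G] [IsSimpleGroup G] (H : Hyp F G) [H.Exact]
include H

theorem card_cent_eq :
    Nat.card (centralizer {H.t}) = Fintype.card F * (Fintype.card F + 1) * Nat.card H.T := by
  set q := Fintype.card F with hq
  refine Nat.eq_of_mul_eq_mul_right (m := Nat.card H.π.ker) Nat.card_pos ?_
  rw [H.card_cent, mul_assoc _ (Nat.card H.T), H.card_T, ← hq, show q ^ 2 - q = q * (q - 1) by
    rw [Nat.mul_sub_one, pow_two], GLOrder.sq_sub_one]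
  ring

/-- The index of `C(t)`, `q ≡ 1 (mod 4)`. -/
theorem index_of_one_mod_four {p n : ℕ} (hp : p.Prime) (hF : Fintype.card F = p ^ n)
    (h4 : Fintype.card F % 4 = 1) :
    (centralizer {H.t}).index =
      Fintype.card F ^ 2 * (Fintype.card F ^ 2 + Fintype.card F + 1) := by
  classical
  haveI := Fact.mk hp
  haveI : Fact (Nat.Prime 2) := ⟨Nat.prime_two⟩
  have hq1 := H.one_lt_q
  have hn : 1 ≤ n := by
    rcases Nat.eq_zero_or_pos n with rfl | h
    · simp at hF; omega
    · exact h
  have hp2 : p ≠ 2 := fun e => by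
    obtain ⟨k, hk⟩ : 2 ∣ Fintype.card F := by rw [hF, e]; exact dvd_pow_self 2 (by omega)
    omega
  obtain ⟨R, hRC, htR, -, hR⟩ := H.exists_sylow_le
  have hW : Cfsg.IsWreathed (R : Subgroup G) := hR.resolve_left fun h => by
    have := H.mod_four_of_isQuasiDihedral R h
    omega
  have hcR : ∀ r ∈ (R : Subgroup G), r * H.t = H.t * r := fun r hr =>
    mem_centralizer_singleton_iff.1 (hRC hr)
  obtain ⟨m, ⟨d⟩⟩ := QDWreath.nonempty_wrData hW
  set h := QDWreath.tp m (m - 1) with hh
  have hh0 : h ≠ 0 := Transfer.WR.half_ne_zero d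
  -- `t` is the central involution of the coordinates
  have ht : (⟨H.t, htR⟩ : (R : Subgroup G)) = d.a h h := by
    obtain ⟨i, hi⟩ := d.mem_center.1 (mem_center_iff.2 fun w => Subtype.ext (hcR w w.2) :
      (⟨H.t, htR⟩ : (R : Subgroup G)) ∈ center (R : Subgroup G))
    rcases Transfer.WR.involution_cases d (show orderOf (⟨H.t, htR⟩ : (R : Subgroup G)) = 2 by
      rw [Subgroup.orderOf_mk, H.t_order]) with e | e | e | ⟨j, e⟩
    · exact e
    · rw [hi, d.a_inj] at e
      exact absurd (e.1.symm.trans e.2) hh0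
    · rw [hi, d.a_inj] at e
      exact absurd (e.2.symm.trans e.1) hh0
    · rw [hi] at e
      exact absurd e (d.a_ne_b _ _ _ _)
  have h2h : h + h = 0 := by rw [← two_mul]; exact (QDWreath.two_mul_eq_zero d.one_le).2 (Or.inr rfl)
  -- the four-group
  set x : G := ((d.a h 0 : (R : Subgroup G)) : G) with hx
  have hxR : x ∈ R := (d.a h 0).2
  have hx2 : orderOf x = 2 := by
    rw [hx, Subgroup.orderOf_coe]
    refine QDWreath.WrData.orderOf_eq_two.2 ⟨by rw [d.a_mul_a, h2h, add_zero, d.a_zero], fun e => ?_⟩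
    exact hh0 (d.a_inj.1 (e.trans d.a_zero.symm)).1
  have hxt : H.t ≠ x := fun e => by
    have e' : (⟨H.t, htR⟩ : (R : Subgroup G)) = d.a h 0 := Subtype.ext e
    rw [ht, d.a_inj] at e'
    exact hh0 e'.2
  have htx : H.t * x = x * H.t := (hcR x hxR).symm
  have hswap : ((d.a 0 h : (R : Subgroup G)) : G) = H.t * x := by
    rw [show H.t = ((d.a h h : (R : Subgroup G)) : G) from congrArg Subtype.val ht, hx, ← Subgroup.coe_mul,
      d.a_mul_a, h2h, add_zero]
  set U := GWKlein.fourV H.t x with hUdef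
  have hU : IsKleinFour U := GWDihedral.isKleinFour_fourV_of_commute H.t_order hx2 hxt htx
  have hUR : U ≤ (R : Subgroup G) :=
    (closure_le _).2 (Set.insert_subset htR (Set.singleton_subset_iff.2 hxR))
  have htU : H.t ∈ U := subset_closure (by simp)
  have hxU : x ∈ U := subset_closure (by simp)
  have hUn : ∀ r ∈ (R : Subgroup G), ∀ y ∈ U, r * y * r⁻¹ ∈ U := by
    intro r hr y hy
    have key : closure ({H.t, x} : Set G) ≤ U.comap (MulAut.conj r).toMonoidHom := by
      refine (closure_le _).2 (Set.insert_subset ?_ (Set.singleton_subset_iff.2 ?_))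
      · show r * H.t * r⁻¹ ∈ U
        rw [hcR r hr, mul_inv_cancel_right]
        exact htU
      · show r * x * r⁻¹ ∈ U
        rcases d.cases ⟨r, hr⟩ with ⟨k, l, e⟩ | ⟨k, l, e⟩
        · have := d.conj_a_a k l h 0
          rw [← e] at this
          rw [show r * x * r⁻¹ = x from congrArg Subtype.val this]
          exact hxU
        · have := d.conj_b_a k l h 0
          rw [← e] at this
          rw [show r * x * r⁻¹ = _ from congrArg Subtype.val this, hswap]
          exact mul_mem htU hxU
    exact key hy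
  -- its centralizer is a conjugate of `T`
  obtain ⟨c, hc, hcx⟩ := H.exists_conj_s (hRC hxR) hx2 hxt.symm
  have hct : (H.conj c).t = H.t := by
    rw [H.conj_t, mem_centralizer_singleton_iff.1 hc, mul_inv_cancel_right]
  have hcs : (H.conj c).s = x := by rw [H.conj_s, hcx]
  have hcard : Nat.card (centralizer (U : Set G)) = Nat.card H.T := by
    rw [show (U : Set G) = (closure ({H.t, x} : Set G) : Set G) from rfl, centralizer_closure, ← hct, ← hcs,
      (H.conj c).centralizer_pair, H.conj_T]
    exact card_map_of_injective (MulAut.conj c).injective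
  have hG : ¬ IsMulCommutative G := fun hc => by
    obtain ⟨a, b, hab⟩ := H.not_comm
    exact hab (hc.1.1 a b)
  obtain ⟨ε, hε, h4ε, heq⟩ := InvolChar.wreathed_order hG R hW H.t H.t_order htR hcR U hUR hU hUn hp2 n hn F hF
    H.exists_normal_sl2
  set q := Fintype.card F with hq
  have hqp : (p : ℤ) ^ n = (q : ℤ) := by rw [hF]; push_cast; rfl
  rw [hqp] at h4ε heq
  obtain rfl : ε = -1 := by
    rcases hε with rfl | rfl
    · exfalso; omega
    · rfl
  rw [hcard, ← card_mul_index (centralizer ({H.t} : Set G)), H.card_cent_eq, ← hq] at heq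
  push_cast at heq
  have hT0 : (Nat.card H.T : ℤ) ≠ 0 := by exact_mod_cast Nat.card_pos.ne'
  have hqq : (q : ℤ) * ((q : ℤ) + 1) ≠ 0 := mul_ne_zero (by omega) (by omega)
  have hfin : ((centralizer {H.t}).index : ℤ) = (q : ℤ) ^ 2 * ((q : ℤ) ^ 2 + q + 1) := by
    refine mul_right_cancel₀ (mul_ne_zero (mul_ne_zero hqq (pow_ne_zero 3 hT0))
      (pow_ne_zero 2 (show (q : ℤ) + 1 ≠ 0 by omega))) ?_
    linear_combination heq
  exact_mod_cast hfin

/-- The index of `C(t)` when `q³` divides the order. -/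
theorem index_of_cube {p n : ℕ} (hp : p.Prime) (hF : Fintype.card F = p ^ n)
    (hdvd : Fintype.card F ^ 3 ∣ Nat.card G) :
    (centralizer {H.t}).index =
      Fintype.card F ^ 2 * (Fintype.card F ^ 2 + Fintype.card F + 1) := by
  have hodd : ¬ 2 ∣ Fintype.card F := fun h => H.two_ne (by
    have h3 : ringChar F = 2 := FiniteField.even_card_iff_char_two.2 (Nat.dvd_iff_mod_eq_zero.1 h)
    simpa [h3] using ringChar.Nat.cast_ringChar (R := F))
  rcases (show Fintype.card F % 4 = 1 ∨ Fintype.card F % 4 = 3 by omega) with h4 | h4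
  · exact H.index_of_one_mod_four hp hF h4
  haveI := Fact.mk hp
  have hreg : 3 * n ≤ padicValNat p (Nat.card G) := by
    rw [hF, ← pow_mul, mul_comm] at hdvd
    exact (padicValNat_dvd_iff_le Nat.card_pos.ne').1 hdvd
  obtain ⟨X, h0, h1, hQ, hdiv, htwo, hidx⟩ := H.exists_equations hp hF h4
  rw [H.eq_cube_of_regular hp hF hreg h0 h1 hQ hdiv htwo hidx] at hidx
  set q := Fintype.card F with hq
  have hq1 : 1 < q := H.one_lt_q
  have hne : ((q : ℤ) * ((q : ℤ) - 1) * ((q : ℤ) + 1)) ^ 2 ≠ 0 :=
    pow_ne_zero _ (mul_ne_zero (mul_ne_zero (by omega) (by omega)) (by omega))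
  have hfin : ((centralizer {H.t}).index : ℤ) = (q : ℤ) ^ 2 * ((q : ℤ) ^ 2 + q + 1) := by
    refine mul_right_cancel₀ hne ?_
    linear_combination hidx
  exact_mod_cast hfin

end Hyp

end Cfsg.Agent.LThreeRec
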