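import Cfsg.Agent.Lib.LThreeRec.None
import Cfsg.Agent.Lib.LThreeRec.Half
import Cfsg.Agent.Lib.LThreeRec.Cyclic
import Cfsg.Agent.Lib.LThreeRec.Order

/-!
# Characterising `PSL(3, q)` by an involution centralizer, `q ≥ 5`

* `Hyp.main`
-/

set_option autoImplicit false
set_option linter.unusedSectionVars false
set_option linter.style.haveILetI false

namespace Cfsg.Agent.LThreeRec

open Subgroup

namespace Hyp

variable {F : Type*} [Field F] [Fintype F] {G : Type*} [Group G] [Finite G] [IsSimpleGroup G] (H : Hyp F G) [H.Exact]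
include H

/-- The recognition theorem for `q ≥ 5`. -/
theorem main (h5 : 5 ≤ Fintype.card F) :
    Nonempty (G ≃* Matrix.ProjectiveSpecialLinearGroup (Fin 3) F) := by
  obtain ⟨p, hpc⟩ := CharP.exists F
  haveI := hpc
  obtain ⟨m, hp, hF⟩ := FiniteField.card F p
  obtain ⟨σ, hσ, hσ'⟩ := H.exists_sigma
  have hJ : Fintype.card F % 4 = 1 → (centralizer {H.t}).index =
      Fintype.card F ^ 2 * (Fintype.card F ^ 2 + Fintype.card F + 1) := H.index_of_one_mod_four hp hF
  by_cases hpos : Comm H.Xp (H.conj σ).Xp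
  · exact (H.false_of_pos hσ hσ' hpos (H.index_of_cube hp hF)).elim
  by_cases hA : Comm H.Xp (H.conj σ).Xm <;> by_cases hB : Comm H.Xp (H.conj (σ * σ)).Xm
  · exact H.equiv_psl_of_partners hσ hσ' hA hB
  · exact (H.false_of_half h5 hσ hσ' hpos hA hB hJ).elim
  · have hd : H.dual.t = H.t := H.dual_t
    exact (H.dual.false_of_half h5 (σ := σ) (by rw [dual_t, dual_s]; exact hσ)
      (by rw [dual_t, dual_s]; exact hσ') (fun h => hpos (H.dual_pos hσ hσ' h)) (H.dual_negOne hσ hσ' hB)
      (fun h => hA (H.dual_negTwo hσ hσ' h)) (by rw [hd]; exact hJ)).elim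
  · exact (H.false_of_none (σ := σ) (p := p) (n := m) ⟨hp, hF, hσ, hσ', hpos, hA, hB⟩ h5 hJ).elim

end Hyp

end Cfsg.Agent.LThreeRec
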