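import Cfsg.Agent.EqLemmas
import Cfsg.Agent.Lib.GLOrder.Two
import Cfsg.Agent.Lib.GLTwoChar.Matrix
import Mathlib.GroupTheory.PGroup
import Mathlib.Tactic

/-!
# Characterising `PSL(3, q)`: facts about `GL(2, q)`

* `eq_or_commute_of_comm`: a commutator lying in a group of odd order of scalars is trivial.
* `Monomial`, `monomial_of_diag_le`: a subgroup containing the diagonal and no transvection is monomial (`q ≥ 7`).
* `borel_of_up`: a subgroup with an upper but no lower transvection, containing the diagonal, is upper triangular.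
* `up_or_lo_of_inv`: a commutative set of unipotents normalised by `diag(1,-1)` lies in one root group.
-/

set_option autoImplicit false

namespace Cfsg.Agent.LThreeRec

open Matrix

variable {F : Type*} [Field F]

local notation "GL₂" => GL (Fin 2) F

/-- The matrix with the given entries. -/
noncomputable def mk (a b c d : F) (h : a * d - b * c ≠ 0) : GL₂ :=
  GeneralLinearGroup.mkOfDetNeZero !![a, b; c, d] (by rwa [Matrix.det_fin_two_of])

@[simp] theorem mk_coe (a b c d : F) (h : a * d - b * c ≠ 0) :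
    (mk a b c d h : Matrix (Fin 2) (Fin 2) F) = !![a, b; c, d] := rfl

theorem ext2 {g h : GL₂} (h00 : g 0 0 = h 0 0) (h01 : g 0 1 = h 0 1) (h10 : g 1 0 = h 1 0)
    (h11 : g 1 1 = h 1 1) : g = h := by
  apply GeneralLinearGroup.ext
  intro i j
  fin_cases i <;> fin_cases j <;> assumption

@[simp] theorem mul_apply2 (g h : GL₂) (i j : Fin 2) :
    (g * h : GL₂) i j = g i 0 * h 0 j + g i 1 * h 1 j := GLOrder.GL2_mul_apply g h i j

/-- The diagonal elements. -/
noncomputable def dg : Fˣ × Fˣ →* GL₂ where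
  toFun x := mk (x.1 : F) 0 0 (x.2 : F) (by simp)
  map_one' := ext2 (by simp) (by simp) (by simp) (by simp)
  map_mul' x y := ext2 (by simp) (by simp) (by simp) (by simp)

@[simp] theorem dg_coe (x : Fˣ × Fˣ) :
    (dg x : Matrix (Fin 2) (Fin 2) F) = !![(x.1 : F), 0; 0, (x.2 : F)] := rfl

theorem dg_injective : Function.Injective (dg (F := F)) := fun x y h => by
  refine Prod.ext (Units.ext ?_) (Units.ext ?_)
  · simpa using congrArg (fun g : GL₂ => g 0 0) h
  · simpa using congrArg (fun g : GL₂ => g 1 1) h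

theorem mem_dg {g : GL₂} (h01 : g 0 1 = 0) (h10 : g 1 0 = 0) : g ∈ (dg (F := F)).range := by
  have hd := GLOrder.GL2_det g
  rw [h01, h10, mul_zero, sub_zero] at hd
  exact ⟨(Units.mk0 _ (left_ne_zero_of_mul hd), Units.mk0 _ (right_ne_zero_of_mul hd)),
    ext2 (by simp) (by simp [h01]) (by simp [h10]) (by simp)⟩

/-- The upper unipotent elements. -/
noncomputable def up : Multiplicative F →* GL₂ where
  toFun c := mk 1 c.toAdd 0 1 (by simp)
  map_one' := ext2 (by simp) (by simp) (by simp) (by simp)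
  map_mul' x y := ext2 (by simp) (by simp [add_comm]) (by simp) (by simp)

/-- The lower unipotent elements. -/
noncomputable def lo : Multiplicative F →* GL₂ where
  toFun c := mk 1 0 c.toAdd 1 (by simp)
  map_one' := ext2 (by simp) (by simp) (by simp) (by simp)
  map_mul' x y := ext2 (by simp) (by simp) (by simp) (by simp)

/-- `u(c)`. -/
noncomputable abbrev u (c : F) : GL₂ := up (Multiplicative.ofAdd c)

/-- `v(c)`. -/
noncomputable abbrev v (c : F) : GL₂ := lo (Multiplicative.ofAdd c)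

@[simp] theorem u_coe (c : F) : (u c : Matrix (Fin 2) (Fin 2) F) = !![1, c; 0, 1] := rfl

@[simp] theorem v_coe (c : F) : (v c : Matrix (Fin 2) (Fin 2) F) = !![1, 0; c, 1] := rfl

theorem up_injective : Function.Injective (up (F := F)) := fun x y h =>
  Multiplicative.toAdd.injective (by simpa [up] using congrArg (fun g : GL₂ => g 0 1) h)

theorem lo_injective : Function.Injective (lo (F := F)) := fun x y h =>
  Multiplicative.toAdd.injective (by simpa [lo] using congrArg (fun g : GL₂ => g 1 0) h)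

/-- The Weyl element. -/
noncomputable def ww : GL₂ := mk 0 1 1 0 (by simp)

@[simp] theorem ww_coe : ((ww : GL₂) : Matrix (Fin 2) (Fin 2) F) = !![0, 1; 1, 0] := rfl

theorem dg_u (x : Fˣ × Fˣ) (c : F) : dg x * u c = u ((x.1 : F) * c * (x.2 : F)⁻¹) * dg x :=
  ext2 (by simp) (by simp) (by simp) (by simp)

theorem dg_v (x : Fˣ × Fˣ) (c : F) : dg x * v c = v ((x.2 : F) * c * (x.1 : F)⁻¹) * dg x :=
  ext2 (by simp) (by simp) (by simp) (by simp)

theorem u_mem_of_u {L : Subgroup GL₂} (hD : (dg (F := F)).range ≤ L) {c : F} (hc : c ≠ 0)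
    (h : u c ∈ L) (e : F) : u e ∈ L := by
  rcases eq_or_ne e 0 with rfl | he
  · rw [u, ofAdd_zero, map_one]; exact one_mem _
  set x : Fˣ × Fˣ := (Units.mk0 (e / c) (div_ne_zero he hc), 1) with hx
  have h1 : dg x * u c * (dg x)⁻¹ = u e := by
    rw [dg_u, mul_inv_cancel_right, hx]; simp [div_mul_cancel₀ e hc]
  rw [← h1]
  exact mul_mem (mul_mem (hD ⟨x, rfl⟩) h) (inv_mem (hD ⟨x, rfl⟩))

theorem v_mem_of_v {L : Subgroup GL₂} (hD : (dg (F := F)).range ≤ L) {c : F} (hc : c ≠ 0)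
    (h : v c ∈ L) (e : F) : v e ∈ L := by
  rcases eq_or_ne e 0 with rfl | he
  · rw [v, ofAdd_zero, map_one]; exact one_mem _
  set x : Fˣ × Fˣ := (1, Units.mk0 (e / c) (div_ne_zero he hc)) with hx
  have h1 : dg x * v c * (dg x)⁻¹ = v e := by
    rw [dg_v, mul_inv_cancel_right, hx]; simp [div_mul_cancel₀ e hc]
  rw [← h1]
  exact mul_mem (mul_mem (hD ⟨x, rfl⟩) h) (inv_mem (hD ⟨x, rfl⟩))

section subgroups

variable {L : Subgroup (GL (Fin 2) F)} (hD : (dg (F := F)).range ≤ L)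
include hD

theorem upper_cases {g : GL₂} (hg : g ∈ L) (h10 : g 1 0 = 0) (hno : ∀ c : F, u c ∈ L → c = 0) : g 0 1 = 0 := by
  have hd := GLOrder.GL2_det g
  rw [h10, mul_zero, sub_zero] at hd
  set x : Fˣ × Fˣ := (Units.mk0 _ (inv_ne_zero (left_ne_zero_of_mul hd)),
    Units.mk0 _ (inv_ne_zero (right_ne_zero_of_mul hd))) with hx
  have h1 : dg x * g = u ((g 0 0)⁻¹ * g 0 1) :=
    ext2 (by simp [hx, left_ne_zero_of_mul hd]) (by simp [hx]) (by simp [hx, h10])
      (by simp [hx, right_ne_zero_of_mul hd])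
  exact (mul_eq_zero.1 (hno _ (h1 ▸ mul_mem (hD ⟨x, rfl⟩) hg))).resolve_left
    (inv_ne_zero (left_ne_zero_of_mul hd))

theorem lower_cases {g : GL₂} (hg : g ∈ L) (h01 : g 0 1 = 0) (hno : ∀ c : F, v c ∈ L → c = 0) : g 1 0 = 0 := by
  have hd := GLOrder.GL2_det g
  rw [h01, zero_mul, sub_zero] at hd
  set x : Fˣ × Fˣ := (Units.mk0 _ (inv_ne_zero (left_ne_zero_of_mul hd)),
    Units.mk0 _ (inv_ne_zero (right_ne_zero_of_mul hd))) with hx
  have h1 : dg x * g = v ((g 1 1)⁻¹ * g 1 0) :=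
    ext2 (by simp [hx, left_ne_zero_of_mul hd]) (by simp [hx, h01]) (by simp [hx])
      (by simp [hx, right_ne_zero_of_mul hd])
  exact (mul_eq_zero.1 (hno _ (h1 ▸ mul_mem (hD ⟨x, rfl⟩) hg))).resolve_left
    (inv_ne_zero (right_ne_zero_of_mul hd))

theorem upper_of_u {c : F} (hc : c ≠ 0) (hu : u c ∈ L) (hno : ∀ e : F, v e ∈ L → e = 0) {g : GL₂}
    (hg : g ∈ L) : g 1 0 = 0 := by
  by_contra h10
  set g' := u (-(g 0 0) / g 1 0) * g with hg'
  have hg'L : g' ∈ L := mul_mem (u_mem_of_u hD hc hu _) hg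
  have h00 : g' 0 0 = 0 := by simp [hg', div_mul_cancel₀ _ h10]
  have h10' : g' 1 0 = g 1 0 := by simp [hg']
  have h01 : g' 0 1 ≠ 0 := fun e => by
    have := GLOrder.GL2_det g'
    rw [h00, e] at this
    simp at this
  have h1 : g' * u 1 = v (g' 1 0 / g' 0 1) * g' :=
    ext2 (by simp [h00]) (by simp [h00]) (by simp [h00]) (by simp [h00, div_mul_cancel₀ _ h01, add_comm])
  have h2 : v (g' 1 0 / g' 0 1) ∈ L := by
    rw [eq_mul_inv_of_mul_eq h1.symm]
    exact mul_mem (mul_mem hg'L (u_mem_of_u hD hc hu 1)) (inv_mem hg'L)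
  have := hno _ h2
  rw [h10', div_eq_zero_iff] at this
  tauto

theorem lower_of_v {c : F} (hc : c ≠ 0) (hv : v c ∈ L) (hno : ∀ e : F, u e ∈ L → e = 0) {g : GL₂}
    (hg : g ∈ L) : g 0 1 = 0 := by
  by_contra h01'
  set g' := v (-(g 1 1) / g 0 1) * g with hg'
  have hg'L : g' ∈ L := mul_mem (v_mem_of_v hD hc hv _) hg
  have h11 : g' 1 1 = 0 := by simp [hg', div_mul_cancel₀ _ h01']
  have h01 : g' 0 1 = g 0 1 := by simp [hg']
  have h10 : g' 1 0 ≠ 0 := fun e => by
    have := GLOrder.GL2_det g'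
    rw [h11, e] at this
    simp at this
  have h1 : g' * v 1 = u (g' 0 1 / g' 1 0) * g' :=
    ext2 (by simp [h11, div_mul_cancel₀ _ h10, add_comm]) (by simp [h11]) (by simp [h11]) (by simp [h11])
  have h2 : u (g' 0 1 / g' 1 0) ∈ L := by
    rw [eq_mul_inv_of_mul_eq h1.symm]
    exact mul_mem (mul_mem hg'L (v_mem_of_v hD hc hv 1)) (inv_mem hg'L)
  have := hno _ h2
  rw [h01, div_eq_zero_iff] at this
  tauto

variable (hu : ∀ c : F, u c ∈ L → c = 0) (hv : ∀ c : F, v c ∈ L → c = 0)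
include hu hv

/-- An element with a zero entry is monomial. -/
theorem monomial_of_zero {g : GL₂} (hg : g ∈ L) (hq : ∃ a : Fˣ, a ≠ 1)
    (h0 : g 0 0 = 0 ∨ g 0 1 = 0 ∨ g 1 0 = 0 ∨ g 1 1 = 0) :
    (g 0 1 = 0 ∧ g 1 0 = 0) ∨ (g 0 0 = 0 ∧ g 1 1 = 0) := by
  obtain ⟨a, ha⟩ := hq
  have hd := GLOrder.GL2_det g
  set h := g * dg (a, 1) * g⁻¹ with hh
  have hL : h ∈ L := mul_mem (mul_mem hg (hD ⟨_, rfl⟩)) (inv_mem hg)
  have e : h * g = g * dg (a, 1) := by rw [hh, inv_mul_cancel_right]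
  have e00 := congrArg (fun k : GL₂ => k 0 0) e
  have e01 := congrArg (fun k : GL₂ => k 0 1) e
  have e10 := congrArg (fun k : GL₂ => k 1 0) e
  have e11 := congrArg (fun k : GL₂ => k 1 1) e
  simp at e00 e01 e10 e11
  have ha' : (a : F) - 1 ≠ 0 := fun e => ha (Units.ext (by simpa [sub_eq_zero] using e))
  rcases h0 with h0 | h0 | h0 | h0
  · rw [h0, zero_mul, zero_sub, neg_ne_zero, mul_ne_zero_iff] at hd
    have h01 : h 0 1 = 0 := by simpa [h0, hd.2] using e00
    have h10 := lower_cases hD hL h01 hv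
    simp [h01, h10, h0] at e01 e10 e11
    right
    refine ⟨h0, ?_⟩
    have : g 1 0 * (g 1 1 * ((a : F) - 1)) = 0 := by linear_combination g 1 0 * e11 - g 1 1 * e10
    simpa [hd.2, ha'] using this
  · exact Or.inl ⟨h0, lower_cases hD hg h0 hv⟩
  · exact Or.inl ⟨upper_cases hD hg h0 hu, h0⟩
  · rw [h0, mul_zero, zero_sub, neg_ne_zero, mul_ne_zero_iff] at hd
    have h10 : h 1 0 = 0 := by simpa [h0, hd.1] using e11
    have h01 := upper_cases hD hL h10 hu
    simp [h01, h10, h0] at e00 e01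
    right
    refine ⟨?_, h0⟩
    have : g 0 1 * (g 0 0 * ((a : F) - 1)) = 0 := by linear_combination g 0 0 * e01 - g 0 1 * e00
    simpa [hd.1, ha'] using this

/-- An element without a zero entry has cross ratio `-1`. -/
theorem cross_of_nonzero {g : GL₂} (hg : g ∈ L) (hq : ∃ a : Fˣ, a ≠ 1)
    (h00 : g 0 0 ≠ 0) (h01 : g 0 1 ≠ 0) (h10 : g 1 0 ≠ 0) :
    g 0 0 * g 1 1 = -(g 0 1 * g 1 0) := by
  have hd := GLOrder.GL2_det g
  set x : Fˣ × Fˣ := (Units.mk0 _ (mul_ne_zero h01 h10),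
    Units.mk0 _ (neg_ne_zero.2 (mul_ne_zero h00 h00))) with hx
  have hm : g * dg x * g ∈ L := mul_mem (mul_mem hg (hD ⟨x, rfl⟩)) hg
  have h0 : (g * dg x * g) 0 0 = 0 := by simp [hx]; ring
  have hd' := GLOrder.GL2_det (g * dg x * g)
  rcases monomial_of_zero hD hu hv hm hq (Or.inl h0) with h | h
  · rw [h0, h.1, h.2] at hd'; simp at hd'
  · have h11 := h.2
    simp [hx] at h11
    have : (g 0 0 * g 1 1 + g 0 1 * g 1 0) * (g 0 0 * g 1 1 - g 0 1 * g 1 0) = 0 := by
      linear_combination -h11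
    exact eq_neg_of_add_eq_zero_left ((mul_eq_zero.1 this).resolve_right hd)

theorem monomial [Fintype F] (h2 : (2 : F) ≠ 0) (h7 : 7 ≤ Fintype.card F) {g : GL₂} (hg : g ∈ L) :
    (g 0 1 = 0 ∧ g 1 0 = 0) ∨ (g 0 0 = 0 ∧ g 1 1 = 0) := by
  classical
  obtain ⟨i, hi⟩ : ∃ i : F, ∀ z : F, z * z = -1 → z = i ∨ z = -i := by
    by_cases h : ∃ i : F, i * i = -1
    · obtain ⟨i, hi⟩ := h
      exact ⟨i, fun z hz => mul_self_eq_mul_self_iff.1 (hz.trans hi.symm)⟩
    · exact ⟨0, fun z hz => absurd ⟨z, hz⟩ h⟩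
  obtain ⟨z, hz⟩ : ∃ z : F, z ∉ ({0, 1, -1, i, -i} : Finset F) := by
    by_contra! hc
    have h5 : ({0, 1, -1, i, -i} : Finset F).card ≤ 5 := Finset.card_le_five
    rw [Finset.eq_univ_iff_forall.2 hc, Finset.card_univ] at h5
    omega
  simp only [Finset.mem_insert, Finset.mem_singleton, not_or] at hz
  obtain ⟨hz0, hz1, hz2, hz3, hz4⟩ := hz
  have hq : ∃ a : Fˣ, a ≠ 1 := ⟨Units.mk0 z hz0, fun e => hz1 (congrArg Units.val e)⟩
  by_cases h0 : g 0 0 = 0 ∨ g 0 1 = 0 ∨ g 1 0 = 0 ∨ g 1 1 = 0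
  · exact monomial_of_zero hD hu hv hg hq h0
  exfalso
  simp only [not_or] at h0
  obtain ⟨h00, h01, h10, h11⟩ := h0
  have hc := cross_of_nonzero hD hu hv hg hq h00 h01 h10
  set x : Fˣ × Fˣ := (Units.mk0 _ (inv_ne_zero h00), Units.mk0 (z / g 1 1) (div_ne_zero hz0 h11)) with hx
  set m := g * dg x * g with hm
  have hmL : m ∈ L := mul_mem (mul_mem hg (hD ⟨x, rfl⟩)) hg
  have e00 : m 0 0 = g 0 0 * (1 - z) := by
    simp [hm, hx]; field_simp; linear_combination z * hc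
  have e11 : m 1 1 = g 1 1 * (z - 1) := by
    simp [hm, hx]; field_simp; linear_combination hc
  have e01 : m 0 1 = g 0 1 * (1 + z) := by simp [hm, hx]; field_simp
  have e10 : m 1 0 = g 1 0 * (1 + z) := by simp [hm, hx]; field_simp
  have hz1' : (1 : F) + z ≠ 0 := fun e => hz2 (eq_neg_of_add_eq_zero_right e)
  have hc' := cross_of_nonzero hD hu hv hmL hq (by rw [e00]; exact mul_ne_zero h00 (sub_ne_zero.2 (Ne.symm hz1)))
    (by rw [e01]; exact mul_ne_zero h01 hz1') (by rw [e10]; exact mul_ne_zero h10 hz1')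
  rw [e00, e01, e10, e11] at hc'
  have : (g 0 1 * g 1 0) * (2 * (z * z + 1)) = 0 := by linear_combination hc' + (1 - z) ^ 2 * hc
  simp only [mul_eq_zero, h01, h10, h2, false_or] at this
  rcases hi z (eq_neg_of_add_eq_zero_left this) with e | e
  · exact hz3 e
  · exact hz4 e

/-- There are no non-trivial unipotent elements. -/
theorem eq_one_of_unipotent (h2 : (2 : F) ≠ 0) (h3 : (3 : F) ≠ 0) {y : GL₂} (hy : y ∈ L)
    (htr : y 0 0 + y 1 1 = 2) (hdet : y 0 0 * y 1 1 - y 0 1 * y 1 0 = 1) : y = 1 := by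
  by_contra hy1
  have h2' : (2 : F) ≠ 1 := fun e => one_ne_zero (α := F) (by linear_combination e)
  have hq : ∃ a : Fˣ, a ≠ 1 := ⟨Units.mk0 2 h2, fun e => h2' (congrArg Units.val e)⟩
  have key : ∀ k ∈ L, k ≠ 1 → k 0 0 + k 1 1 = 2 → k 0 0 * k 1 1 - k 0 1 * k 1 0 = 1 →
      2 * (k 0 0 * k 1 1) = 1 := by
    intro k hk hk1 hkt hkd
    by_cases h0 : k 0 0 = 0 ∨ k 0 1 = 0 ∨ k 1 0 = 0 ∨ k 1 1 = 0
    · exfalso
      rcases monomial_of_zero hD hu hv hk hq h0 with h | h
      · rw [h.1, h.2, mul_zero, sub_zero] at hkd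
        have h1 : (k 0 0 - 1) * (k 0 0 - 1) = 0 := by linear_combination -hkd + k 0 0 * hkt
        have h00 : k 0 0 = 1 := sub_eq_zero.1 (mul_self_eq_zero.1 h1)
        exact hk1 (ext2 (by simp [h00]) (by simp [h.1]) (by simp [h.2])
          (by simp; linear_combination hkt - h00))
      · rw [h.1, h.2, zero_add] at hkt
        exact h2 hkt.symm
    simp only [not_or] at h0
    linear_combination cross_of_nonzero hD hu hv hk hq h0.1 h0.2.1 h0.2.2.1 + hkd
  have e1 := key y hy hy1 htr hdet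
  have hy2 : y * y ≠ 1 := fun e => by
    have a00 : (y * y) 0 0 = 1 := by rw [e]; simp
    simp at a00
    have : 2 * (y 0 0 - 1) = 0 := by linear_combination a00 - y 0 0 * htr + hdet
    have h00 : y 0 0 = 1 := sub_eq_zero.1 ((mul_eq_zero.1 this).resolve_left h2)
    exact one_ne_zero (α := F) (by linear_combination e1 - 2 * y 1 1 * h00 - 2 * htr + 2 * h00)
  have e2 := key (y * y) (mul_mem hy hy) hy2
    (by simp; linear_combination (y 0 0 + y 1 1 + 2) * htr - 2 * hdet)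
    (by simp; linear_combination (y 0 0 * y 1 1 - y 0 1 * y 1 0 + 1) * hdet)
  simp at e2
  have hbc : 2 * (y 0 1 * y 1 0) = -1 := by linear_combination e1 - 2 * hdet
  have hsq : y 0 0 * y 0 0 + y 1 1 * y 1 1 = 3 := by
    linear_combination (y 0 0 + y 1 1 + 2) * htr - e1
  have : (2 * (y 0 0 * y 0 0) + 2 * (y 0 1 * y 1 0)) * (2 * (y 1 1 * y 1 1) + 2 * (y 0 1 * y 1 0)) = -4 := by
    rw [hbc]; linear_combination (2 * (y 0 0 * y 1 1) + 1) * e1 - 2 * hsq
  have h6 : (2 : F) * 3 = 0 := by linear_combination this - 2 * e2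
  exact h3 ((mul_eq_zero.1 h6).resolve_left h2)

end subgroups

/-- A set of commuting unipotent matrices invariant under `diag(1,-1)` lies in one root group. -/
theorem up_or_lo_of_inv (h2 : (2 : F) ≠ 0) {P : Subgroup GL₂}
    (htr : ∀ y ∈ P, y 0 0 + y 1 1 = 2) (hdet : ∀ y ∈ P, y 0 0 * y 1 1 - y 0 1 * y 1 0 = 1)
    (hcomm : ∀ y ∈ P, ∀ z ∈ P, y * z = z * y)
    (hinv : ∀ y ∈ P, dg (1, -1) * y * dg (1, -1) ∈ P) :
    P ≤ (up (F := F)).range ∨ P ≤ (lo (F := F)).range := by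
  have key : ∀ y ∈ P, y 0 0 = 1 ∧ y 1 1 = 1 ∧ (y 0 1 = 0 ∨ y 1 0 = 0) := by
    intro y hy
    have e := hcomm _ hy _ (hinv y hy)
    have e01 := congrArg (fun k : GL₂ => k 0 1) e
    have e10 := congrArg (fun k : GL₂ => k 1 0) e
    simp at e01 e10
    have ht := htr y hy
    have hd := hdet y hy
    have a : y 0 1 * (y 0 0 - 1) = 0 := by
      have : 4 * (y 0 1 * (y 0 0 - 1)) = 0 := by linear_combination -e01 + 2 * y 0 1 * ht
      have h4 : (4 : F) ≠ 0 := fun e => mul_ne_zero h2 h2 (by linear_combination e)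
      exact (mul_eq_zero.1 this).resolve_left h4
    have b : (y 0 0 - 1) * (y 0 0 - 1) = -(y 0 1 * y 1 0) := by linear_combination -hd + y 0 0 * ht
    have h00 : y 0 0 = 1 := by
      rcases mul_eq_zero.1 a with h | h
      · rw [h, zero_mul, neg_zero] at b
        exact sub_eq_zero.1 (mul_self_eq_zero.1 b)
      · exact sub_eq_zero.1 h
    refine ⟨h00, by linear_combination ht - h00, ?_⟩
    rw [h00, sub_self, mul_zero, eq_comm, neg_eq_zero] at b
    exact mul_eq_zero.1 b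
  by_cases hl : ∀ y ∈ P, y 1 0 = 0
  · left
    intro y hy
    obtain ⟨a, b, -⟩ := key y hy
    exact ⟨Multiplicative.ofAdd (y 0 1), ext2 (by simp [up, a]) (by simp [up]) (by simp [up, hl y hy]) (by simp [up, b])⟩
  right
  push Not at hl
  obtain ⟨w, hw, hw0⟩ := hl
  obtain ⟨wa, wb, hw'⟩ := key w hw
  have hw01 : w 0 1 = 0 := hw'.resolve_right hw0
  intro y hy
  obtain ⟨a, b, -⟩ := key y hy
  have e := congrArg (fun k : GL₂ => k 1 1) (hcomm w hw y hy)
  simp [wa, wb, hw01, a, b] at e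
  exact ⟨Multiplicative.ofAdd (y 1 0), ext2 (by simp [lo, a]) (by simp [lo]; tauto) (by simp [lo]) (by simp [lo, b])⟩

end Cfsg.Agent.LThreeRec
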