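import Cfsg.Agent.Lib.LThreeRec.Abelian
import Cfsg.Agent.Lib.LThreeRec.Arith
import Cfsg.Agent.Lib.LThreeRec.Count
import Cfsg.Agent.Lib.Coprime.Factorization
import Cfsg.Agent.Lib.Transfer.NilpotentHall

/-!
# Characterising `PSL(3, q)`: no root group of another block commutes with `Xp`

* `Hyp.none_vp`: the Sylow `p`-subgroups have order `q`
* `Hyp.none_cent_le`: the centralizer of a root element lies in `C(t)`
* `Hyp.false_of_none`
-/

set_option autoImplicit false
set_option linter.unusedSectionVars false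
set_option linter.style.haveILetI false

namespace Cfsg.Agent.LThreeRec

open Subgroup
open scoped Pointwise

theorem card_sup_dvd {G : Type*} [Group G] [Finite G] {N T : Subgroup G}
    (h : T ≤ normalizer (N : Set G)) : Nat.card (N ⊔ T : Subgroup G) ∣ Nat.card N * Nat.card T := by
  rw [← Coprime.card_mul_inf N T, show Nat.card (N ⊔ T : Subgroup G) = Nat.card ((N : Set G) * (T : Set G) : Set G) by
    rw [← Subgroup.coe_mul_of_right_le_normalizer_left N T h]; rfl]
  exact dvd_mul_right _ _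

namespace Hyp

variable {F : Type*} [Field F] [Fintype F] {G : Type*} [Group G] [Finite G] [IsSimpleGroup G] (H : Hyp F G) [H.Exact]

theorem Xp_exp {p : ℕ} [CharP F p] {x : G} (hx : x ∈ H.Xp) : x ^ p = 1 := by
  obtain ⟨_, ⟨a, rfl⟩, rfl⟩ := hx
  rw [← map_pow, ← map_pow, show a ^ p = 1 from ?_, map_one, map_one]
  refine Multiplicative.toAdd.injective ?_
  simp

/-- The hypothesis of this file. -/
structure NoneData (σ : G) (p n : ℕ) : Prop where
  prime : p.Prime
  card : Fintype.card F = p ^ n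
  hσ : σ * H.t * σ⁻¹ = H.s
  hσ' : σ * H.s * σ⁻¹ = H.t * H.s
  pos : ¬ Comm H.Xp (H.conj σ).Xp
  negOne : ¬ Comm H.Xp (H.conj σ).Xm
  negTwo : ¬ Comm H.Xp (H.conj (σ * σ)).Xm

variable {σ : G} {p n : ℕ} [CharP F p] (D : H.NoneData σ p n)
include D

theorem none_p_le {P : Subgroup G} (hP : IsPGroup p P) (hU : H.U4 ≤ normalizer (P : Set G))
    (hc : P ≤ centralizer (H.Xp : Set G)) : P ≤ H.Xp := by
  obtain ⟨x0, hx0, hx01⟩ := H.exists_ne_one
  have hcy : ∀ y ∈ P, ∀ x ∈ H.Xp, x * y = y * x := fun y hy x hx => mem_centralizer_iff.1 (hc hy) x hx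
  refine H.p_le_of_blocks D.prime D.hσ D.hσ' hP hU (fun y hy h => ?_) (fun y hy h => ?_) (fun y hy h => ?_)
  · exact H.cent_root_p D.prime hx0 hx01 hP hy (h.elim (fun h => H.Xp_le h) fun h => H.Xm_le h)
      (hcy y hy x0 hx0).symm
  · by_cases hy1 : y = 1
    · exact hy1 ▸ one_mem _
    have hT := H.conjT D.hσ D.hσ'
    exact h.elim (fun h => absurd (H.comm_full hT h hy1 (hcy y hy)) D.pos)
      fun h => absurd (H.comm_full_m hT h hy1 (hcy y hy)) D.negOne
  · by_cases hy1 : y = 1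
    · exact hy1 ▸ one_mem _
    have hT := H.conjT2 D.hσ D.hσ'
    exact h.elim (fun h => absurd ((H.pos_iff D.hσ D.hσ').2 (H.comm_full hT h hy1 (hcy y hy))) D.pos)
      fun h => absurd (H.comm_full_m hT h hy1 (hcy y hy)) D.negTwo

theorem none_cent_vp : (Nat.card (centralizer (H.Xp : Set G))).factorization p = n := by
  haveI := Fact.mk D.prime
  obtain ⟨x0, hx0, hx01⟩ := H.exists_ne_one
  obtain ⟨-, K, hKC, hKodd, hUK, -, -, k, hk⟩ :=
    H.exists_core D.prime (S := (H.Xp : Set G)) subset_rfl ⟨x0, hx0, hx01⟩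
  haveI : IsMulCommutative H.U4 := ⟨⟨fun a b => Subtype.ext (H.T_comm (H.U4_le_T a.2) (H.U4_le_T b.2))⟩⟩
  obtain ⟨P, hP⟩ := Coprime.exists_invariant_sylow hUK (H.card_U4_coprime hKodd)
    (Or.inl (Group.isSolvable_of_comm fun a b => Subtype.ext (H.T_comm (H.U4_le_T a.2) (H.U4_le_T b.2)))) p
  have hle := H.none_p_le D (P.2.map K.subtype) hP ((map_subtype_le _).trans hKC)
  have h2 : ¬ p ∣ 2 ^ k := fun h => by
    have := (Nat.prime_dvd_prime_iff_eq D.prime Nat.prime_two).1 (D.prime.dvd_of_dvd_pow h)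
    exact absurd (H.odd_p D.prime) (by rw [this]; decide)
  refine le_antisymm ?_ ?_
  · rw [← hk, Nat.factorization_mul Nat.card_pos.ne' (pow_ne_zero _ two_ne_zero), Finsupp.add_apply,
      Nat.factorization_eq_zero_of_not_dvd h2, add_zero]
    have h1 := card_dvd_of_le hle
    rw [card_map_of_injective K.subtype_injective, P.card_eq_multiplicity, H.card_Xp, D.card] at h1
    exact (Nat.pow_dvd_pow_iff_le_right D.prime.one_lt).1 h1
  · refine (Nat.Prime.pow_dvd_iff_le_factorization D.prime Nat.card_pos.ne').1 ?_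
    rw [← D.card, ← H.card_Xp]
    exact card_dvd_of_le fun x hx => mem_centralizer_iff.2 fun y hy => H.Xp_comm hy hx

theorem norm_decomp {g : G} (hg : g ∈ normalizer (H.Xp : Set G)) :
    ∃ c ∈ centralizer (H.Xp : Set G), ∃ τ ∈ H.T, g = c * τ := by
  obtain ⟨x0, hx0, hx01⟩ := H.exists_ne_one
  obtain ⟨hinv, -⟩ := H.exists_core D.prime (S := (H.Xp : Set G)) subset_rfl ⟨x0, hx0, hx01⟩
  have hi : g * H.t * g⁻¹ ∈ centralizer (H.Xp : Set G) := mem_centralizer_iff.2 fun x hx => by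
    have e := mem_centralizer_singleton_iff.1 (H.Xp_le ((mem_normalizer_iff''.1 hg x).1 hx))
    calc x * (g * H.t * g⁻¹) = g * (g⁻¹ * x * g * H.t) * g⁻¹ := by group
      _ = g * H.t * g⁻¹ * x := by rw [e]; group
  obtain ⟨c, hc, hct⟩ := hinv _ hi (by rw [Involution.orderOf_conj, H.t_order])
  have hcN : c ∈ normalizer (H.Xp : Set G) := Coprime.mem_normalizer_of_forall fun x hx => by
    rw [← mem_centralizer_iff.1 hc x hx, mul_inv_cancel_right]; exact hx
  have ht : c⁻¹ * g ∈ centralizer {H.t} := mem_centralizer_singleton_iff.2 (mul_inv_eq_iff_eq_mul.1 (by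
    calc c⁻¹ * g * H.t * (c⁻¹ * g)⁻¹ = c⁻¹ * (g * H.t * g⁻¹) * c := by group
      _ = H.t := by rw [← hct]; group))
  have hn := mul_mem (inv_mem hcN) hg
  obtain ⟨τ, hτ, y, hy, e⟩ := H.mem_borel_of_norm ht fun x hx => (mem_normalizer_iff.1 hn x).1 hx
  refine ⟨c * (τ * y * τ⁻¹), mul_mem hc ?_, τ, hτ, ?_⟩
  · exact mem_centralizer_iff.2 fun x hx => H.Xp_comm hx (H.T_norm hτ hy)
  · rw [← mul_inv_cancel_left c g, e]; group

/-- The Sylow `p`-subgroups have order `q`. -/
theorem none_vp : (Nat.card G).factorization p = n ∧ (centralizer {H.t}).index.factorization p = 0 := by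
  haveI := Fact.mk D.prime
  set C := centralizer (H.Xp : Set G)
  set N := normalizer (H.Xp : Set G)
  have hXC : H.Xp ≤ C := fun x hx => mem_centralizer_iff.2 fun y hy => H.Xp_comm hy hx
  have hCN : C ≤ N := fun c hc => Coprime.mem_normalizer_of_forall fun x hx => by
    rw [← mem_centralizer_iff.1 hc x hx, mul_inv_cancel_right]; exact hx
  haveI : (C.subgroupOf N).Normal := ⟨fun a ha g => by
    rw [mem_subgroupOf] at ha ⊢
    refine mem_centralizer_iff.2 fun x hx => ?_
    have e := mem_centralizer_iff.1 ha _ ((mem_normalizer_iff''.1 g.2 x).1 hx)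
    push_cast
    calc x * ((g : G) * a * (g : G)⁻¹) = (g : G) * ((g : G)⁻¹ * x * g * a) * (g : G)⁻¹ := by group
      _ = _ := by rw [e]; group⟩
  have hTN : H.T ≤ N := fun τ hτ => Coprime.mem_normalizer_of_forall fun x hx => H.T_norm hτ hx
  have h1 : C.relIndex N ∣ Nat.card H.T := by
    rw [Subgroup.relIndex, Subgroup.index]
    refine card_dvd_of_surjective ((QuotientGroup.mk' (C.subgroupOf N)).comp (inclusion hTN)) fun z => ?_
    obtain ⟨g, rfl⟩ := QuotientGroup.mk_surjective z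
    obtain ⟨c, hc, τ, hτ, e⟩ := H.norm_decomp D g.2
    refine ⟨⟨τ, hτ⟩, QuotientGroup.eq.2 ?_⟩
    rw [mem_subgroupOf]
    push_cast [coe_inclusion]
    rw [e, ← mul_assoc]
    refine mem_centralizer_iff.2 fun x hx => ?_
    have e' := mem_centralizer_iff.1 hc _ (H.T_norm hτ hx)
    calc x * (τ⁻¹ * c * τ) = τ⁻¹ * (τ * x * τ⁻¹ * c) * τ := by group
      _ = τ⁻¹ * c * τ * x := by rw [e']; group
  have h2 : ¬ p ∣ H.Xp.relIndex C := fun h => by
    have e := H.Xp.card_mul_index
    have hc : Nat.card H.Xp * H.Xp.relIndex C = Nat.card C := by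
      rw [← Nat.card_congr (subgroupOfEquivOfLe hXC).toEquiv]; exact card_mul_index _
    have hd : p ^ (n + 1) ∣ Nat.card C := by
      rw [← hc, H.card_Xp, D.card, pow_succ]; exact mul_dvd_mul_left _ h
    have := (Nat.Prime.pow_dvd_iff_le_factorization D.prime Nat.card_pos.ne').1 hd
    rw [H.none_cent_vp D] at this
    omega
  have h3 := card_eq_sylow (H.Xp_pGroup D.prime) (fun h => by
    rw [← relIndex_mul_relIndex _ _ _ hXC hCN] at h
    exact (D.prime.dvd_mul.1 h).elim h2 fun h => H.T_not_dvd D.prime D.card (h.trans h1))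
  rw [H.card_Xp, D.card] at h3
  have h4 : n = (Nat.card G).factorization p := Nat.pow_right_injective D.prime.two_le h3
  exact ⟨h4.symm, by have := H.g_vp D.prime D.card; omega⟩

/-- The normal `p`-complement of the odd core of the centralizer of root elements. -/
theorem none_complement {S : Set G} (hS : S ⊆ H.Xp) (h1 : ∃ x ∈ S, x ≠ 1) :
    ∃ K M : Subgroup G, K ≤ centralizer S ∧ M ≤ K ∧ Odd (Nat.card M) ∧ ¬ p ∣ Nat.card M ∧
      H.U4 ≤ normalizer (K : Set G) ∧ centralizer S ≤ normalizer (K : Set G) ∧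
      (∀ y ∈ centralizer S, Odd (orderOf y) → y ∈ K) ∧ (∀ y ∈ K, ¬ p ∣ orderOf y → y ∈ M) ∧
      (∀ y ∈ K, ∃ m ∈ M, ∃ x ∈ H.Xp, y = m * x) ∧ ∃ k : ℕ, Nat.card K * 2 ^ k = Nat.card (centralizer S) := by
  haveI := Fact.mk D.prime
  obtain ⟨x0, hx0, hx01⟩ := h1
  obtain ⟨-, K, hKC, hKodd, hUK, hCK, hKmem, k, hk⟩ := H.exists_core D.prime hS ⟨x0, hx0, hx01⟩
  have hXK : H.Xp ≤ K := fun x hx => hKmem x (mem_centralizer_iff.2 fun y hy => H.Xp_comm (hS hy) hx) (by
    obtain ⟨m, hm⟩ := IsPGroup.iff_orderOf.1 (H.Xp_pGroup D.prime) ⟨x, hx⟩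
    rw [Subgroup.orderOf_mk] at hm
    rw [hm]; exact (H.odd_p D.prime).pow)
  have hcard : Nat.card (H.Xp.subgroupOf K) = p ^ n := by
    rw [Nat.card_congr (subgroupOfEquivOfLe hXK).toEquiv, H.card_Xp, D.card]
  have hHall : (Nat.card (H.Xp.subgroupOf K)).Coprime (H.Xp.subgroupOf K).index := by
    rw [hcard]
    refine Nat.Coprime.pow_left n (D.prime.coprime_iff_not_dvd.2 fun h => ?_)
    have hd : p ^ (n + 1) ∣ Nat.card G := by
      refine dvd_trans ?_ (Subgroup.card_subgroup_dvd_card K)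
      rw [← (H.Xp.subgroupOf K).card_mul_index, hcard, pow_succ]
      exact mul_dvd_mul_left _ h
    have := (Nat.Prime.pow_dvd_iff_le_factorization D.prime Nat.card_pos.ne').1 hd
    rw [(H.none_vp D).1] at this
    omega
  have hnc : normalizer ((H.Xp.subgroupOf K) : Set K) ≤ centralizer ((H.Xp.subgroupOf K) : Set K) := by
    intro g hg
    have hgN : (g : G) ∈ normalizer (H.Xp : Set G) := Coprime.mem_normalizer_of_forall fun x hx =>
      (mem_normalizer_iff.1 hg ⟨x, hXK hx⟩).1 hx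
    obtain ⟨c, hc, τ, hτ, e⟩ := H.norm_decomp D hgN
    have hcS : c ∈ centralizer S := mem_centralizer_iff.2 fun y hy => mem_centralizer_iff.1 hc y (hS hy)
    have hτS : τ ∈ centralizer S := by
      rw [show τ = c⁻¹ * g by rw [e, inv_mul_cancel_left]]
      exact mul_mem (inv_mem hcS) (hKC g.2)
    obtain ⟨z, hz, y, hy, e'⟩ := H.cent_root (hS hx0) hx01 (H.T_le hτ) (mem_centralizer_iff.1 hτS _ hx0).symm
    have hy1 : y = 1 := H.T_inter_p D.prime (H.Xp_pGroup D.prime) hy (by
      rw [show y = z⁻¹ * τ by rw [e', inv_mul_cancel_left]]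
      exact mul_mem (inv_mem (H.Zt_le hz)) hτ)
    rw [hy1, mul_one] at e'
    refine mem_centralizer_iff.2 fun x hx => Subtype.ext ?_
    have hgc : (g : G) ∈ centralizer (H.Xp : Set G) := by
      rw [e, e']
      exact mul_mem hc (mem_centralizer_iff.2 fun x hx => (H.Zt_comm hz (H.Xp_le hx)).symm)
    exact mem_centralizer_iff.1 hgc _ (mem_subgroupOf.1 hx)
  obtain ⟨N, hN, hcomp⟩ := Transfer.exists_normal_complement_of_normalizer_le_centralizer _ hHall hnc
  have hNp : ¬ p ∣ Nat.card N := by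
    rw [← hcomp.index_eq_card]
    intro h
    have hp1 : p ∣ Nat.card (H.Xp.subgroupOf K) := by
      rw [hcard]; exact dvd_pow_self p (by have := H.one_le_n D.prime D.card; omega)
    exact D.prime.not_dvd_one (hHall ▸ Nat.dvd_gcd hp1 h)
  have hmemN : ∀ y ∈ K, ¬ p ∣ orderOf y → y ∈ N.map K.subtype := fun y hy hpy => by
    refine ⟨⟨y, hy⟩, ?_, rfl⟩
    rw [SetLike.mem_coe, ← QuotientGroup.eq_one_iff, ← orderOf_eq_one_iff]
    refine Nat.eq_one_of_dvd_coprimes (a := orderOf y) (b := Nat.card (K ⧸ N)) ?_ ?_ (orderOf_dvd_natCard _)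
    · rw [← Subgroup.index_eq_card, hcomp.symm.index_eq_card, hcard]
      exact Nat.Coprime.pow_right n ((D.prime.coprime_iff_not_dvd.2 hpy).symm)
    · rw [← Subgroup.orderOf_mk y hy]
      exact orderOf_map_dvd (QuotientGroup.mk' N) _
  refine ⟨K, N.map K.subtype, hKC, map_subtype_le _, ?_, ?_, hUK, hCK, hKmem, hmemN, ?_, k, hk⟩
  · rw [card_map_of_injective K.subtype_injective]
    exact hKodd.of_dvd_nat (Subgroup.card_subgroup_dvd_card N)
  · rwa [card_map_of_injective K.subtype_injective]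
  · intro y hy
    obtain ⟨⟨m, x⟩, hmx⟩ := hcomp.2 ⟨y, hy⟩
    exact ⟨(m : K), ⟨m, m.2, rfl⟩, ((x : K) : G), mem_subgroupOf.1 x.2, (congrArg Subtype.val hmx).symm⟩

/-- The part of a complement in one block. -/
theorem none_block_mem {S : Set G} {K M : Subgroup G} (hKC : K ≤ centralizer S) (hMK : M ≤ K)
    (hKmem : ∀ y ∈ centralizer S, Odd (orderOf y) → y ∈ K) (hMmem : ∀ y ∈ K, ¬ p ∣ orderOf y → y ∈ M)
    {u : G} (hu : ∀ y ∈ centralizer S, u * y * u⁻¹ ∈ centralizer S) (hodd : Odd (Nat.card M))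
    (hp : ¬ p ∣ Nat.card M) {y : G} (hy : y ∈ M) : u * y * u⁻¹ ∈ M := by
  have ho : orderOf (u * y * u⁻¹) = orderOf y := (MulAut.conj u).orderOf_eq y
  have hd : orderOf y ∣ Nat.card M := Subgroup.orderOf_mk y hy ▸ orderOf_dvd_natCard _
  exact hMmem _ (hKmem _ (hu y (hKC (hMK hy))) (ho ▸ hodd.of_dvd_nat hd)) fun h => hp ((ho ▸ h).trans hd)

omit D in
theorem conj_cent_of {S : Set G} {u : G} (h : ∀ x ∈ S, u⁻¹ * x * u ∈ closure S) {y : G}
    (hy : y ∈ centralizer S) : u * y * u⁻¹ ∈ centralizer S := by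
  refine mem_centralizer_iff.2 fun x hx => ?_
  have hy' : closure S ≤ centralizer {y} := (closure_le _).2 fun z hz =>
    mem_centralizer_singleton_iff.2 (mem_centralizer_iff.1 hy z hz)
  have e := mem_centralizer_singleton_iff.1 (hy' (h x hx))
  calc x * (u * y * u⁻¹) = u * (u⁻¹ * x * u * y) * u⁻¹ := by group
    _ = u * y * u⁻¹ * x := by rw [e]; group

omit D in
theorem T_acts {S : Subgroup G} {u : G} (h : ∀ x ∈ S, u⁻¹ * x * u ∈ S) {y : G}
    (hy : y ∈ centralizer (S : Set G)) : u * y * u⁻¹ ∈ centralizer (S : Set G) :=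
  conj_cent_of (fun x hx => subset_closure (h x hx)) hy

theorem none_n_odd (h4 : Fintype.card F % 4 = 3) : Odd n := by
  by_contra h
  obtain ⟨m, hm⟩ := Nat.not_odd_iff_even.1 h
  have hp2 : p % 2 = 1 := Nat.odd_iff.1 (H.odd_p D.prime)
  have e : p * p % 4 = 1 := by
    have : p % 4 = 1 ∨ p % 4 = 3 := by omega
    rcases this with h | h <;> simp [Nat.mul_mod, h]
  rw [D.card, hm, ← two_mul, pow_mul, sq, Nat.pow_mod, e, one_pow] at h4
  omega

/-- The complements for large subgroups of `Xp` lie in `T`. -/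
theorem none_M_le_T (h7 : 7 ≤ Fintype.card F) (h4 : Fintype.card F % 4 = 3) {S : Subgroup G}
    (hS : S ≤ H.Xp) (hS1 : S ≠ ⊥) (hidx : S.relIndex H.Xp ≤ p)
    {K M : Subgroup G} (hKC : K ≤ centralizer (S : Set G)) (hMK : M ≤ K)
    (hKmem : ∀ y ∈ centralizer (S : Set G), Odd (orderOf y) → y ∈ K)
    (hMmem : ∀ y ∈ K, ¬ p ∣ orderOf y → y ∈ M) (hodd : Odd (Nat.card M)) (hpM : ¬ p ∣ Nat.card M) :
    M ≤ H.T := by
  haveI := Fact.mk D.prime
  obtain ⟨x0, hx0, hx01⟩ := S.bot_or_exists_ne_one.resolve_left hS1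
  -- `T`-invariance of `M` for `S = Xp`, and `U4`-invariance in general
  have hUconj : ∀ a ∈ H.U4, ∀ x ∈ S, a⁻¹ * x * a ∈ S := by
    intro a ha x hx
    have ht : H.t⁻¹ * x * H.t = x := by
      rw [mul_assoc, mem_centralizer_singleton_iff.1 (H.Xp_le (hS hx)), inv_mul_cancel_left]
    have hs : H.s⁻¹ * x * H.s = x⁻¹ := by
      have := H.s_inv (hS hx)
      rw [Involution.inv_eq H.s_order] at this ⊢
      exact this
    rcases ha with rfl | rfl | rfl | rfl
    · simpa using hx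
    · rw [ht]; exact hx
    · rw [hs]; exact inv_mem hx
    · rw [show (H.t * H.s)⁻¹ * x * (H.t * H.s) = H.s⁻¹ * (H.t⁻¹ * x * H.t) * H.s by group, ht, hs]
      exact inv_mem hx
  have hU : H.U4 ≤ normalizer (M : Set G) := fun a ha => Coprime.mem_normalizer_of_forall fun y hy =>
    H.none_block_mem D hKC hMK hKmem hMmem (fun z hz => T_acts (hUconj a ha) hz) hodd hpM hy
  have hsub : ∀ y ∈ M, y ∈ centralizer (S : Set G) ∧ Odd (orderOf y) ∧ ¬ p ∣ orderOf y := fun y hy => by
    have hd : orderOf y ∣ Nat.card M := Subgroup.orderOf_mk y hy ▸ orderOf_dvd_natCard _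
    exact ⟨hKC (hMK hy), hodd.of_dvd_nat hd, fun h => hpM (h.trans hd)⟩
  -- the two other blocks
  have hblock : ∀ g a b : G, (H.conj g).t = a → (H.conj g).s = b → (H.conj g).T = H.T → b ∈ H.U4 →
      a ∈ H.U4 → ∀ y ∈ M, y * a = a * y → y ∈ H.T := by
    intro g a b hga hgb hgT hb ha y hy hya
    -- an element of odd order of `T` acting non-trivially
    have hodd' : ∃ a0 : Fˣ, a0 ≠ 1 ∧ Odd (orderOf a0) := by
      classical
      obtain ⟨c, hc⟩ := IsCyclic.exists_generator (α := Fˣ)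
      have hoc : orderOf c = Fintype.card F - 1 := by
        rw [orderOf_eq_card_of_forall_mem_zpowers hc, Nat.card_eq_fintype_card, Fintype.card_units]
      have ho2 : orderOf (c ^ 2) = (Fintype.card F - 1) / 2 := by
        rw [orderOf_pow, hoc, Nat.gcd_eq_right (by omega)]
      exact ⟨c ^ 2, fun e => by rw [e, orderOf_one] at ho2; omega, by rw [ho2, Nat.odd_iff]; omega⟩
    obtain ⟨a0, ha01, ha0odd⟩ := hodd'
    set τ := (H.conj g).π (dg (a0, 1)) with hτdef
    have hτT : τ ∈ H.T := hgT ▸ ⟨_, ⟨(a0, 1), rfl⟩, rfl⟩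
    set S2 := S ⊓ S.map (MulAut.conj τ).toMonoidHom with hS2
    have hS2le : S2 ≤ H.Xp := inf_le_left.trans hS
    have hS21 : S2 ≠ ⊥ := by
      intro e
      have h1 : (S.map (MulAut.conj τ).toMonoidHom).relIndex H.Xp = S.relIndex H.Xp := by
        conv_lhs => rw [← H.T_map_Xp hτT]
        exact relIndex_map_map_of_injective _ _ (MulAut.conj τ).injective
      have h2 := relIndex_inf_le (H := S) (K := S.map (MulAut.conj τ).toMonoidHom) (L := H.Xp)
      rw [← hS2, e, relIndex_bot_left, H.card_Xp, h1, D.card] at h2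
      have h3 : p ^ n ≤ p ^ 2 := h2.trans (by rw [sq]; exact Nat.mul_le_mul hidx hidx)
      have hn := (Nat.pow_le_pow_iff_right D.prime.one_lt).1 h3
      have hn1 : n = 1 := by
        obtain ⟨j, hj⟩ := H.none_n_odd D h4
        omega
      have hSX : S = H.Xp := eq_of_le_of_card_ge hS (by
        rw [H.card_Xp, D.card, hn1, pow_one]
        obtain ⟨m, hm⟩ := ((H.Xp_pGroup D.prime).to_le hS).exists_card_eq
        rw [hm]
        refine Nat.le_self_pow (fun e => hS1 (Subgroup.card_eq_one.1 ?_)) p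
        rw [hm, e, pow_zero])
      rw [hS2, hSX, H.T_map_Xp hτT, inf_idem] at e
      exact hS1 (hSX.trans e)
    obtain ⟨K2, M2, hKC2, hMK2, hodd2, hpM2, -, -, hKmem2, hMmem2, -, -⟩ :=
      H.none_complement D (S := (S2 : Set G)) hS2le (S2.bot_or_exists_ne_one.resolve_left hS21)
    have hin : ∀ z : G, z ∈ centralizer (S2 : Set G) → Odd (orderOf z) → ¬ p ∣ orderOf z → z ∈ M2 :=
      fun z h1 h2 h3 => hMmem2 z (hKmem2 z h1 h2) h3
    set A := M2 ⊓ centralizer {a}
    have hAt : A ≤ centralizer {(H.conj g).t} := by rw [hga]; exact inf_le_right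
    have hab := (H.conj g).odd_pprime_comm D.prime hAt (hodd2.of_dvd_nat (card_dvd_of_le inf_le_left))
      fun h => hpM2 (h.trans (card_dvd_of_le inf_le_left))
    have hconjA : ∀ u : G, u * a = a * u → ∀ z ∈ M, z * a = a * z →
        (u * z * u⁻¹ ∈ centralizer (S2 : Set G)) → u * z * u⁻¹ ∈ A := by
      intro u hu z hz hza hc
      have ho : orderOf (u * z * u⁻¹) = orderOf z := (MulAut.conj u).orderOf_eq z
      refine ⟨hin _ hc (ho ▸ (hsub z hz).2.1) (ho ▸ (hsub z hz).2.2), mem_centralizer_singleton_iff.2 ?_⟩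
      exact (Commute.mul_left (Commute.mul_left hu hza) (Commute.inv_left hu)).eq
    have hy1 : y ∈ A := by
      simpa using hconjA 1 (by simp) y hy hya (by
        simpa using centralizer_le (s := (S2 : Set G)) (fun x hx => (inf_le_left : S2 ≤ S) hx) (hsub y hy).1)
    have hτa : τ * a = a * τ := H.T_comm hτT (H.U4_le_T ha)
    have hy2 : τ * y * τ⁻¹ ∈ A := hconjA τ hτa y hy hya (mem_centralizer_iff.2 fun x hx => by
      obtain ⟨x', hx', rfl⟩ := (inf_le_right : S2 ≤ _) hx
      have e := mem_centralizer_iff.1 (hsub y hy).1 x' hx'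
      show τ * x' * τ⁻¹ * (τ * y * τ⁻¹) = τ * y * τ⁻¹ * (τ * x' * τ⁻¹)
      calc _ = τ * (x' * y) * τ⁻¹ := by group
        _ = _ := by rw [e]; group)
    have hy3 : b * y * b⁻¹ ∈ A := by
      have hbM := (mem_normalizer_iff.1 (hU hb) y).1 hy
      have hba : b * a = a * b := H.T_comm (H.U4_le_T hb) (H.U4_le_T ha)
      exact hconjA b hba y hy hya (centralizer_le (fun x hx => (inf_le_left : S2 ≤ S) hx) (hsub _ hbM).1)
    obtain ⟨m, hm⟩ := (H.conj g).exists_of_mem_cent (hAt hy1)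
    have e2 : (H.conj g).π (dg (a0, 1) * m * (dg (a0, 1))⁻¹) = τ * y * τ⁻¹ := by
      rw [map_mul, map_mul, map_inv, hm]
    have e3 : (H.conj g).π (gs * m * gs⁻¹) = b * y * b⁻¹ := by
      rw [map_mul, map_mul, map_inv, hm, ← hgb]; rfl
    have c2 := hab _ hy1 _ hy2
    have c3 := hab _ hy1 _ hy3
    rw [← e2, ← hm, (H.conj g).commute_iff] at c2
    rw [← e3, ← hm, (H.conj g).commute_iff] at c3
    have gsi : (gs : GL (Fin 2) F)⁻¹ = gs := inv_eq_of_mul_eq_one_right gs_sq
    rw [gsi] at c3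
    rw [← map_inv] at c2
    have f01 := congrArg (fun k : GL (Fin 2) F => k 0 1) c3
    have f10 := congrArg (fun k : GL (Fin 2) F => k 1 0) c3
    have f00 := congrArg (fun k : GL (Fin 2) F => k 0 0) c2
    simp at f01 f10 f00
    have h2 := H.two_ne
    have ha0 : (a0 : F) ≠ 1 := fun e => ha01 (Units.ext e)
    have ha0' : (a0 : F) ≠ -1 := fun e => by
      have : a0 ^ 2 = 1 := Units.ext (by rw [Units.val_pow_eq_pow_val, e]; simp)
      rcases (Nat.dvd_prime Nat.prime_two).1 (orderOf_dvd_of_pow_eq_one this) with h | h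
      · exact ha01 (orderOf_eq_one_iff.1 h)
      · rw [h] at ha0odd; exact absurd ha0odd (by decide)
    by_cases hdiag : m 0 1 = 0 ∧ m 1 0 = 0
    · exact hgT ▸ ⟨m, mem_dg hdiag.1 hdiag.2, hm⟩
    exfalso
    have hd0 : m 0 0 = m 1 1 := by
      by_contra hne
      refine hdiag ⟨?_, ?_⟩
      · exact (mul_eq_zero.1 (mul_left_cancel₀ h2 (show (2 : F) * (m 0 1 * (m 0 0 - m 1 1)) = 2 * 0 by
          linear_combination -f01))).resolve_right (sub_ne_zero.2 hne)
      · exact (mul_eq_zero.1 (mul_left_cancel₀ h2 (show (2 : F) * (m 1 0 * (m 0 0 - m 1 1)) = 2 * 0 by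
          linear_combination f10))).resolve_right (sub_ne_zero.2 hne)
    have hz : m 0 1 * m 1 0 = 0 := by
      field_simp at f00
      have : (m 0 1 * m 1 0) * (((a0 : F) - 1) * ((a0 : F) + 1)) = 0 := by linear_combination -f00
      exact (mul_eq_zero.1 this).resolve_right (mul_ne_zero (sub_ne_zero.2 ha0)
        fun e => ha0' (eq_neg_of_add_eq_zero_left e))
    have hsc := (H.conj g).mem_Zt_of_disc D.prime (g := m) (by rw [hd0]; linear_combination 4 * hz)
      (hm.symm ▸ (hsub y hy).2.2)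
    obtain ⟨s01, s10, -⟩ := (H.conj g).π_mem_Zt.1 hsc
    exact hdiag ⟨s01, s10⟩
  refine H.le_of_four hodd hU fun a ha ha1 y hy => ?_
  have hya := mem_centralizer_singleton_iff.1 hy.2
  rcases ha with rfl | rfl | rfl | rfl
  · exact absurd rfl ha1
  · -- in `C(t)`
    obtain ⟨z, hz, x, hx, e⟩ := H.cent_root (hS hx0) hx01 (mem_centralizer_singleton_iff.2 hya)
      (mem_centralizer_iff.1 (hsub y hy.1).1 x0 hx0).symm
    have hc : Commute z x := H.Zt_comm hz (H.Xp_le hx)
    have hyp : y ^ p ∈ H.T := by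
      rw [e, hc.mul_pow, H.Xp_exp hx, mul_one]; exact pow_mem (H.Zt_le hz) _
    obtain ⟨j, hj⟩ := exists_pow_eq_self_of_coprime ((Nat.Prime.coprime_iff_not_dvd D.prime).2 (hsub y hy.1).2.2)
    rw [← hj]
    exact pow_mem hyp j
  · exact hblock σ H.s (H.t * H.s) D.hσ D.hσ' (H.conjT D.hσ D.hσ') (Or.inr (Or.inr (Or.inr rfl))) H.s_mem_U4
      y hy.1 hya
  · exact hblock (σ * σ) (H.t * H.s) H.t (H.conj2_t D.hσ D.hσ') (H.conj2_s D.hσ D.hσ') (H.conjT2 D.hσ D.hσ')
      H.t_mem_U4 (Or.inr (Or.inr (Or.inr rfl))) y hy.1 hya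

/-- The centralizer of a root element lies in `C(t)`. -/
theorem none_cent_le (h7 : 7 ≤ Fintype.card F) (h4 : Fintype.card F % 4 = 3) {x : G} (hx : x ∈ H.Xp)
    (hx1 : x ≠ 1) : centralizer ({x} : Set G) ≤ centralizer {H.t} := by
  haveI := Fact.mk D.prime
  haveI : Fact (Nat.Prime 2) := ⟨Nat.prime_two⟩
  obtain ⟨hinv, -⟩ := H.exists_core D.prime (S := ({x} : Set G)) (Set.singleton_subset_iff.2 hx) ⟨x, rfl, hx1⟩
  obtain ⟨K, M, hKC, hMK, hodd, hpM, -, hCK, hKmem, hMmem, hdec, k, hk⟩ :=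
    H.none_complement D (S := ({x} : Set G)) (Set.singleton_subset_iff.2 hx) ⟨x, rfl, hx1⟩
  haveI : IsMulCommutative H.Xp := ⟨⟨fun a b => Subtype.ext (H.Xp_comm a.2 b.2)⟩⟩
  have hXC : H.Xp ≤ centralizer ({x} : Set G) := fun y hy =>
    mem_centralizer_singleton_iff.2 (H.Xp_comm hy hx)
  have hXM : H.Xp ≤ normalizer (M : Set G) := fun u hu => Coprime.mem_normalizer_of_forall fun y hy =>
    H.none_block_mem D hKC hMK hKmem hMmem
      (fun z hz => mul_mem (mul_mem (hXC hu) hz) (inv_mem (hXC hu))) hodd hpM hy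
  have hcop : (Nat.card H.Xp).Coprime (Nat.card M) := by
    rw [H.card_Xp, D.card]
    exact Nat.Coprime.pow_left n (D.prime.coprime_iff_not_dvd.2 hpM)
  have hMT : M ≤ H.T := Coprime.le_of_cyclic_quotient hXM hcop fun B hB ⟨g, hg, hle⟩ y hy => by
    set S := B ⊔ zpowers x
    have hSX : S ≤ H.Xp := sup_le hB (zpowers_le.2 hx)
    have hS1 : S ≠ ⊥ := fun e => hx1 (by
      have hm : x ∈ S := mem_sup_right (mem_zpowers x)
      rwa [e, mem_bot] at hm)
    obtain ⟨K', M', hKC', hMK', hodd', hpM', -, -, hKmem', hMmem', -, -⟩ :=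
      H.none_complement D (S := (S : Set G)) hSX (S.bot_or_exists_ne_one.resolve_left hS1)
    have hidx : S.relIndex H.Xp ≤ p := (Nat.le_of_dvd (Nat.pos_of_ne_zero index_ne_zero_of_finite)
      (relIndex_dvd_of_le_left H.Xp le_sup_left)).trans
      (Coprime.relIndex_le_of_cyclic_quotient D.prime (fun a ha => H.Xp_exp ha) hB hg hle)
    refine H.none_M_le_T D h7 h4 hSX hS1 hidx hKC' hMK' hKmem' hMmem' hodd' hpM' ?_
    have hd : orderOf y ∣ Nat.card M := Subgroup.orderOf_mk y hy.1 ▸ orderOf_dvd_natCard _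
    have hcS : y ∈ centralizer (S : Set G) := mem_centralizer_iff.2 fun z hz => by
      have h1 : S ≤ centralizer {y} := sup_le
        (fun w hw => mem_centralizer_singleton_iff.2 (hy.2 w hw))
        (zpowers_le.2 (mem_centralizer_singleton_iff.2 (mem_centralizer_iff.1 (hKC (hMK hy.1)) x rfl)))
      exact mem_centralizer_singleton_iff.1 (h1 hz)
    exact hMmem' y (hKmem' y hcS (hodd.of_dvd_nat hd)) fun h => hpM (h.trans hd)
  -- so the core lies in `C(t)`
  set C := centralizer ({x} : Set G)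
  set C0 := C ⊓ centralizer {H.t}
  have hK0 : K ≤ C0 := fun y hy => by
    obtain ⟨m, hm, z, hz, rfl⟩ := hdec y hy
    exact ⟨hKC hy, mul_mem (H.T_le (hMT hm)) (H.Xp_le hz)⟩
  have htC : H.t ∈ C := mem_centralizer_singleton_iff.2 (mem_centralizer_singleton_iff.1 (H.Xp_le hx)).symm
  obtain ⟨Q, hQ⟩ : ∃ Q : Sylow 2 C, zpowers (⟨H.t, htC⟩ : C) ≤ Q :=
    (IsPGroup.of_card (n := 1) (by rw [Nat.card_zpowers, Subgroup.orderOf_mk, H.t_order, pow_one])).exists_le_sylow
  haveI : Nontrivial (Q : Subgroup C) := ⟨⟨⟨⟨H.t, htC⟩, hQ (mem_zpowers _)⟩, 1, fun e =>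
    Involution.ne_one H.t_order (congrArg (fun w : (Q : Subgroup C) => ((w : C) : G)) e)⟩⟩
  have hcent := Q.2.center_nontrivial
  obtain ⟨w, hw2⟩ : ∃ w : center (Q : Subgroup C), orderOf w = 2 := by
    haveI := Fintype.ofFinite (center (Q : Subgroup C))
    refine exists_prime_orderOf_dvd_card 2 ?_
    obtain ⟨j, hj⟩ := (Q.2.to_subgroup (center (Q : Subgroup C))).exists_card_eq
    rw [← Nat.card_eq_fintype_card, hj]
    refine dvd_pow_self 2 fun e => ?_
    rw [e, pow_zero] at hj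
    have := Finite.one_lt_card_iff_nontrivial.2 hcent
    omega
  have hwo : orderOf (((w : (Q : Subgroup C)) : C) : G) = 2 := by
    rw [orderOf_coe, orderOf_coe, orderOf_coe, hw2]
  obtain ⟨c, hc, hcw⟩ := hinv _ ((w : (Q : Subgroup C)) : C).2 hwo
  have hdvd : 2 ^ k ∣ Nat.card C0 := by
    have h1 : 2 ^ k ∣ Nat.card (Q : Subgroup C) := by
      rw [Q.card_eq_multiplicity]
      exact pow_dvd_pow 2 ((Nat.Prime.pow_dvd_iff_le_factorization Nat.prime_two Nat.card_pos.ne').1
        (Dvd.intro_left _ hk))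
    refine h1.trans ?_
    rw [← card_map_of_injective (K := (Q : Subgroup C)) C.subtype_injective,
      ← card_map_of_injective (K := map C.subtype (Q : Subgroup C)) (f := (MulAut.conj c⁻¹).toMonoidHom) (MulAut.conj c⁻¹).injective]
    refine card_dvd_of_le ?_
    rintro _ ⟨_, ⟨a, ha, rfl⟩, rfl⟩
    refine ⟨?_, mem_centralizer_singleton_iff.2 ?_⟩
    · show c⁻¹ * (a : G) * c⁻¹⁻¹ ∈ C
      rw [inv_inv]; exact mul_mem (mul_mem (inv_mem hc) a.2) hc
    · have e : (a : G) * (((w : (Q : Subgroup C)) : C) : G) = (((w : (Q : Subgroup C)) : C) : G) * a :=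
        congrArg (fun z : (Q : Subgroup C) => ((z : C) : G)) (mem_center_iff.1 w.2 ⟨a, ha⟩)
      show c⁻¹ * (a : G) * c⁻¹⁻¹ * H.t = H.t * (c⁻¹ * (a : G) * c⁻¹⁻¹)
      rw [← hcw] at e
      calc c⁻¹ * (a : G) * c⁻¹⁻¹ * H.t = c⁻¹ * ((a : G) * (c * H.t * c⁻¹)) * c := by group
        _ = _ := by rw [e]; group
  have hKodd : Odd (Nat.card K) := by
    by_contra he
    obtain ⟨i, hi⟩ := exists_prime_orderOf_dvd_card' (G := K) 2
      (even_iff_two_dvd.1 (Nat.not_odd_iff_even.1 he))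
    obtain ⟨m, hm, z, hz, e⟩ := hdec i i.2
    have h2 : (m * z) * (m * z) = 1 := by
      rw [← e, ← coe_mul, ← sq, ← hi, pow_orderOf_eq_one, coe_one]
    have hc' : Commute m z := by
      have hmC := hKC (hMK hm)
      obtain ⟨z', hz', y', hy', em⟩ := H.cent_root hx hx1 (H.T_le (hMT hm)) (mem_centralizer_iff.1 hmC x rfl).symm
      rw [em]
      exact Commute.mul_left (H.Zt_comm hz' (H.Xp_le hz)) (H.Xp_comm hy' hz)
    rw [← sq, hc'.mul_pow] at h2
    have hm2 : m ^ 2 ∈ M ⊓ H.Xp := ⟨pow_mem hm 2, by rw [eq_inv_of_mul_eq_one_left h2]; exact H.Xp.inv_mem (H.Xp.pow_mem hz 2)⟩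
    rw [inf_comm, Coprime.inf_eq_bot hcop, mem_bot] at hm2
    rw [hm2, one_mul] at h2
    have hm1 : m = 1 := by
      obtain ⟨l, hl⟩ := hodd
      have := congrArg Subtype.val (pow_card_eq_one' (x := (⟨m, hm⟩ : M)))
      rw [hl] at this
      simpa [pow_succ, pow_mul, hm2] using this
    have hz1 : z = 1 := by
      obtain ⟨l, hl⟩ := H.odd_p D.prime
      have := H.Xp_exp (p := p) hz
      rw [hl, pow_succ, pow_mul, h2] at this
      simpa using this
    rw [hm1, hz1, mul_one] at e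
    rw [show i = 1 from Subtype.ext e, orderOf_one] at hi
    norm_num at hi
  have hC0 : C0 = C := eq_of_le_of_card_ge inf_le_left (by
    rw [← hk]
    exact Nat.le_of_dvd Nat.card_pos
      ((Nat.Coprime.pow_right k (Nat.coprime_two_right.2 hKodd)).mul_dvd_of_dvd_of_dvd (card_dvd_of_le hK0) hdvd))
  exact hC0 ▸ inf_le_right

/-- No solution when the root groups of different blocks do not commute. -/
theorem false_of_none (h5 : 5 ≤ Fintype.card F)
    (hJ : Fintype.card F % 4 = 1 → (centralizer {H.t}).index =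
      Fintype.card F ^ 2 * (Fintype.card F ^ 2 + Fintype.card F + 1)) : False := by
  haveI := Fact.mk D.prime
  obtain ⟨hg, hJ0⟩ := H.none_vp D
  have hpq := H.p_dvd_q D.prime D.card
  have hpJ : ¬ p ∣ (centralizer {H.t}).index := fun h => by
    have := D.prime.factorization_pos_of_dvd index_ne_zero_of_finite h
    omega
  have hodd : Fintype.card F % 2 = 1 := by
    rw [D.card]; exact Nat.odd_iff.1 (H.odd_p D.prime).pow
  by_cases h1 : Fintype.card F % 4 = 1
  · exact hpJ (hJ h1 ▸ dvd_mul_of_dvd_left (dvd_pow hpq two_ne_zero) _)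
  have h4 : Fintype.card F % 4 = 3 := by omega
  have h7 : 7 ≤ Fintype.card F := by omega
  obtain ⟨x0, hx0, hx01⟩ := H.exists_ne_one
  set P : Sylow p G := Sylow.ofCard H.Xp (by rw [H.card_Xp, D.card, hg]) with hP
  -- congruence of the number of Sylow subgroups
  have hcong := sylow_congr P (d := Fintype.card F) fun Q hQ => by
    have hbot : (Q : Subgroup G) ⊓ (P : Subgroup G) = ⊥ := by
      rw [eq_bot_iff]
      intro z hz
      by_contra hz1
      obtain ⟨k, hk⟩ := MulAction.exists_smul_eq G P Q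
      refine hQ (Sylow.ext (eq_of_le_of_card_ge (fun y hy => ?_) ?_))
      · have hab : y * z = z * y := by
          have hy' : y ∈ ((k • P : Sylow p G) : Subgroup G) := hk ▸ hy
          have hz' : z ∈ ((k • P : Sylow p G) : Subgroup G) := hk ▸ hz.1
          obtain ⟨a, ha, rfl⟩ := hy'
          obtain ⟨b, hb, rfl⟩ := hz'
          exact ((map_mul (MulAut.conj k) a b).symm.trans ((congrArg _ (H.Xp_comm ha hb)).trans
            (map_mul (MulAut.conj k) b a)))
        exact H.cent_root_p D.prime hz.2 hz1 Q.2 hy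
          (H.none_cent_le D h7 h4 hz.2 hz1 (mem_centralizer_singleton_iff.2 hab)) hab
      · rw [P.card_eq_multiplicity, Q.card_eq_multiplicity]
    rw [hbot, relIndex_bot_left, show Nat.card (P : Subgroup G) = Fintype.card F from H.card_Xp]
  -- the order of the normalizer
  have hN : normalizer (H.Xp : Set G) = H.Xp ⊔ H.T := by
    refine le_antisymm (fun g hg' => ?_) (sup_le le_normalizer
      fun τ hτ => Coprime.mem_normalizer_of_forall fun x hx => H.T_norm hτ hx)
    obtain ⟨c, hc, τ, hτ, rfl⟩ := H.norm_decomp D hg'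
    have hct : c ∈ centralizer {H.t} :=
      H.none_cent_le D h7 h4 hx0 hx01 (mem_centralizer_singleton_iff.2 (mem_centralizer_iff.1 hc x0 hx0).symm)
    obtain ⟨z, hz, y, hy, rfl⟩ := H.cent_root hx0 hx01 hct (mem_centralizer_iff.1 hc x0 hx0).symm
    exact mul_mem (mul_mem (mem_sup_right (H.Zt_le hz)) (mem_sup_left hy)) (mem_sup_right hτ)
  have hcN : Nat.card (normalizer (H.Xp : Set G)) = Fintype.card F * Nat.card H.T := by
    rw [hN, Coprime.card_sup_of_coprime (fun τ hτ => Coprime.mem_normalizer_of_forall fun x hx => H.T_norm hτ hx) ?_,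
      H.card_Xp]
    rw [H.card_Xp, D.card]
    exact Nat.Coprime.pow_left n (D.prime.coprime_iff_not_dvd.2 (H.T_not_dvd D.prime D.card))
  have hnp : Nat.card (Sylow p G) = (Fintype.card F + 1) * (centralizer {H.t}).index := by
    refine Nat.eq_of_mul_eq_mul_left (Nat.card_pos (α := normalizer (H.Xp : Set G))) ?_
    rw [P.card_eq_index_normalizer]
    show Nat.card (normalizer (H.Xp : Set G)) * (normalizer (H.Xp : Set G)).index = _
    rw [card_mul_index, hcN, ← (centralizer {H.t}).card_mul_index, H.card_cent_eq_T]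
    ring
  have hJ1 : (centralizer {H.t}).index % Fintype.card F = 1 := by
    obtain ⟨e, he⟩ := hcong
    have hpos : 0 < Nat.card (Sylow p G) := Nat.card_pos
    rw [hnp] at he hpos
    have e' : (Fintype.card F + 1) * (centralizer {H.t}).index = Fintype.card F * e + 1 := by omega
    have := congrArg (· % Fintype.card F) e'
    simp only [Nat.add_mul_mod_self_left, Nat.mul_add_mod_self_left, add_mul, one_mul] at this
    rw [Nat.one_mod_eq_one.2 (by omega)] at this
    exact this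
  obtain ⟨X, hX0, hX1, hXq, hsec, htwo, hidx⟩ := H.exists_equations D.prime D.card h4
  refine Eqs.none_false ⟨D.prime, D.card, H.one_le_n D.prime D.card, h4, h7, hX0, hX1, hXq, hidx, hsec, htwo⟩
    hpJ hJ1 ?_
  have hc := H.index_congr h4
  push_cast at hc
  refine dvd_trans ?_ hc
  push_cast
  refine pow_dvd_pow 2 ((Nat.Prime.pow_dvd_iff_le_factorization Nat.prime_two Nat.card_pos.ne').1 ?_)
  have hk := H.card_cent
  have hd : 2 ^ (padicValNat 2 (Fintype.card F + 1) + 2) ∣
      Nat.card (centralizer {H.t}) * Nat.card H.π.ker := by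
    rw [H.card_cent_eq_T, mul_right_comm, H.card_T, pow_add, mul_comm]
    exact mul_dvd_mul (pow_dvd_pow_of_dvd (by omega) 2) (dvd_mul_of_dvd_right pow_padicValNat_dvd _)
  exact (Nat.Coprime.pow_left _ (Nat.coprime_two_left.2 H.ker_odd)).dvd_of_dvd_mul_right hd

end Hyp

end Cfsg.Agent.LThreeRec
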