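import Cfsg.Agent.Lib.LThreeRec.GoodLocal
import Cfsg.Agent.Lib.Coprime.Generation

/-!
# Characterising `PSL(3, q)`: root groups and their centralizers

* `Hyp.U4`: the four-group `{1, t, s, ts}`; `le_of_four`, `odd_of_free`
* `Hyp.cent_root`: `C(t) ∩ C(x) = Zt * Xp` for a root element `x`
* `Hyp.exists_core`: the odd core of the centralizer of a set of root elements
* `Hyp.dual`: the transpose-inverse set-up, exchanging the two root groups
* `Comm`, `Hyp.pos_iff`, `Hyp.dual_negOne`, `Hyp.comm_full`: which root groups commute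
-/

set_option autoImplicit false
set_option linter.unusedSectionVars false
set_option linter.style.haveILetI false

namespace Cfsg.Agent.LThreeRec

open Subgroup
open scoped Pointwise

/-- Elementwise commutation of two subgroups. -/
def Comm {G : Type*} [Group G] (A B : Subgroup G) : Prop := ∀ x ∈ A, ∀ y ∈ B, x * y = y * x

theorem Comm.symm {G : Type*} [Group G] {A B : Subgroup G} (h : Comm A B) : Comm B A :=
  fun x hx y hy => (h y hy x hx).symm

theorem Comm.conj {G : Type*} [Group G] {A B : Subgroup G} (h : Comm A B) (g : G) :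
    Comm (A.map (MulAut.conj g).toMonoidHom) (B.map (MulAut.conj g).toMonoidHom) := by
  rintro _ ⟨x, hx, rfl⟩ _ ⟨y, hy, rfl⟩
  rw [← map_mul, ← map_mul, h x hx y hy]

theorem map_conj_map {G : Type*} [Group G] (A : Subgroup G) (a b : G) :
    (A.map (MulAut.conj a).toMonoidHom).map (MulAut.conj b).toMonoidHom =
      A.map (MulAut.conj (b * a)).toMonoidHom := by
  rw [map_map]
  congr 1
  ext x
  simp [mul_assoc]

variable {F : Type*} [Field F]

/-- Transpose inverse. -/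
noncomputable def theta : GL (Fin 2) F →* GL (Fin 2) F where
  toFun g := ⟨((g⁻¹ : GL (Fin 2) F) : Matrix (Fin 2) (Fin 2) F).transpose,
    (g : Matrix (Fin 2) (Fin 2) F).transpose,
    by rw [← Matrix.transpose_mul, ← Units.val_mul, mul_inv_cancel, Units.val_one, Matrix.transpose_one],
    by rw [← Matrix.transpose_mul, ← Units.val_mul, inv_mul_cancel, Units.val_one, Matrix.transpose_one]⟩
  map_one' := Units.ext (by simp)
  map_mul' g h := Units.ext (by simp [Matrix.transpose_mul])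

theorem theta_theta (g : GL (Fin 2) F) : theta (theta g) = g :=
  Units.ext (by
    show ((theta g)⁻¹ : GL (Fin 2) F).val.transpose = g.val
    rw [← map_inv]
    show (((g⁻¹)⁻¹ : GL (Fin 2) F).val.transpose).transpose = g.val
    rw [inv_inv, Matrix.transpose_transpose])

theorem theta_eq {g h : GL (Fin 2) F} (e : (g : Matrix (Fin 2) (Fin 2) F).transpose * h = 1) :
    theta g = h := by
  apply Units.ext
  show ((g⁻¹ : GL (Fin 2) F) : Matrix (Fin 2) (Fin 2) F).transpose = h.val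
  calc _ = ((g⁻¹ : GL (Fin 2) F) : Matrix (Fin 2) (Fin 2) F).transpose *
        ((g : Matrix (Fin 2) (Fin 2) F).transpose * h) := by rw [e, mul_one]
    _ = h.val := by
      rw [← mul_assoc, ← Matrix.transpose_mul, ← Units.val_mul, mul_inv_cancel, Units.val_one,
        Matrix.transpose_one, one_mul]

theorem theta_dg (x : Fˣ × Fˣ) : theta (dg x) = dg x⁻¹ := theta_eq (by
  rw [dg_coe, dg_coe]
  ext i j; fin_cases i <;> fin_cases j <;> simp [Matrix.mul_apply, Fin.sum_univ_two])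

theorem theta_map (e : F ≃+* F) (g : GL (Fin 2) F) :
    theta (Matrix.GeneralLinearGroup.map e.toRingHom g) = Matrix.GeneralLinearGroup.map e.toRingHom (theta g) := by
  apply Units.ext
  show ((Matrix.GeneralLinearGroup.map e.toRingHom g)⁻¹ : GL (Fin 2) F).val.transpose =
    ((g⁻¹ : GL (Fin 2) F) : Matrix (Fin 2) (Fin 2) F).transpose.map e.toRingHom
  rw [← map_inv, Matrix.transpose_map]
  rfl

theorem theta_u (c : F) : theta (u c) = v (-c) := theta_eq (by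
  ext i j; fin_cases i <;> fin_cases j <;> simp [Matrix.mul_apply, Fin.sum_univ_two])

theorem theta_v (c : F) : theta (v c) = u (-c) := by
  conv_rhs => rw [← theta_theta (u (-c)), theta_u, neg_neg]

namespace Hyp

variable {G : Type*} [Group G] (H : Hyp F G)

/-- The transpose-inverse set-up. -/
noncomputable def dual : Hyp F G where
  π := H.π.comp theta
  ker_le := fun g hg => by
    have hc := H.ker_le (show theta g ∈ H.π.ker from hg)
    refine mem_center_iff.2 fun k => ?_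
    have e := congrArg theta (mem_center_iff.1 hc (theta k))
    rwa [map_mul, map_mul, theta_theta, theta_theta] at e
  ker_odd := by
    have e : (H.π.comp theta).ker = H.π.ker.comap theta := rfl
    rw [e, Nat.card_congr ((⟨theta, theta, theta_theta, theta_theta⟩ :
      GL (Fin 2) F ≃ GL (Fin 2) F).subtypeEquiv (p := fun g => g ∈ H.π.ker.comap theta)
      (q := fun g => g ∈ H.π.ker) (fun _ => Iff.rfl))]
    exact H.ker_odd
  range_le := by
    have e : theta (gt : GL (Fin 2) F) = gt := by rw [gt, theta_dg]; simp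
    rintro _ ⟨h, rfl⟩
    rw [MonoidHom.comp_apply, MonoidHom.comp_apply, e]
    exact H.π_mem_cent _
  odd_index := by
    have e : theta (gt : GL (Fin 2) F) = gt := by rw [gt, theta_dg]; simp
    rw [MonoidHom.range_comp, MonoidHom.range_eq_top.2 fun g => ⟨theta g, theta_theta g⟩,
      ← MonoidHom.range_eq_map, MonoidHom.comp_apply, e]
    exact H.odd_index
  field x hx := by
    have e : theta (gt : GL (Fin 2) F) = gt := by rw [gt, theta_dg]; simp
    rw [MonoidHom.comp_apply, e] at hx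
    obtain ⟨g, σ, hg, hid⟩ := H.field x hx
    refine ⟨theta g, σ, fun h => ?_, fun hσ => ?_⟩
    · rw [MonoidHom.comp_apply, MonoidHom.comp_apply, hg, map_mul theta, map_mul theta, map_inv theta,
        theta_theta, theta_map]
    · obtain ⟨k, hk⟩ := hid hσ
      exact ⟨theta k, by rw [MonoidHom.comp_apply, theta_theta, hk]⟩
  two_ne := H.two_ne

theorem dual_t : H.dual.t = H.t := by
  show H.π (theta gt) = H.π gt
  congr 1; rw [gt, theta_dg]; simp

instance [h : H.Exact] : H.dual.Exact where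
  range_eq := by
    rw [dual_t, ← h.range_eq, show H.dual.π = H.π.comp theta from rfl, MonoidHom.range_comp,
      MonoidHom.range_eq_top.2 fun g => ⟨theta g, theta_theta g⟩, ← MonoidHom.range_eq_map]

theorem dual_s : H.dual.s = H.s := by
  show H.π (theta gs) = H.π gs
  congr 1; rw [gs, theta_dg]; simp

theorem dual_T : H.dual.T = H.T := by
  ext x
  constructor
  · rintro ⟨_, ⟨a, rfl⟩, rfl⟩
    exact ⟨_, ⟨a⁻¹, rfl⟩, by rw [← theta_dg]; rfl⟩
  · rintro ⟨_, ⟨a, rfl⟩, rfl⟩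
    exact ⟨_, ⟨a⁻¹, rfl⟩, by show H.π (theta _) = _; rw [theta_dg, inv_inv]⟩

theorem dual_Xp : H.dual.Xp = H.Xm := by
  ext x
  constructor
  · rintro ⟨_, ⟨a, rfl⟩, rfl⟩
    exact ⟨_, ⟨Multiplicative.ofAdd (-a.toAdd), rfl⟩, congrArg H.π (theta_u a.toAdd).symm⟩
  · rintro ⟨_, ⟨a, rfl⟩, rfl⟩
    refine ⟨_, ⟨Multiplicative.ofAdd (-a.toAdd), rfl⟩, ?_⟩
    show H.π (theta (u (-a.toAdd))) = _
    rw [theta_u, neg_neg]; rfl

theorem dual_Xm : H.dual.Xm = H.Xp := by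
  ext x
  constructor
  · rintro ⟨_, ⟨a, rfl⟩, rfl⟩
    exact ⟨_, ⟨Multiplicative.ofAdd (-a.toAdd), rfl⟩, congrArg H.π (theta_v a.toAdd).symm⟩
  · rintro ⟨_, ⟨a, rfl⟩, rfl⟩
    refine ⟨_, ⟨Multiplicative.ofAdd (-a.toAdd), rfl⟩, ?_⟩
    show H.π (theta (v (-a.toAdd))) = _
    rw [theta_v, neg_neg]; rfl

theorem T_le_cent {τ x : G} (hτ : τ ∈ H.T) (hx : x ∈ H.T) : τ * x * τ⁻¹ = x := by
  rw [H.T_comm hτ hx, mul_inv_cancel_right]

/-- The scalars. -/
noncomputable def Zt : Subgroup G :=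
  ((dg (F := F)).comp ((MonoidHom.id Fˣ).prod (MonoidHom.id Fˣ))).range.map H.π

theorem Zt_le : H.Zt ≤ H.T := by
  rintro _ ⟨_, ⟨b, rfl⟩, rfl⟩
  exact ⟨_, ⟨(b, b), rfl⟩, rfl⟩

theorem Zt_comm_of {z x : G} (hz : z ∈ H.Zt) (hx : x ∈ H.π.range) : z * x = x * z := by
  obtain ⟨_, ⟨b, rfl⟩, rfl⟩ := hz
  obtain ⟨g, rfl⟩ := hx
  rw [← map_mul, ← map_mul]
  congr 1
  exact ext2 (by simp [mul_comm]) (by simp [mul_comm]) (by simp [mul_comm]) (by simp [mul_comm])

theorem Zt_comm [H.Exact] {z x : G} (hz : z ∈ H.Zt) (hx : x ∈ centralizer {H.t}) : z * x = x * z :=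
  H.Zt_comm_of hz (H.range_t.symm ▸ hx)

theorem Xp_le_range : H.Xp ≤ H.π.range := fun _ ⟨g, _, hg⟩ => ⟨g, hg⟩

theorem t_mem_Zt : H.t ∈ H.Zt := ⟨_, ⟨-1, rfl⟩, rfl⟩

theorem s_inv {x : G} (hx : x ∈ H.Xp) : H.s * x * H.s⁻¹ = x⁻¹ := by
  obtain ⟨_, ⟨a, rfl⟩, rfl⟩ := hx
  rw [mul_inv_eq_iff_eq_mul, s, ← map_inv, ← map_inv, ← map_mul, ← map_mul]
  congr 1
  exact ext2 (by simp [up]) (by simp [up]) (by simp [up]) (by simp [up])

theorem Xp_le : H.Xp ≤ centralizer {H.t} := fun _ ⟨g, _, hg⟩ => hg ▸ H.π_mem_cent g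

theorem Xm_le : H.Xm ≤ centralizer {H.t} := fun _ ⟨g, _, hg⟩ => hg ▸ H.π_mem_cent g

theorem Xp_comm {x y : G} (hx : x ∈ H.Xp) (hy : y ∈ H.Xp) : x * y = y * x := by
  obtain ⟨_, ⟨a, rfl⟩, rfl⟩ := hx
  obtain ⟨_, ⟨b, rfl⟩, rfl⟩ := hy
  rw [← map_mul, ← map_mul, ← map_mul, ← map_mul, mul_comm]

theorem w_Xp : H.Xp.map (MulAut.conj (H.π ww)).toMonoidHom = H.Xm := by
  have e : ∀ c : F, ww * u c * ww⁻¹ = (v c : GL (Fin 2) F) := fun c =>
    mul_inv_eq_iff_eq_mul.2 (ext2 (by simp) (by simp) (by simp) (by simp))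
  ext x
  constructor
  · rintro ⟨_, ⟨_, ⟨a, rfl⟩, rfl⟩, rfl⟩
    refine ⟨_, ⟨a, rfl⟩, ?_⟩
    show H.π (lo a) = H.π ww * H.π (up a) * (H.π ww)⁻¹
    rw [← map_inv, ← map_mul, ← map_mul]
    exact congrArg H.π (e a.toAdd).symm
  · rintro ⟨_, ⟨a, rfl⟩, rfl⟩
    refine ⟨H.π (up a), ⟨_, ⟨a, rfl⟩, rfl⟩, ?_⟩
    show H.π ww * H.π (up a) * (H.π ww)⁻¹ = H.π (lo a)
    rw [← map_inv, ← map_mul, ← map_mul]
    exact congrArg H.π (e a.toAdd)

theorem ww_mul_self : H.π ww * H.π ww = 1 := by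
  rw [← map_mul, show (ww * ww : GL (Fin 2) F) = 1 from
    ext2 (by simp) (by simp) (by simp) (by simp), map_one]

theorem w_Xm : H.Xm.map (MulAut.conj (H.π ww)).toMonoidHom = H.Xp := by
  rw [← H.w_Xp, map_conj_map, H.ww_mul_self, map_one]
  exact map_id _

/-- The four-group. -/
def U4 : Subgroup G where
  carrier := {x | x = 1 ∨ x = H.t ∨ x = H.s ∨ x = H.t * H.s}
  one_mem' := Or.inl rfl
  inv_mem' {x} hx := by
    rcases hx with rfl | rfl | rfl | rfl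
    · exact Or.inl inv_one
    · exact Or.inr (Or.inl (Involution.inv_eq H.t_order))
    · exact Or.inr (Or.inr (Or.inl (Involution.inv_eq H.s_order)))
    · exact Or.inr (Or.inr (Or.inr (Involution.inv_eq H.ts_order)))
  mul_mem' {x y} hx hy := by
    have tt := Involution.mul_self H.t_order
    have ss := Involution.mul_self H.s_order
    have st := H.st_comm
    show _ ∨ _ ∨ _ ∨ _
    rcases hx with rfl | rfl | rfl | rfl <;> rcases hy with rfl | rfl | rfl | rfl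
    · exact Or.inl (mul_one 1)
    · exact Or.inr (Or.inl (one_mul _))
    · exact Or.inr (Or.inr (Or.inl (one_mul _)))
    · exact Or.inr (Or.inr (Or.inr (one_mul _)))
    · exact Or.inr (Or.inl (mul_one _))
    · exact Or.inl tt
    · exact Or.inr (Or.inr (Or.inr rfl))
    · exact Or.inr (Or.inr (Or.inl (by rw [← mul_assoc, tt, one_mul])))
    · exact Or.inr (Or.inr (Or.inl (mul_one _)))
    · exact Or.inr (Or.inr (Or.inr st))
    · exact Or.inl ss
    · exact Or.inr (Or.inl (by rw [← mul_assoc, st, mul_assoc, ss, mul_one]))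
    · exact Or.inr (Or.inr (Or.inr (mul_one _)))
    · exact Or.inr (Or.inr (Or.inl (by rw [mul_assoc, st, ← mul_assoc, tt, one_mul])))
    · exact Or.inr (Or.inl (by rw [mul_assoc, ss, mul_one]))
    · exact Or.inl (by rw [mul_assoc, ← mul_assoc H.s, st, mul_assoc H.t H.s H.s, ss, mul_one, tt])

theorem mem_U4 {x : G} : x ∈ H.U4 ↔ x = 1 ∨ x = H.t ∨ x = H.s ∨ x = H.t * H.s := Iff.rfl

theorem t_mem_U4 : H.t ∈ H.U4 := Or.inr (Or.inl rfl)

theorem s_mem_U4 : H.s ∈ H.U4 := Or.inr (Or.inr (Or.inl rfl))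

theorem U4_le_T : H.U4 ≤ H.T := by
  intro x hx
  rcases hx with rfl | rfl | rfl | rfl
  · exact H.T.one_mem
  · exact H.t_mem_T
  · exact H.s_mem_T
  · exact H.T.mul_mem H.t_mem_T H.s_mem_T

theorem U4_sq {x : G} (hx : x ∈ H.U4) : x * x = 1 := by
  rcases hx with rfl | rfl | rfl | rfl
  · exact mul_one 1
  · exact Involution.mul_self H.t_order
  · exact Involution.mul_self H.s_order
  · exact Involution.mul_self H.ts_order

variable [Fintype F] [Finite G]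

theorem T_norm {τ x : G} (hτ : τ ∈ H.T) (hx : x ∈ H.Xp) : τ * x * τ⁻¹ ∈ H.Xp := by
  rw [← H.toLData_T] at hτ; rw [← H.toLData_X] at hx ⊢
  exact H.toLData.T_normal_X hτ hx

theorem T_map_Xp {τ : G} (hτ : τ ∈ H.T) : H.Xp.map (MulAut.conj τ).toMonoidHom = H.Xp := by
  refine le_antisymm ?_ fun x hx => ?_
  · rintro _ ⟨x, hx, rfl⟩; exact H.T_norm hτ hx
  · exact ⟨τ⁻¹ * x * τ, by simpa using H.T_norm (inv_mem hτ) hx, by simp [mul_assoc]⟩

theorem cent_map_Xp {x : G} (hx : x ∈ centralizer {H.t}) (hs : x * H.s = H.s * x) :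
    H.Xp.map (MulAut.conj x).toMonoidHom = H.Xp := by
  refine Subgroup.eq_of_le_of_card_ge ?_ (by rw [card_map_of_injective (MulAut.conj x).injective])
  rintro _ ⟨y, hy, rfl⟩
  exact H.conj_Xp_mem hx hs hy

theorem card_Xp : Nat.card H.Xp = Fintype.card F := by
  rw [← H.toLData_X]; exact H.toLData.card_X

theorem card_Xm : Nat.card H.Xm = Fintype.card F := by
  rw [← H.dual_Xp]; exact H.dual.card_Xp

theorem exists_ne_one : ∃ x ∈ H.Xp, x ≠ 1 := by
  rw [← H.toLData_X]; exact H.toLData.exists_ne_one_X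

theorem Xp_inf_Xm {x : G} (h : x ∈ H.Xp) (h' : x ∈ H.Xm) : x = 1 := by
  rw [← H.toLData_X] at h; rw [← H.toLData_X'] at h'
  exact H.toLData.X_inter_X' h h'

theorem root_full {K : Subgroup G} (hK : ∀ τ ∈ H.T, ∀ x ∈ K, τ * x * τ⁻¹ ∈ K) {x : G}
    (hx : x ∈ H.Xp) (hxK : x ∈ K) (hx1 : x ≠ 1) : H.Xp ≤ K := by
  rw [← H.toLData_T] at hK; rw [← H.toLData_X] at hx ⊢
  exact H.toLData.root_full hK hx hxK hx1

theorem root_full_m {K : Subgroup G} (hK : ∀ τ ∈ H.T, ∀ x ∈ K, τ * x * τ⁻¹ ∈ K) {x : G}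
    (hx : x ∈ H.Xm) (hxK : x ∈ K) (hx1 : x ≠ 1) : H.Xm ≤ K := by
  rw [← H.dual_T] at hK; rw [← H.dual_Xp] at hx ⊢
  exact H.dual.root_full hK hx hxK hx1

theorem cent_root_of {x x0 : G} (h0 : x0 ∈ H.Xp) (h01 : x0 ≠ 1) (hx : x ∈ H.π.range)
    (hc : x * x0 = x0 * x) : ∃ z ∈ H.Zt, ∃ y ∈ H.Xp, x = z * y := by
  obtain ⟨a, ha⟩ := (H.toLData_X ▸ h0 : x0 ∈ H.toLData.X)
  simp only at ha
  have ha0 : a ≠ 0 := fun e => h01 (by
    rw [← ha, e]
    have : (uS (0 : F) : Matrix.SpecialLinearGroup (Fin 2) F) = 1 := by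
      apply Subtype.ext; ext i j; fin_cases i <;> fin_cases j <;> simp [uS]
    rw [this, map_one])
  obtain ⟨b, c, rfl⟩ := H.toLData.cent_root_of ha0 (MonoidHom.mem_range.1 hx) (by rw [ha]; exact hc)
  refine ⟨_, ⟨_, ⟨b, rfl⟩, rfl⟩, _, H.toLData_X ▸ H.toLData.mem_X.2 ⟨c, rfl⟩, ?_⟩
  show _ = H.π (dg (b, b)) * _
  rw [← dG_eq]; rfl

theorem cent_root [H.Exact] {x x0 : G} (h0 : x0 ∈ H.Xp) (h01 : x0 ≠ 1) (hx : x ∈ centralizer {H.t})
    (hc : x * x0 = x0 * x) : ∃ z ∈ H.Zt, ∃ y ∈ H.Xp, x = z * y :=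
  H.cent_root_of h0 h01 (H.range_t.symm ▸ hx) hc

section char

variable {p : ℕ} [CharP F p] (hp : p.Prime)
include hp H

theorem T_inter_p {W : Subgroup G} (hW : IsPGroup p W) {x : G} (hx : x ∈ W) (hxT : x ∈ H.T) : x = 1 :=
  H.toLData.T_inter_pGroup hp hW hx (H.toLData_T ▸ hxT)

theorem Xp_pGroup : IsPGroup p H.Xp := by rw [← H.toLData_X]; exact H.toLData.X_pGroup hp

theorem odd_p : Odd p := hp.eq_two_or_odd'.resolve_left fun h => by
  subst h
  exact H.two_ne (by exact_mod_cast CharP.cast_eq_zero F 2)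

theorem root_cases_of {W : Subgroup G} (hW : IsPGroup p W) (hWt : W ≤ centralizer {H.t})
    (hWs : ∀ x ∈ W, H.s * x * H.s⁻¹ ∈ W) (hfix : ∀ x ∈ W, x * H.s = H.s * x → x ∈ H.π.range) :
    W ≤ H.Xp ∨ W ≤ H.Xm := by
  rw [← H.toLData_X, ← H.toLData_X']
  refine H.toLData.root_cases_of hp hW hWt ?_ ?_
  · rw [H.toLData_u]; exact hWs
  · rw [H.toLData_u]; exact fun x hx h => MonoidHom.mem_range.1 (hfix x hx h)

theorem root_cases [H.Exact] {W : Subgroup G} (hW : IsPGroup p W) (hWt : W ≤ centralizer {H.t})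
    (hWs : ∀ x ∈ W, H.s * x * H.s⁻¹ ∈ W) : W ≤ H.Xp ∨ W ≤ H.Xm :=
  H.root_cases_of hp hW hWt hWs fun _ hx _ => H.range_t.symm ▸ hWt hx

/-- `C(t) ∩ C(x)` for a `p`-element. -/
theorem cent_root_p_of {x x0 : G} (h0 : x0 ∈ H.Xp) (h01 : x0 ≠ 1) {W : Subgroup G} (hW : IsPGroup p W)
    (hxW : x ∈ W) (hx : x ∈ H.π.range) (hc : x * x0 = x0 * x) : x ∈ H.Xp := by
  obtain ⟨z, hz, y, hy, rfl⟩ := H.cent_root_of h0 h01 hx hc
  obtain ⟨k, hk⟩ := hW ⟨_, hxW⟩
  obtain ⟨l, hl⟩ := H.Xp_pGroup hp ⟨_, hy⟩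
  have hk' : (z * y) ^ p ^ k = 1 := congrArg Subtype.val hk
  have hl' : y ^ p ^ l = 1 := congrArg Subtype.val hl
  have hc' : Commute z y := H.Zt_comm_of hz (H.Xp_le_range hy)
  have hz1 : z ^ p ^ (k + l) = 1 := by
    have e : (z * y) ^ p ^ (k + l) = 1 := by rw [pow_add, pow_mul, hk', one_pow]
    have e' : y ^ p ^ (k + l) = 1 := by rw [add_comm, pow_add, pow_mul, hl', one_pow]
    rwa [hc'.mul_pow, e', mul_one] at e
  have hzp : IsPGroup p (zpowers z) := by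
    obtain ⟨m, -, hm⟩ := (Nat.dvd_prime_pow hp).1 (orderOf_dvd_of_pow_eq_one hz1)
    exact IsPGroup.of_card (n := m) (by rw [Nat.card_zpowers, hm])
  rw [H.T_inter_p hp hzp (mem_zpowers z) (H.Zt_le hz), one_mul]
  exact hy

theorem cent_root_p [H.Exact] {x x0 : G} (h0 : x0 ∈ H.Xp) (h01 : x0 ≠ 1) {W : Subgroup G}
    (hW : IsPGroup p W) (hxW : x ∈ W) (hx : x ∈ centralizer {H.t}) (hc : x * x0 = x0 * x) : x ∈ H.Xp :=
  H.cent_root_p_of hp h0 h01 hW hxW (H.range_t.symm ▸ hx) hc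

end char

theorem T_invol {x : G} (hx : x ∈ H.T) (h2 : x * x = 1) : x ∈ H.U4 := by
  have h := H.toLData.T_invol (H.toLData_T ▸ hx) h2
  rwa [H.toLData_u] at h

theorem not_cyclic_U4 : ¬ IsCyclic H.U4 := fun h =>
  H.s_ne_t (U3Recog.eq_of_cyclic h H.s_order H.t_order H.s_mem_U4 H.t_mem_U4)

theorem U4_norm {K : Subgroup G} (ht : ∀ x ∈ K, H.t * x * H.t⁻¹ ∈ K)
    (hs : ∀ x ∈ K, H.s * x * H.s⁻¹ ∈ K) : H.U4 ≤ normalizer (K : Set G) := by
  have h1 := Coprime.mem_normalizer_of_forall (H := K) ht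
  have h2 := Coprime.mem_normalizer_of_forall (H := K) hs
  intro x hx
  rcases hx with rfl | rfl | rfl | rfl
  · exact Subgroup.one_mem _
  · exact h1
  · exact h2
  · exact Subgroup.mul_mem _ h1 h2

theorem card_U4_coprime {K : Subgroup G} (hK : Odd (Nat.card K)) :
    (Nat.card H.U4).Coprime (Nat.card K) := by
  haveI : Fact (Nat.Prime 2) := ⟨Nat.prime_two⟩
  have hp : IsPGroup 2 H.U4 := fun x => ⟨1, Subtype.ext (by
    show (x : G) ^ 2 ^ 1 = 1
    rw [pow_one, sq]; exact H.U4_sq x.2)⟩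
  obtain ⟨k, hk⟩ := hp.exists_card_eq
  rw [hk]
  exact Nat.Coprime.pow_left k (Nat.coprime_two_left.2 hK)

/-- Generation of an odd subgroup normalised by `U4`. -/
theorem le_of_four {K W : Subgroup G} (hodd : Odd (Nat.card K)) (hU : H.U4 ≤ normalizer (K : Set G))
    (h : ∀ a ∈ H.U4, a ≠ 1 → K ⊓ centralizer {a} ≤ W) : K ≤ W := by
  haveI : IsMulCommutative H.U4 := ⟨⟨fun a b => Subtype.ext (H.T_comm (H.U4_le_T a.2) (H.U4_le_T b.2))⟩⟩
  exact Coprime.le_of_noncyclic H.not_cyclic_U4 hU (H.card_U4_coprime hodd) h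

/-- A subgroup normalised by `U4` without involutions of `U4` is odd. -/
theorem odd_of_free {Y : Subgroup G} (hU : H.U4 ≤ normalizer (Y : Set G))
    (ht : H.t ∉ Y) (hs : H.s ∉ Y) (hts : H.t * H.s ∉ Y) : Odd (Nat.card Y) := by
  classical
  rw [← Nat.not_even_iff_odd]
  intro he
  haveI : Fact (Nat.Prime 2) := ⟨Nat.prime_two⟩
  -- `U4` acts on the even set of elements of square one
  have hp : IsPGroup 2 H.U4 := fun x => ⟨1, Subtype.ext (by
    show (x : G) ^ 2 ^ 1 = 1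
    rw [pow_one, sq]; exact H.U4_sq x.2)⟩
  letI act : MulAction H.U4 {y : Y // y * y = 1} :=
    { smul := fun a y => ⟨⟨(a : G) * (y.1 : G) * (a : G)⁻¹, (mem_normalizer_iff.1 (hU a.2) _).1 y.1.2⟩,
        Subtype.ext (by
          show (a : G) * y.1 * (a : G)⁻¹ * ((a : G) * y.1 * (a : G)⁻¹) = 1
          have e : (y.1 : G) * y.1 = 1 := congrArg Subtype.val y.2
          calc _ = (a : G) * ((y.1 : G) * y.1) * (a : G)⁻¹ := by group
            _ = 1 := by rw [e, mul_one, mul_inv_cancel])⟩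
      one_smul := fun y => Subtype.ext (Subtype.ext (by
        show (1 : G) * y.1 * 1⁻¹ = y.1
        simp))
      mul_smul := fun a b y => Subtype.ext (Subtype.ext (by
        show ((a * b : H.U4) : G) * y.1 * ((a * b : H.U4) : G)⁻¹ =
          (a : G) * ((b : G) * y.1 * (b : G)⁻¹) * (a : G)⁻¹
        simp [mul_assoc])) }
  have h2 : 2 ∣ Nat.card {y : Y // y * y = 1} := by
    haveI := Fintype.ofFinite Y
    obtain ⟨i, hi⟩ := exists_prime_orderOf_dvd_card (G := Y) 2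
      (by rw [← Nat.card_eq_fintype_card]; exact even_iff_two_dvd.1 he)
    have hi1 : i ≠ 1 := fun e => by rw [e, orderOf_one] at hi; norm_num at hi
    have hi2 : i * i = 1 := by rw [← sq, ← hi, pow_orderOf_eq_one]
    -- the map `y ↦ y⁻¹` on the rest has no fixed point
    have h := Equiv.Perm.exists_fixed_point_of_prime (p := 2) (n := 1)
      (σ := (Equiv.inv Y)) (α := Y)
    by_contra hodd
    have : ¬ 2 ∣ Fintype.card {y : Y // y * y ≠ 1} + Fintype.card {y : Y // y * y = 1} := by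
      intro hd
      refine hodd ?_
      rw [Nat.card_eq_fintype_card]
      refine (Nat.dvd_add_right ?_).1 hd
      by_contra hd'
      let f : {y : Y // y * y ≠ 1} → {y : Y // y * y ≠ 1} := fun y => ⟨y.1⁻¹, fun e => y.2 (by
        rw [← mul_inv_rev, inv_eq_one] at e; exact e)⟩
      obtain ⟨y, hy⟩ := Equiv.Perm.exists_fixed_point_of_prime (p := 2) (n := 1) hd'
        (σ := Function.Involutive.toPerm f fun y => Subtype.ext (inv_inv _))
        (by rw [pow_one, pow_two]; exact Equiv.ext fun y => Subtype.ext (inv_inv _))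
      have hy' : (y.1)⁻¹ = y.1 := congrArg Subtype.val hy
      exact y.2 (by nth_rewrite 1 [← hy']; exact inv_mul_cancel _)
    refine this ?_
    rw [Fintype.card_subtype_compl, Nat.sub_add_cancel (Fintype.card_subtype_le _), ← Nat.card_eq_fintype_card]
    exact even_iff_two_dvd.1 he
  have h1 : (⟨1, mul_one 1⟩ : {y : Y // y * y = 1}) ∈ MulAction.fixedPoints H.U4 {y : Y // y * y = 1} :=
    fun a => Subtype.ext (Subtype.ext (by show (a : G) * 1 * (a : G)⁻¹ = 1; simp))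
  obtain ⟨y, hy, hy1⟩ := hp.exists_fixed_point_of_prime_dvd_card_of_fixed_point _ h2 h1
  have hc : ∀ a ∈ H.U4, a * (y.1 : G) = y.1 * a := fun a ha => by
    have := congrArg (fun z : {y : Y // y * y = 1} => (z.1 : G)) (hy ⟨a, ha⟩)
    exact mul_inv_eq_iff_eq_mul.1 this
  have hy2 : (y.1 : G) * y.1 = 1 := congrArg Subtype.val y.2
  have hyT : (y.1 : G) ∈ H.T := H.mem_T_of
    (H.mem_of_two (k := 1) (mem_centralizer_singleton_iff.2 (hc _ H.t_mem_U4).symm)
      (by rw [pow_one, sq]; exact hy2)) (hc _ H.s_mem_U4).symm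
  rcases H.T_invol hyT hy2 with e | e | e | e
  · exact hy1 (Subtype.ext (Subtype.ext e.symm))
  · exact ht (e ▸ y.1.2)
  · exact hs (e ▸ y.1.2)
  · exact hts (e ▸ y.1.2)

/-- The odd core of the centralizer of a set of root elements. -/
theorem exists_core {p : ℕ} [CharP F p] (hp : p.Prime) {S : Set G} (hS : S ⊆ H.Xp)
    (h1 : ∃ x ∈ S, x ≠ 1) :
    (∀ i ∈ centralizer S, orderOf i = 2 → ∃ c ∈ centralizer S, c * H.t * c⁻¹ = i) ∧
    ∃ K : Subgroup G, K ≤ centralizer S ∧ Odd (Nat.card K) ∧ H.U4 ≤ normalizer (K : Set G) ∧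
      centralizer S ≤ normalizer (K : Set G) ∧ (∀ y ∈ centralizer S, Odd (orderOf y) → y ∈ K) ∧
      ∃ k : ℕ, Nat.card K * 2 ^ k = Nat.card (centralizer S) := by
  haveI : Fact (Nat.Prime 2) := ⟨Nat.prime_two⟩
  classical
  obtain ⟨x0, hx0S, hx01⟩ := h1
  set C := centralizer S with hC
  have hZC : H.Zt ≤ C := fun z hz => mem_centralizer_iff.2 fun x hx =>
    (H.Zt_comm_of hz (H.Xp_le_range (hS hx))).symm
  haveI : IsCyclic H.Zt := by
    let f : Fˣ →* H.Zt := (H.π.comp ((dg (F := F)).comp ((MonoidHom.id Fˣ).prod (MonoidHom.id Fˣ)))).codRestrict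
      H.Zt fun b => ⟨_, ⟨b, rfl⟩, rfl⟩
    refine isCyclic_of_surjective f ?_
    rintro ⟨_, _, ⟨b, rfl⟩, rfl⟩
    exact ⟨b, rfl⟩
  obtain ⟨P⟩ : Nonempty (Sylow 2 H.Zt) := inferInstance
  set R : Subgroup G := (P : Subgroup H.Zt).map H.Zt.subtype with hR
  have hRc : IsCyclic R :=
    ((P : Subgroup H.Zt).equivMapOfInjective _ H.Zt.subtype_injective).isCyclic.1 inferInstance
  have htR : H.t ∈ R := by
    have hpz : IsPGroup 2 (zpowers (⟨H.t, H.t_mem_Zt⟩ : H.Zt)) :=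
      IsPGroup.of_card (n := 1) (by rw [Nat.card_zpowers, Subgroup.orderOf_mk, H.t_order, pow_one])
    haveI : (zpowers (⟨H.t, H.t_mem_Zt⟩ : H.Zt)).Normal := by
      letI := IsCyclic.commGroup (α := H.Zt)
      exact inferInstance
    exact ⟨⟨H.t, H.t_mem_Zt⟩, hpz.le_sylow_of_normal P (mem_zpowers _), rfl⟩
  have hmax : ∀ W : Subgroup G, R ≤ W → W ≤ C ⊓ centralizer {H.t} → IsPGroup 2 W → W = R := by
    intro W hRW hWC hW
    have hWZ : W ≤ H.Zt := by
      intro x hx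
      obtain ⟨k0, hk0⟩ := hW ⟨_, hx⟩
      obtain ⟨z, hz, y, hy, rfl⟩ := H.cent_root_of (hS hx0S) hx01
        (H.mem_of_two (hWC hx).2 (congrArg Subtype.val hk0)) (mem_centralizer_iff.1 (hWC hx).1 _ hx0S).symm
      obtain ⟨k, hk⟩ := hW ⟨_, hx⟩
      have hk' : (z * y) ^ 2 ^ k = 1 := congrArg Subtype.val hk
      have hc' : Commute z y := H.Zt_comm_of hz (H.Xp_le_range hy)
      rw [hc'.mul_pow] at hk'
      have h2 : y ^ 2 ^ k = 1 := H.T_inter_p hp (H.Xp_pGroup hp) (H.Xp.pow_mem hy _)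
        (by rw [eq_inv_of_mul_eq_one_right hk']; exact H.T.inv_mem (H.T.pow_mem (H.Zt_le hz) _))
      obtain ⟨l, hl⟩ := H.Xp_pGroup hp ⟨_, hy⟩
      have hy1 : y = 1 := orderOf_eq_one_iff.1 (Nat.eq_one_of_dvd_coprimes
        ((Nat.coprime_two_left.2 (H.odd_p hp)).pow k l) (orderOf_dvd_of_pow_eq_one h2)
        (orderOf_dvd_of_pow_eq_one (congrArg Subtype.val hl)))
      rw [hy1, mul_one]; exact hz
    refine le_antisymm (fun x hx => ?_) hRW
    have hle : (P : Subgroup H.Zt) ≤ W.subgroupOf H.Zt := fun x hx => hRW ⟨x, hx, rfl⟩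
    have e := P.3 (hW.of_equiv (subgroupOfEquivOfLe hWZ).symm) hle
    refine ⟨⟨x, hWZ hx⟩, ?_, rfl⟩
    rw [SetLike.mem_coe, ← e]
    exact hx
  obtain ⟨hinv, K, hKC, hCK, hKodd, hKcard, hKmem⟩ := U3Recog.cyclic_two (X := C) H.t_order
    ((map_subtype_le _).trans hZC) (P.2.map _) hRc htR hmax
  refine ⟨hinv, K, hKC, hKodd, ?_, hCK, hKmem, ?_⟩
  · have key : ∀ a : G, (∀ x ∈ S, a⁻¹ * x * a = x ∨ a⁻¹ * x * a = x⁻¹) → ∀ y ∈ K, a * y * a⁻¹ ∈ K := by
      intro a ha y hy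
      have ho : orderOf (a * y * a⁻¹) = orderOf y := (MulAut.conj a).orderOf_eq y
      refine hKmem _ (mem_centralizer_iff.2 fun x hx => ?_) (ho ▸ hKodd.of_dvd_nat (by
        rw [← Subgroup.orderOf_mk y hy]; exact orderOf_dvd_natCard _))
      have hy' := mem_centralizer_iff.1 (hKC hy) x hx
      have e : (a⁻¹ * x * a) * y = y * (a⁻¹ * x * a) := by
        rcases ha x hx with e | e <;> rw [e]
        · exact hy'
        · exact (Commute.inv_left hy').eq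
      calc x * (a * y * a⁻¹) = a * ((a⁻¹ * x * a) * y) * a⁻¹ := by group
        _ = a * y * a⁻¹ * x := by rw [e]; group
    refine H.U4_norm (key _ fun x hx => Or.inl ?_) (key _ fun x hx => Or.inr ?_)
    · have := mem_centralizer_singleton_iff.1 (H.Xp_le (hS hx))
      rw [mul_assoc, this, inv_mul_cancel_left]
    · have := H.s_inv (hS hx)
      rw [Involution.inv_eq H.s_order] at this ⊢
      exact this
  · obtain ⟨k, hk⟩ := (P.2.map H.Zt.subtype).exists_card_eq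
    exact ⟨k, by rw [← hk]; exact hKcard⟩

theorem conj_map_Xp (a b : G) :
    (H.conj a).Xp.map (MulAut.conj b).toMonoidHom = (H.conj (b * a)).Xp := by
  rw [conj_Xp, conj_Xp, map_conj_map]

theorem conj_map_Xm (a b : G) :
    (H.conj a).Xm.map (MulAut.conj b).toMonoidHom = (H.conj (b * a)).Xm := by
  rw [conj_Xm, conj_Xm, map_conj_map]

theorem map_w_w (A : Subgroup G) :
    (A.map (MulAut.conj (H.π ww)).toMonoidHom).map (MulAut.conj (H.π ww)).toMonoidHom = A := by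
  rw [map_conj_map, H.ww_mul_self, map_one]
  exact map_id A

/-! ### The rotation -/

variable {σ : G} (hσ : σ * H.t * σ⁻¹ = H.s) (hσ' : σ * H.s * σ⁻¹ = H.t * H.s)
include hσ hσ'

theorem sigma_ts : σ * (H.t * H.s) * σ⁻¹ = H.t := by
  calc σ * (H.t * H.s) * σ⁻¹ = (σ * H.t * σ⁻¹) * (σ * H.s * σ⁻¹) := by group
    _ = H.t := by rw [hσ, hσ', ← mul_assoc, H.st_comm, mul_assoc, Involution.mul_self H.s_order, mul_one]

theorem conj_s_eq : (H.conj σ).s = H.t * H.s := by rw [conj_s, hσ']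

theorem conj_t_eq : (H.conj σ).t = H.s := by rw [conj_t, hσ]

theorem conjT : (H.conj σ).T = H.T := by
  ext x
  rw [conj_T]
  constructor
  · rintro ⟨τ, hτ, rfl⟩; exact H.map_T_rot hσ hσ' hτ
  · intro hx
    exact ⟨σ⁻¹ * x * σ, H.map_T_rot' hσ hσ' hx, by simp [mul_assoc]⟩

theorem sigma_T {τ : G} (hτ : τ ∈ H.T) : σ * τ * σ⁻¹ ∈ H.T := by
  rw [← H.conjT hσ hσ', conj_T]
  exact ⟨τ, hτ, rfl⟩

theorem sigma_T' {τ : G} (hτ : τ ∈ H.T) : σ⁻¹ * τ * σ ∈ H.T := by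
  rw [← H.conjT hσ hσ', conj_T] at hτ
  obtain ⟨τ', hτ', rfl⟩ := hτ
  simpa [mul_assoc] using hτ'

theorem sigma_cube_cent :
    σ * σ * σ ∈ centralizer {H.t} ∧ σ * σ * σ * H.s = H.s * (σ * σ * σ) := by
  refine ⟨mem_centralizer_singleton_iff.2 (mul_inv_eq_iff_eq_mul.1 ?_), mul_inv_eq_iff_eq_mul.1 ?_⟩
  · calc σ * σ * σ * H.t * (σ * σ * σ)⁻¹ = σ * (σ * (σ * H.t * σ⁻¹) * σ⁻¹) * σ⁻¹ := by group
      _ = H.t := by rw [hσ, hσ', H.sigma_ts hσ hσ']
  · calc σ * σ * σ * H.s * (σ * σ * σ)⁻¹ = σ * (σ * (σ * H.s * σ⁻¹) * σ⁻¹) * σ⁻¹ := by group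
      _ = H.s := by rw [hσ', H.sigma_ts hσ hσ', hσ]

theorem sigma_cube [H.Exact] : σ * σ * σ ∈ H.T := H.mem_T_iff.2 (H.sigma_cube_cent hσ hσ')

theorem conjT2 : (H.conj (σ * σ)).T = H.T := by
  rw [conj_T, ← map_conj_map, ← conj_T, H.conjT hσ hσ', ← conj_T, H.conjT hσ hσ']

theorem conj2_t : (H.conj (σ * σ)).t = H.t * H.s := by
  rw [conj_t, show σ * σ * H.t * (σ * σ)⁻¹ = σ * (σ * H.t * σ⁻¹) * σ⁻¹ by group, hσ, hσ']

theorem conj2_s : (H.conj (σ * σ)).s = H.t := by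
  rw [conj_s, show σ * σ * H.s * (σ * σ)⁻¹ = σ * (σ * H.s * σ⁻¹) * σ⁻¹ by group, hσ',
    H.sigma_ts hσ hσ']

/-- `π ww σ` and `σ σ π ww` differ by an element of `C(t) ∩ C(s)`. -/
theorem w_sigma : ∃ τ : G, (τ ∈ centralizer {H.t} ∧ τ * H.s = H.s * τ) ∧
    H.π ww * σ = σ * σ * H.π ww * τ := by
  set W := H.π ww
  have hWW : W * W = 1 := H.ww_mul_self
  have hWi : W⁻¹ = W := inv_eq_of_mul_eq_one_right hWW
  have hWt : W * H.t * W⁻¹ = H.t := by rw [H.π_t_comm, mul_inv_cancel_right]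
  have hWts : W * (H.t * H.s) * W⁻¹ = H.s := by
    calc W * (H.t * H.s) * W⁻¹ = (W * H.t * W⁻¹) * (W * H.s * W⁻¹) := by group
      _ = H.s := by rw [hWt, H.conj_w, ← mul_assoc, Involution.mul_self H.t_order, one_mul]
  have hs1 : σ⁻¹ * H.s * σ = H.t := by rw [← hσ]; group
  have hs2 : σ⁻¹ * (H.t * H.s) * σ = H.s := by rw [← hσ']; group
  have hs3 : σ⁻¹ * H.t * σ = H.t * H.s := by
    conv_lhs => rw [← H.sigma_ts hσ hσ']
    group
  refine ⟨W * σ⁻¹ * σ⁻¹ * W * σ, ?_, ?_⟩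
  · refine ⟨mem_centralizer_singleton_iff.2 (mul_inv_eq_iff_eq_mul.1 ?_),
      mul_inv_eq_iff_eq_mul.1 ?_⟩
    · calc W * σ⁻¹ * σ⁻¹ * W * σ * H.t * (W * σ⁻¹ * σ⁻¹ * W * σ)⁻¹
          = W * (σ⁻¹ * (σ⁻¹ * (W * (σ * H.t * σ⁻¹) * W⁻¹) * σ) * σ) * W⁻¹ := by
            simp only [mul_assoc, mul_inv_rev, inv_inv]
        _ = H.t := by rw [hσ, H.conj_w, hs2, hs1, hWt]
    · calc W * σ⁻¹ * σ⁻¹ * W * σ * H.s * (W * σ⁻¹ * σ⁻¹ * W * σ)⁻¹
          = W * (σ⁻¹ * (σ⁻¹ * (W * (σ * H.s * σ⁻¹) * W⁻¹) * σ) * σ) * W⁻¹ := by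
            simp only [mul_assoc, mul_inv_rev, inv_inv]
        _ = H.s := by rw [hσ', hWts, hs1, hs3, hWts]
  · nth_rewrite 2 [← hWi]
    group

theorem w_conj_Xp : (H.conj σ).Xp.map (MulAut.conj (H.π ww)).toMonoidHom = (H.conj (σ * σ)).Xm := by
  obtain ⟨τ, hτ, e⟩ := H.w_sigma hσ hσ'
  rw [conj_Xp, conj_Xm, map_conj_map, e, ← map_conj_map _ τ (σ * σ * H.π ww), H.cent_map_Xp hτ.1 hτ.2, ← H.w_Xp,
    map_conj_map]

theorem w_conj_Xm : (H.conj σ).Xm.map (MulAut.conj (H.π ww)).toMonoidHom = (H.conj (σ * σ)).Xp := by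
  have h := H.dual.w_sigma (σ := σ) (by rw [dual_t, dual_s, hσ]) (by rw [dual_t, dual_s, hσ'])
  obtain ⟨τ, hτ, e⟩ := H.w_sigma hσ hσ'
  have hτm : H.Xm.map (MulAut.conj τ).toMonoidHom = H.Xm := by
    rw [← H.dual_Xp]; exact H.dual.cent_map_Xp (by rw [dual_t]; exact hτ.1) (by rw [dual_s]; exact hτ.2)
  rw [conj_Xp, conj_Xm, map_conj_map, e, ← map_conj_map _ τ (σ * σ * H.π ww), hτm, ← H.w_Xm,
    map_conj_map]

/-! ### Which root groups commute -/

theorem conj_sigma_cube_Xp : (H.conj (σ * σ * σ)).Xp = H.Xp := by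
  rw [conj_Xp, H.cent_map_Xp (H.sigma_cube_cent hσ hσ').1 (H.sigma_cube_cent hσ hσ').2]

theorem pos_iff : Comm H.Xp (H.conj σ).Xp ↔ Comm H.Xp (H.conj (σ * σ)).Xp := by
  constructor <;> intro h
  · have h' := h.conj (σ * σ)
    rw [conj_map_Xp, H.conj_sigma_cube_Xp hσ hσ', ← conj_Xp] at h'
    exact h'.symm
  · have h' := h.conj σ
    rw [conj_map_Xp, ← mul_assoc, H.conj_sigma_cube_Xp hσ hσ', ← conj_Xp] at h'
    exact h'.symm

theorem dual_pos (h : Comm H.dual.Xp (H.dual.conj σ).Xp) : Comm H.Xp (H.conj σ).Xp := by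
  rw [conj_Xp, dual_Xp, ← conj_Xm] at h
  have h' := h.conj (H.π ww)
  rw [H.w_Xm, H.w_conj_Xm hσ hσ'] at h'
  exact (H.pos_iff hσ hσ').2 h'

theorem dual_negOne (h : Comm H.Xp (H.conj (σ * σ)).Xm) : Comm H.dual.Xp (H.dual.conj σ).Xm := by
  rw [conj_Xm, dual_Xm, dual_Xp, ← conj_Xp]
  have h' := h.conj (H.π ww)
  rwa [H.w_Xp, ← H.w_conj_Xp hσ hσ', H.map_w_w] at h'

theorem dual_negTwo (h : Comm H.dual.Xp (H.dual.conj (σ * σ)).Xm) : Comm H.Xp (H.conj σ).Xm := by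
  rw [conj_Xm, dual_Xm, dual_Xp, ← conj_Xp] at h
  have h' := h.conj (H.π ww)
  rwa [H.w_Xm, ← H.w_conj_Xm hσ hσ', H.map_w_w] at h'

end Hyp

namespace Hyp

variable {G : Type*} [Group G] (H : Hyp F G) [Fintype F] [Finite G]

theorem cent_Xp_T {τ y : G} (hτ : τ ∈ H.T) (hy : y ∈ centralizer (H.Xp : Set G)) :
    τ * y * τ⁻¹ ∈ centralizer (H.Xp : Set G) := by
  refine mem_centralizer_iff.2 fun x hx => ?_
  have hx' := H.T_norm (inv_mem hτ) hx
  rw [inv_inv] at hx'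
  have e := mem_centralizer_iff.1 hy _ hx'
  calc x * (τ * y * τ⁻¹) = τ * ((τ⁻¹ * x * τ) * y) * τ⁻¹ := by group
    _ = τ * y * τ⁻¹ * x := by rw [e]; group

/-- A root group of another block with one element centralizing `Xp` centralizes it. -/
theorem comm_full {g : G} (hg : (H.conj g).T = H.T) {y : G} (hy : y ∈ (H.conj g).Xp) (hy1 : y ≠ 1)
    (hc : ∀ x ∈ H.Xp, x * y = y * x) : Comm H.Xp (H.conj g).Xp := fun x hx z hz =>
  mem_centralizer_iff.1 ((H.conj g).root_full (K := centralizer (H.Xp : Set G))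
    (fun τ hτ k hk => H.cent_Xp_T (hg ▸ hτ) hk) hy (mem_centralizer_iff.2 hc) hy1 hz) x hx

theorem comm_full_m {g : G} (hg : (H.conj g).T = H.T) {y : G} (hy : y ∈ (H.conj g).Xm) (hy1 : y ≠ 1)
    (hc : ∀ x ∈ H.Xp, x * y = y * x) : Comm H.Xp (H.conj g).Xm := fun x hx z hz =>
  mem_centralizer_iff.1 ((H.conj g).root_full_m (K := centralizer (H.Xp : Set G))
    (fun τ hτ k hk => H.cent_Xp_T (hg ▸ hτ) hk) hy (mem_centralizer_iff.2 hc) hy1 hz) x hx

end Hyp

end Cfsg.Agent.LThreeRec
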