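import Cfsg.Agent.Lib.LThreeRec.Basic
import Cfsg.Agent.Lib.Bender.RankOneHalf
import Cfsg.Agent.Lib.Bender.Consumers

/-!
# Characterising `PSL(3, q)`: a proper subgroup cannot contain the three centralizers

* `top_of_le`
-/

set_option autoImplicit false

namespace Cfsg.Agent.LThreeRec

open Matrix Subgroup

namespace Hyp

variable {F : Type*} [Field F] {G : Type*} [Group G] (H : Hyp F G) [Finite G] [IsSimpleGroup G] [Fintype F] [H.Exact]

include H in
/-- A subgroup containing the centralizers of `t`, `s` and `ts` is everything. -/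
theorem top_of_le {K : Subgroup G} (h0 : centralizer {H.t} ≤ K) (h1 : centralizer {H.s} ≤ K) : K = ⊤ := by
  haveI : Fact (Nat.Prime 2) := ⟨Nat.prime_two⟩
  by_contra hne'
  obtain ⟨M, hM, hKM⟩ := (eq_top_or_exists_le_coatom K).resolve_left hne'
  replace h0 := h0.trans hKM
  replace h1 := h1.trans hKM
  have hne := hM.1
  clear hKM hne' K
  obtain ⟨R, hR, htR, -, -⟩ := H.exists_sylow_le
  -- `t` and `s` are conjugate in `M`
  have hts : ∃ k ∈ M, k * H.t * k⁻¹ = H.s := by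
    obtain ⟨g, hg⟩ := isConj_iff.1 (H.isConj_t H.s_order)
    obtain ⟨h, hh, hh'⟩ := H.exists_conj_in_cent hg (b := H.t) (c := H.t * H.s) H.st_comm.symm H.t_order
      H.s_ne_t.symm H.s_ts_comm.symm H.ts_order H.s_ne_ts.symm
    refine ⟨(H.π ww)⁻¹ * h, mul_mem (inv_mem (h0 (H.π_mem_cent _))) (h1 (mem_centralizer_singleton_iff.2 hh)), ?_⟩
    rw [show (H.π ww)⁻¹ * h * H.t * ((H.π ww)⁻¹ * h)⁻¹ = (H.π ww)⁻¹ * (h * H.t * h⁻¹) * H.π ww by group,
      hh', ← H.conj_w]
    group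
  have key : ∀ x ∈ M, orderOf x = 2 → ∃ k ∈ M, k * H.t * k⁻¹ = x := by
    intro x hx hx2
    obtain ⟨Q, hQ⟩ : ∃ Q : Sylow 2 M, zpowers (⟨x, hx⟩ : M) ≤ Q :=
      (IsPGroup.of_card (n := 1) (by rw [Nat.card_zpowers, orderOf_mk, hx2, pow_one])).exists_le_sylow
    obtain ⟨k, hk⟩ := MulAction.exists_smul_eq M (R.subtype (hR.trans h0)) Q
    have hxk : (⟨x, hx⟩ : M) ∈ ((k • R.subtype (hR.trans h0) : Sylow 2 M) : Subgroup M) :=
      hk ▸ hQ (mem_zpowers _)
    obtain ⟨y, hy, hyx⟩ := hxk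
    have hyR : (y : G) ∈ (R : Subgroup G) := by simpa [Sylow.coe_subtype, mem_subgroupOf] using hy
    have hyx' : (k : G) * y * (k : G)⁻¹ = x := congrArg Subtype.val hyx
    have hy2 : orderOf (y : G) = 2 := by rw [← hx2, ← hyx', Involution.orderOf_conj]
    by_cases hyt : (y : G) = H.t
    · exact ⟨k, k.2, by rw [← hyt, hyx']⟩
    · obtain ⟨c, hc, hcy⟩ := H.exists_conj_s (hR hyR) hy2 hyt
      obtain ⟨j, hj, hjs⟩ := hts
      refine ⟨k * c * j, mul_mem (mul_mem k.2 (h0 hc)) hj, ?_⟩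
      rw [← hyx', ← hcy, ← hjs]
      group
  have hSE : Cfsg.IsStronglyEmbedded M := by
    refine Involution.isStronglyEmbedded_iff_forall.2 ⟨hne, ?_, fun g x hx2 hx hgx => ?_⟩
    · rw [even_iff_two_dvd, ← H.t_order, ← orderOf_mk H.t (h0 (mem_centralizer_singleton_iff.2 rfl))]
      exact orderOf_dvd_natCard _
    · obtain ⟨a, ha, hax⟩ := key x hx hx2
      obtain ⟨b, hb, hbx⟩ := key _ hgx (by rw [Involution.orderOf_conj, hx2])
      have h : b⁻¹ * g * a ∈ M := h0 (mem_centralizer_singleton_iff.2 (by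
        calc b⁻¹ * g * a * H.t = b⁻¹ * g * (a * H.t * a⁻¹) * a := by group
          _ = H.t * (b⁻¹ * g * a) := by
            rw [hax, show b⁻¹ * g * x * a = b⁻¹ * (g * x * g⁻¹) * g * a by group, ← hbx]; group))
      simpa [mul_assoc] using mul_mem (mul_mem hb h) (inv_mem ha)
  obtain ⟨-, S, hMS⟩ := Bender.borel_of_simple Bender.rankOneHalf hSE hM
  have hS : ∀ y ∈ M, IsPGroup 2 (zpowers y) → y ∈ (S : Subgroup G) := by
    intro y hy hy2
    rw [hMS] at hy
    have hsub : zpowers y ⊔ (S : Subgroup G) = S :=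
      S.is_maximal' (hy2.to_sup_of_normal_right' S.isPGroup' (zpowers_le.2 hy)) le_sup_right
    exact hsub ▸ mem_sup_left (mem_zpowers y)
  have h2 : ∀ y : GL (Fin 2) F, y * y = 1 → y ≠ 1 → H.π y ∈ (S : Subgroup G) := fun y hy hy1 =>
    hS _ (h0 (H.π_mem_cent _)) (IsPGroup.of_card (n := 1) (by rw [Nat.card_zpowers, H.orderOf_π hy hy1, pow_one]))
  have hu : H.π (u 1) ∈ (S : Subgroup G) := by
    have hh : (u (1 / 2 : F) * gs * (u (1 / 2 : F))⁻¹) * gs = u 1 := by
      rw [show (u (1 / 2 : F))⁻¹ = u (-(1 / 2)) by rw [← map_inv]; rfl]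
      exact ext2 (by simp) (by simp; field_simp [H.two_ne]; norm_num) (by simp) (by simp)
    rw [← hh, map_mul]
    refine mul_mem (h2 _ (by rw [conj_mul, gs_sq]; group) fun e => ?_) (h2 _ gs_sq ?_)
    · exact Involution.ne_one H.s_order (by rw [s, conj_eq_one_iff.1 e, map_one])
    · exact fun e => Involution.ne_one H.s_order (by rw [s, e, map_one])
  obtain ⟨k, hk⟩ := S.isPGroup' ⟨_, hu⟩
  have hk' : H.π (u ((2 ^ k : ℕ) : F)) = 1 := by
    have := congrArg Subtype.val hk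
    simp only [SubgroupClass.coe_pow, coe_one, ← map_pow] at this
    rwa [u, show Multiplicative.ofAdd ((2 ^ k : ℕ) : F) = Multiplicative.ofAdd (1 : F) ^ (2 ^ k) by
      rw [← ofAdd_nsmul, nsmul_one], ← map_pow]
  exact pow_ne_zero k H.two_ne (by simpa using H.π_u_injective hk')

end Hyp

end Cfsg.Agent.LThreeRec
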