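import Cfsg.Agent.Lib.LThreeRec.Basic

/-!
# Characterising `PSL(3, q)`: the set-up from an involution centralizer

* `exists_hyp`: an isomorphism `C(t) ≃* GL(2, q) / Z`, `Z` central of odd order, gives the hypothesis.
-/

set_option autoImplicit false

namespace Cfsg.Agent.LThreeRec

open Matrix Subgroup

theorem exists_hyp {F : Type*} [Field F] {G : Type*} [Group G] (h2 : (2 : F) ≠ 0)
    (Z : Subgroup (GL (Fin 2) F)) [Z.Normal] (hZc : Z ≤ center (GL (Fin 2) F)) (hZo : Odd (Nat.card Z))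
    (t : G) (ht : orderOf t = 2) (e : centralizer ({t} : Set G) ≃* GL (Fin 2) F ⧸ Z) :
    ∃ H : Hyp F G, H.Exact ∧ H.t = t ∧ H.π.ker = Z := by
  set C := centralizer ({t} : Set G)
  set π : GL (Fin 2) F →* G := C.subtype.comp (e.symm.toMonoidHom.comp (QuotientGroup.mk' Z)) with hπdef
  have hker : π.ker = Z := by
    ext g
    rw [MonoidHom.mem_ker, hπdef, MonoidHom.comp_apply, MonoidHom.comp_apply, coe_subtype, OneMemClass.coe_eq_one,
      MulEquiv.toMonoidHom_eq_coe, MonoidHom.coe_coe, MulEquiv.map_eq_one_iff, QuotientGroup.mk'_apply,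
      QuotientGroup.eq_one_iff]
  have hπC : ∀ g, π g ∈ C := fun g => (e.symm (QuotientGroup.mk' Z g)).2
  have hsurj : ∀ x ∈ C, ∃ g, π g = x := fun x hx => by
    obtain ⟨g, hg⟩ := QuotientGroup.mk_surjective (e ⟨x, hx⟩)
    refine ⟨g, ?_⟩
    show ((e.symm (QuotientGroup.mk' Z g) : C) : G) = x
    rw [QuotientGroup.mk'_apply, hg, e.symm_apply_apply]
  -- squares in `Z` come from `Z`
  have key : ∀ z ∈ Z, z * z = 1 → z = 1 := fun z hz h => by
    by_contra hne
    have ho : orderOf (⟨z, hz⟩ : Z) = 2 := by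
      rw [Subgroup.orderOf_mk]; exact Involution.orderOf_of_sq h hne
    exact Nat.not_even_iff_odd.2 hZo (even_iff_two_dvd.2 (ho.symm.dvd.trans (orderOf_dvd_natCard _)))
  obtain ⟨g0, hg0⟩ := hsurj t (mem_centralizer_singleton_iff.2 rfl)
  -- `g0` is central
  have hcomm : ∀ x, g0 * x = x * g0 := fun x => by
    set k := g0 * x * g0⁻¹ * x⁻¹ with hk
    have hkZ : k ∈ Z := by
      rw [← hker, MonoidHom.mem_ker, hk, map_mul, map_mul, map_mul, map_inv, map_inv, hg0,
        ← mem_centralizer_singleton_iff.1 (hπC x)]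
      group
    obtain ⟨a, b, c⟩ := center_scalar (hZc hkZ)
    have hdet : (k : Matrix (Fin 2) (Fin 2) F).det = 1 := by
      rw [hk, GeneralLinearGroup.coe_mul, GeneralLinearGroup.coe_mul, GeneralLinearGroup.coe_mul, det_mul, det_mul,
        det_mul, GeneralLinearGroup.coe_inv, GeneralLinearGroup.coe_inv, det_nonsing_inv, det_nonsing_inv]
      simp only [Ring.inverse_eq_inv']
      field_simp [GeneralLinearGroup.det_ne_zero]
    rw [det_fin_two, a, b, c, mul_zero, sub_zero] at hdet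
    have hk1 : k = 1 := key k hkZ
      (ext2 (by simp [a, c, hdet]) (by simp [a, b]) (by simp [a, b]) (by simp [b, hdet]))
    calc g0 * x = k * (x * g0) := by rw [hk]; group
      _ = x * g0 := by rw [hk1, one_mul]
  have hsq : g0 * g0 ∈ Z := by
    rw [← hker, MonoidHom.mem_ker, map_mul, hg0, Involution.mul_self ht]
  obtain ⟨m, hm⟩ := hZo
  set g := g0 * (g0 * g0) ^ m with hg
  have hgπ : π g = t := by
    rw [hg, map_mul, hg0, map_pow, map_mul, hg0, Involution.mul_self ht, one_pow, mul_one]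
  have hg2 : g * g = 1 := by
    have e1 : g * g = (g0 * g0) ^ (2 * m + 1) := by
      rw [hg, ← sq g0, ← pow_mul, ← pow_succ', ← pow_mul, ← pow_add]
      congr 1; ring
    rw [e1, ← hm]
    exact congrArg Subtype.val (pow_card_eq_one' (x := (⟨g0 * g0, hsq⟩ : Z)))
  have hgc : g ∈ center (GL (Fin 2) F) :=
    mul_mem (mem_center_iff.2 fun x => (hcomm x).symm) (pow_mem (hZc hsq) m)
  obtain ⟨a, b, c⟩ := center_scalar hgc
  have e00 := congrArg (fun k : GL (Fin 2) F => k 0 0) hg2
  simp [a] at e00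
  have hgt : π (gt : GL (Fin 2) F) = t := by
    rcases mul_self_eq_one_iff.1 e00 with h | h
    · exfalso
      refine Involution.ne_one ht ?_
      rw [← hgπ, show g = 1 from ext2 (by simp [h]) (by simp [a]) (by simp [b]) (by simp [← c, h]), map_one]
    · rw [← hgπ]
      exact congrArg π (ext2 (by simp [h]) (by simp [a]) (by simp [b]) (by simp [← c, h]))
  have hrange : π.range = centralizer {π gt} := by
    rw [hgt]
    ext x
    exact ⟨fun ⟨g, hg⟩ => hg ▸ hπC g, fun hx => hsurj x hx⟩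
  refine ⟨⟨π, hker ▸ hZc, hker ▸ ⟨m, hm⟩, hrange.le, ?_, fun x hx => ?_, h2⟩, ⟨hrange⟩, hgt, hker⟩
  · rw [← hrange, Subgroup.relIndex_self]; exact odd_one
  · rw [← hrange] at hx
    obtain ⟨g, rfl⟩ := hx
    refine ⟨g, RingEquiv.refl F, fun h => ?_, fun _ => ⟨g, rfl⟩⟩
    rw [map_mul, map_mul, map_inv]
    rfl

end Cfsg.Agent.LThreeRec
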