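import Cfsg.Agent.Lib.LThreeRec.Module
import Cfsg.Agent.Lib.LThreeRec.Derivation
import Cfsg.Agent.S2401
import Cfsg.Agent.Lib.Linear.SLn

/-!
# `SL₃(F)` from two modules of an `SL₂(F)` (helper60, S0484 good case)

`exists_sl3_hom` : two module lines `Y`, `Y'` with nondegenerate commutator into the upper root group
give a homomorphism of `SL₃(F)` whose range contains the image of `SL₂(F)`, `Y` and `Y'`.
-/

set_option autoImplicit false
set_option linter.unusedSectionVars false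

open scoped commutatorElement

namespace Cfsg.Agent.LThreeRec

variable {F : Type*} [Field F] [Fintype F] {G : Type*} [Group G] [Finite G]

theorem exists_hom_of_roots {a01 a10 a02 a20 a12 a21 : F → G}
    (ha01 : ∀ s t, a01 s * a01 t = a01 (s + t)) (ha10 : ∀ s t, a10 s * a10 t = a10 (s + t))
    (ha02 : ∀ s t, a02 s * a02 t = a02 (s + t)) (ha20 : ∀ s t, a20 s * a20 t = a20 (s + t))
    (ha12 : ∀ s t, a12 s * a12 t = a12 (s + t)) (ha21 : ∀ s t, a21 s * a21 t = a21 (s + t))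
    (d1 : ∀ s t, Commute (a01 s) (a02 t)) (d2 : ∀ s t, Commute (a01 s) (a21 t))
    (d3 : ∀ s t, Commute (a02 s) (a12 t)) (d4 : ∀ s t, Commute (a21 s) (a20 t))
    (d5 : ∀ s t, Commute (a10 s) (a12 t)) (d6 : ∀ s t, Commute (a10 s) (a20 t))
    (b1 : ∀ s t, a01 s * a12 t * (a01 s)⁻¹ * (a12 t)⁻¹ = a02 (s * t))
    (b2 : ∀ s t, a10 s * a02 t * (a10 s)⁻¹ * (a02 t)⁻¹ = a12 (s * t))
    (b3 : ∀ s t, a21 s * a10 t * (a21 s)⁻¹ * (a10 t)⁻¹ = a20 (s * t))
    (b4 : ∀ s t, a20 s * a01 t * (a20 s)⁻¹ * (a01 t)⁻¹ = a21 (s * t))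
    (b5 : ∀ s t, a02 s * a21 t * (a02 s)⁻¹ * (a21 t)⁻¹ = a01 (s * t))
    (b6 : ∀ s t, a12 s * a20 t * (a12 s)⁻¹ * (a20 t)⁻¹ = a10 (s * t)) :
    ∃ Φ : Matrix.SpecialLinearGroup (Fin 3) F →* G, ∀ a : F,
      Φ (Matrix.SpecialLinearGroup.transvection (show (0 : Fin 3) ≠ 1 by decide) a) = a01 a ∧
      Φ (Matrix.SpecialLinearGroup.transvection (show (1 : Fin 3) ≠ 0 by decide) a) = a10 a ∧
      Φ (Matrix.SpecialLinearGroup.transvection (show (0 : Fin 3) ≠ 2 by decide) a) = a02 a ∧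
      Φ (Matrix.SpecialLinearGroup.transvection (show (2 : Fin 3) ≠ 1 by decide) a) = a21 a ∧
      Φ (Matrix.SpecialLinearGroup.transvection (show (1 : Fin 3) ≠ 2 by decide) a) = a12 a ∧
      Φ (Matrix.SpecialLinearGroup.transvection (show (2 : Fin 3) ≠ 0 by decide) a) = a20 a := by
  let f : {ij : Fin 3 × Fin 3 // ij.1 ≠ ij.2} × F → G := fun p =>
    match p.1.1.1, p.1.1.2 with
    | 0, 1 => a01 p.2
    | 1, 0 => a10 p.2
    | 0, 2 => a02 p.2
    | 2, 1 => a21 p.2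
    | 1, 2 => a12 p.2
    | _, _ => a20 p.2
  have comm_of : ∀ g h : G, Commute g h → g * h * g⁻¹ * h⁻¹ = 1 := fun g h e => by
    rw [e.eq]; group
  have self_of : ∀ x : F → G, (∀ s t, x s * x t = x (s + t)) → ∀ s t, Commute (x s) (x t) :=
    fun x hx s t => by show _ * _ = _ * _; rw [hx, hx, add_comm]
  obtain ⟨e, he⟩ := Cfsg.Agent.S2401.result (K := F) 3 le_rfl
  have hrel : ∀ r ∈
      ({g : FreeGroup ({ij : Fin 3 × Fin 3 // ij.1 ≠ ij.2} × F) | ∃ (a : {ij : Fin 3 × Fin 3 // ij.1 ≠ ij.2}) (t u : F),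
          g = FreeGroup.of (a, t) * FreeGroup.of (a, u) * (FreeGroup.of (a, t + u))⁻¹} ∪
        {g | ∃ (a b : {ij : Fin 3 × Fin 3 // ij.1 ≠ ij.2}) (t u : F), a.1.1 ≠ b.1.2 ∧ a.1.2 ≠ b.1.1 ∧
          g = FreeGroup.of (a, t) * FreeGroup.of (b, u) * (FreeGroup.of (a, t))⁻¹ * (FreeGroup.of (b, u))⁻¹} ∪
        {g | ∃ (a b : {ij : Fin 3 × Fin 3 // ij.1 ≠ ij.2}) (h : a.1.1 ≠ b.1.2) (t u : F), a.1.2 = b.1.1 ∧
          g = FreeGroup.of (a, t) * FreeGroup.of (b, u) * (FreeGroup.of (a, t))⁻¹ * (FreeGroup.of (b, u))⁻¹ *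
            (FreeGroup.of (⟨(a.1.1, b.1.2), h⟩, t * u))⁻¹}), FreeGroup.lift f r = 1 := by
    rintro r ((⟨⟨⟨i, j⟩, hij⟩, t, u, rfl⟩ | ⟨⟨⟨i, j⟩, hij⟩, ⟨⟨k, l⟩, hkl⟩, t, u, hil, hjk, rfl⟩) |
      ⟨⟨⟨i, j⟩, hij⟩, ⟨⟨k, l⟩, hkl⟩, hil, t, u, hjk, rfl⟩)
    · simp only [map_mul, map_inv, FreeGroup.lift_apply_of, f, mul_inv_eq_one]
      fin_cases i <;> fin_cases j <;>
        first
          | exact absurd rfl hij
          | exact ha01 _ _ | exact ha10 _ _ | exact ha02 _ _ | exact ha20 _ _ | exact ha12 _ _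
          | exact ha21 _ _
    · simp only [map_mul, map_inv, FreeGroup.lift_apply_of, f]
      fin_cases i <;> fin_cases j <;> fin_cases k <;> fin_cases l <;>
        first
          | exact absurd rfl hij
          | exact absurd rfl hkl
          | exact absurd rfl hil
          | exact absurd rfl hjk
          | exact comm_of _ _ (d1 _ _) | exact comm_of _ _ (d1 _ _).symm
          | exact comm_of _ _ (d2 _ _) | exact comm_of _ _ (d2 _ _).symm
          | exact comm_of _ _ (d3 _ _) | exact comm_of _ _ (d3 _ _).symm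
          | exact comm_of _ _ (d4 _ _) | exact comm_of _ _ (d4 _ _).symm
          | exact comm_of _ _ (d5 _ _) | exact comm_of _ _ (d5 _ _).symm
          | exact comm_of _ _ (d6 _ _) | exact comm_of _ _ (d6 _ _).symm
          | exact comm_of _ _ (self_of _ ha01 _ _)
          | exact comm_of _ _ (self_of _ ha10 _ _)
          | exact comm_of _ _ (self_of _ ha02 _ _)
          | exact comm_of _ _ (self_of _ ha20 _ _)
          | exact comm_of _ _ (self_of _ ha12 _ _)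
          | exact comm_of _ _ (self_of _ ha21 _ _)
    · simp only [map_mul, map_inv, FreeGroup.lift_apply_of, f, mul_inv_eq_one]
      fin_cases i <;> fin_cases j <;> fin_cases k <;> fin_cases l <;>
        first
          | exact absurd rfl hij
          | exact absurd rfl hkl
          | exact absurd rfl hil
          | (simp at hjk; done)
          | exact b1 _ _ | exact b2 _ _ | exact b3 _ _ | exact b4 _ _ | exact b5 _ _
          | exact b6 _ _
  let Ψ := (PresentedGroup.toGroup (f := f) hrel).comp e.symm.toMonoidHom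
  have hΨ : ∀ (i j : Fin 3) (h : i ≠ j) (a : F),
      Ψ (Matrix.SpecialLinearGroup.transvection h a) = f (⟨(i, j), h⟩, a) := by
    intro i j h a
    have he' : e (PresentedGroup.of (⟨(i, j), h⟩, a)) = Matrix.SpecialLinearGroup.transvection h a :=
      Subtype.ext (by rw [he]; rfl)
    show PresentedGroup.toGroup hrel (e.symm _) = _
    rw [← he', MulEquiv.symm_apply_apply, PresentedGroup.toGroup.of]
  exact ⟨Ψ, fun a => ⟨(hΨ 0 1 _ a).trans rfl, (hΨ 1 0 _ a).trans rfl, (hΨ 0 2 _ a).trans rfl,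
    (hΨ 2 1 _ a).trans rfl, (hΨ 1 2 _ a).trans rfl, (hΨ 2 0 _ a).trans rfl⟩⟩

/-- The hypotheses. -/
structure PairData (φ : Matrix.SpecialLinearGroup (Fin 2) F →* G) (Y Y' : Subgroup G) : Prop where
  modY : ModData φ Y
  modY' : ModData φ Y'
  cardY : Nat.card Y = Fintype.card F
  cardY' : Nat.card Y' = Fintype.card F
  inj : ∀ a : F, φ (uS a) = 1 → a = 0
  bracket : ∀ y ∈ Y, ∀ z ∈ Y', ∃ c : F, ⁅y, z⁆ = φ (uS c)
  nonabel : ∃ y ∈ Y, ∃ z ∈ Y', y * z ≠ z * y
  two_ne : (2 : F) ≠ 0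

namespace PairData

variable {φ : Matrix.SpecialLinearGroup (Fin 2) F →* G} {Y Y' : Subgroup G} (P : PairData φ Y Y')
include P

theorem u_inj {a b : F} (h : φ (uS a) = φ (uS b)) : a = b := by
  rw [← sub_eq_zero]
  apply P.inj
  have : φ (uS (a - b)) * φ (uS b) = φ (uS a) := by rw [← map_mul, uS_add, sub_add_cancel]
  rw [← h] at this
  simpa using this

theorem bracket_eq {y y' : G} {c : F} (hy : y ∈ Y) (hy' : y' ∈ Y')
    (h1 : ⁅y, y'⁆ = φ (uS c)) (a b : F) :
    ⁅ModData.sc φ a y, ModData.sc φ b y'⁆ = φ (uS (c * (a * b))) := by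
  choose β hβ using fun a b : F =>
    P.bracket _ (P.modY.sc_mem a hy) _ (P.modY'.sc_mem b hy')
  have hl : ∀ a a' b, β (a + a') b = β a b + β a' b := by
    intro a a' b
    apply P.u_inj
    rw [← hβ, P.modY.sc_add _ _ hy, ← uS_add, map_mul, ← hβ, ← hβ]
    have e : ⁅ModData.sc φ a y * ModData.sc φ a' y, ModData.sc φ b y'⁆ =
        ModData.sc φ a y * ⁅ModData.sc φ a' y, ModData.sc φ b y'⁆ * (ModData.sc φ a y)⁻¹ *
          ⁅ModData.sc φ a y, ModData.sc φ b y'⁆ := by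
      simp only [commutatorElement_def]; group
    rw [e, hβ, hβ, ← P.modY.cent _ _ (P.modY.sc_mem a hy), mul_inv_cancel_right, ← map_mul,
      ← map_mul, uS_add, uS_add, add_comm]
  have hr : ∀ a b b', β a (b + b') = β a b + β a b' := by
    intro a b b'
    apply P.u_inj
    rw [← hβ, P.modY'.sc_add _ _ hy', ← uS_add, map_mul, ← hβ, ← hβ]
    have e : ⁅ModData.sc φ a y, ModData.sc φ b y' * ModData.sc φ b' y'⁆ =
        ⁅ModData.sc φ a y, ModData.sc φ b y'⁆ * (ModData.sc φ b y' *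
          ⁅ModData.sc φ a y, ModData.sc φ b' y'⁆ * (ModData.sc φ b y')⁻¹) := by
      simp only [commutatorElement_def]; group
    rw [e, hβ a b', ← P.modY'.cent _ _ (P.modY'.sc_mem b hy'), mul_inv_cancel_right]
  have hs : ∀ (l : Fˣ) (a b : F), β ((l : F) * a) ((l : F) * b) = (l : F) ^ 2 * β a b := by
    intro l a b
    apply P.u_inj
    rw [← hβ, ← P.modY.sc_sc _ _ hy, ← P.modY'.sc_sc _ _ hy', P.modY.sc_unit, P.modY'.sc_unit]
    have e : ∀ g : Matrix.SpecialLinearGroup (Fin 2) F, ∀ x z : G,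
        ⁅cj φ g x, cj φ g z⁆ = cj φ g ⁅x, z⁆ := fun g x z => by
      simp only [commutatorElement_def, cj_def]; group
    rw [e, hβ, cj_def, ← map_inv, ← map_mul, ← map_mul, hS_uS, mul_inv_cancel_right]
  have h10 : β 1 1 = c := by
    apply P.u_inj
    rw [← hβ, P.modY.sc_one hy, P.modY'.sc_one hy', h1]
  have hψ : ∀ x, β 1 x = c * x := by
    have hc : ∀ x : F, x ^ 2 * β 1 x⁻¹ = β x 1 := by
      intro x
      rcases eq_or_ne x 0 with rfl | hx
      · have := hl 0 0 1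
        rw [add_zero] at this
        have h0 : β 0 1 = 0 := by simpa using this
        simp [h0]
      lift x to Fˣ using isUnit_iff_ne_zero.2 hx
      rw [← hs x 1 ((x : F))⁻¹, mul_one, mul_inv_cancel₀ hx]
    have hsq : ∀ x : F, x ^ 2 * x⁻¹ = x := fun x => by
      rcases eq_or_ne x 0 with rfl | hx
      · simp
      · field_simp
    have key := eq_id_of_inv_additive P.two_ne (fun x => β 1 x - c * x + x)
      (fun x z => by simp only [hr]; ring) (by simp [h10]) fun x z => by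
        linear_combination hc (x + z) - hc x - hc z + hl x z 1 +
          (1 - c) * (hsq (x + z) - hsq x - hsq z)
    intro x
    linear_combination key x
  suffices β a b = c * (a * b) by rw [hβ, this]
  rcases eq_or_ne a 0 with rfl | ha
  · have := hl 0 0 b
    rw [add_zero] at this
    simpa using this
  lift a to Fˣ using isUnit_iff_ne_zero.2 ha
  calc β (a : F) b = β ((a : F) * 1) ((a : F) * ((a : F)⁻¹ * b)) := by
        rw [mul_one, mul_inv_cancel_left₀ ha]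
    _ = c * ((a : F) * b) := by rw [hs, hψ]; field_simp

theorem nondeg : ∀ y ∈ Y, ∀ z ∈ Y', y * z = z * y → y = 1 ∨ z = 1 := by
  intro y hy z hz h
  by_contra hne
  obtain ⟨hy1, hz1⟩ := not_or.1 hne
  obtain ⟨y0, hy0, z0, hz0, hnc⟩ := P.nonabel
  obtain ⟨a, rfl⟩ := P.modY.sc_surj P.cardY hy hy1 y0 hy0
  obtain ⟨b, rfl⟩ := P.modY'.sc_surj P.cardY' hz hz1 z0 hz0
  have h0 : φ (uS (0 : F)) = 1 := by
    have e : (uS (0 : F) : Matrix.SpecialLinearGroup (Fin 2) F) = 1 := by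
      apply Subtype.ext; ext i j; fin_cases i <;> fin_cases j <;> simp [uS]
    rw [e, map_one]
  refine hnc (commutatorElement_eq_one_iff_mul_comm.1 ?_)
  rw [P.bracket_eq hy hz (c := 0) (by rw [h0]; exact commutatorElement_eq_one_iff_mul_comm.2 h),
    zero_mul, h0]

theorem exists_gauge : ∃ y ∈ Y, y ≠ 1 ∧ ∃ y' ∈ Y', y' ≠ 1 ∧ ⁅y, y'⁆ = φ (uS (1 : F)) := by
  have h1 : 1 < Nat.card Y := P.cardY ▸ Fintype.one_lt_card
  obtain ⟨⟨y, hy⟩, hy1⟩ : ∃ y : Y, y ≠ 1 := by
    have := Finite.one_lt_card_iff_nontrivial.1 h1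
    exact exists_ne 1
  have hy1' : y ≠ 1 := fun e => hy1 (Subtype.ext e)
  choose f hf using fun z : Y' => P.bracket y hy z.1 z.2
  have hinj : Function.Injective f := by
    intro a b h
    have e : ⁅y, (a : G)⁆ = ⁅y, (b : G)⁆ := by rw [hf a, hf b, h]
    have hc : y * ((b : G)⁻¹ * a) = (b : G)⁻¹ * a * y := by
      rw [commutatorElement_def, commutatorElement_def] at e
      have e' : y * (a : G) * y⁻¹ * (a : G)⁻¹ = y * (b : G) * y⁻¹ * (b : G)⁻¹ := e
      have : y * (a : G) * y⁻¹ = y * (b : G) * y⁻¹ * (b : G)⁻¹ * a := by rw [← e']; group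
      calc y * ((b : G)⁻¹ * a) = (b : G)⁻¹ * (((b : G) * y * (b : G)⁻¹ * y⁻¹) * (y * (a : G) * y⁻¹)) * y := by
            group
        _ = (b : G)⁻¹ * a * y := by rw [this]; group
    rcases P.nondeg y hy _ (Y'.mul_mem (Y'.inv_mem b.2) a.2) hc with h1 | h1
    · exact absurd h1 hy1'
    · exact Subtype.ext (inv_mul_eq_one.1 h1).symm
  obtain ⟨z, hz⟩ := ((Nat.bijective_iff_injective_and_card f).2
    ⟨hinj, by rw [P.cardY', Nat.card_eq_fintype_card]⟩).surjective 1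
  refine ⟨y, hy, hy1', z, z.2, ?_, by rw [hf z, hz]⟩
  intro e
  have := hf z
  rw [hz, e, commutatorElement_one_right] at this
  exact one_ne_zero (P.inj _ this.symm)

theorem exists_sl3_hom : ∃ Φ : Matrix.SpecialLinearGroup (Fin 3) F →* G,
    φ.range ≤ Φ.range ∧ Y ≤ Φ.range ∧ Y' ≤ Φ.range ∧
      Φ.range ≤ φ.range ⊔ Y ⊔ Y' ∧
      ∀ a : F, Φ (Matrix.SpecialLinearGroup.transvection (show (0 : Fin 3) ≠ 1 by decide) a) =
          φ (uS a) ∧
        Φ (Matrix.SpecialLinearGroup.transvection (show (1 : Fin 3) ≠ 0 by decide) a) =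
          φ (vS a) := by
  obtain ⟨y, hy, hy1, y', hy', hy1', hg⟩ := P.exists_gauge
  set X := fun a : F => ModData.sc φ a y with hX
  set X' := fun a : F => ModData.sc φ a y' with hX'
  have M := P.modY
  have M' := P.modY'
  have hv : ∀ a : F, φ (vS a) = cj φ wS (φ (uS (-a))) := fun a => by
    rw [vS_eq, cj_def, map_mul, map_mul, map_inv]
  have uadd : ∀ a b : F, φ (uS a) * φ (uS b) = φ (uS (a + b)) := fun a b => by
    rw [← map_mul, uS_add]
  have xadd : ∀ a b : F, X a * X b = X (a + b) := fun a b => (M.sc_add a b hy).symm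
  have xadd' : ∀ a b : F, X' a * X' b = X' (a + b) := fun a b => (M'.sc_add a b hy').symm
  have Xm : ∀ a, X a ∈ Y := fun a => M.sc_mem a hy
  have Xm' : ∀ a, X' a ∈ Y' := fun a => M'.sc_mem a hy'
  have wc : ∀ g h : G, Commute g h → Commute (cj φ wS g) (cj φ wS h) := fun g h e => by
    show _ * _ = _ * _
    rw [← cj_mul, e.eq, cj_mul]
  have c1 : ∀ a b : F, Commute (φ (uS a)) (X b) := fun a b => M.cent a _ (Xm b)
  have c2 : ∀ a b : F, Commute (φ (uS a)) (X' b) := fun a b => M'.cent a _ (Xm' b)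
  have c3 : ∀ a b : F, Commute (X a) (cj φ wS (X b)) := fun a b => M.wcomm _ (Xm a) _ (Xm b)
  have c4 : ∀ a b : F, Commute (X' a) (cj φ wS (X' b)) := fun a b => M'.wcomm _ (Xm' a) _ (Xm' b)
  have c5 : ∀ a b : F, Commute (φ (vS a)) (cj φ wS (X b)) := fun a b => hv a ▸ wc _ _ (c1 _ _)
  have c6 : ∀ a b : F, Commute (φ (vS a)) (cj φ wS (X' b)) := fun a b => hv a ▸ wc _ _ (c2 _ _)
  -- the six brackets
  have b1 : ∀ a b : F, φ (uS a) * cj φ wS (X (-b)) * (φ (uS a))⁻¹ * (cj φ wS (X (-b)))⁻¹ =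
      X (a * b) := fun a b => by
    have := M.u_comm_w a (-b) hy
    rwa [mul_neg, neg_neg, commutatorElement_def] at this
  have b2 : ∀ a b : F, φ (vS a) * X b * (φ (vS a))⁻¹ * (X b)⁻¹ =
      cj φ wS (X (-(a * b))) := fun a b => by
    have := M.v_comm a b hy
    rwa [commutatorElement_def] at this
  have hneg' : ∀ a, (cj φ wS (X' a))⁻¹ = cj φ wS (X' (-a)) := fun a => by
    rw [← cj_inv]; congr 1; exact (M'.sc_neg a hy').symm
  have b3 : ∀ a b : F, X' a * φ (vS b) * (X' a)⁻¹ * (φ (vS b))⁻¹ =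
      cj φ wS (X' (a * b)) := fun a b => by
    have := M'.v_comm b a hy'
    rw [← inv_inj, hneg', mul_comm a b, ← this, commutatorElement_def]
    simp only [hX']
    group
  have b4 : ∀ a b : F, cj φ wS (X' a) * φ (uS b) * (cj φ wS (X' a))⁻¹ * (φ (uS b))⁻¹ =
      X' (a * b) := fun a b => by
    have := M'.u_comm_w b a hy'
    rw [commutatorElement_def, mul_comm b a, M'.sc_neg _ hy'] at this
    rw [← inv_inj]
    show _ = (X' (a * b))⁻¹
    rw [← this]
    simp only [hX']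
    group
  have b5 : ∀ a b : F, X a * X' b * (X a)⁻¹ * (X' b)⁻¹ = φ (uS (a * b)) := fun a b => by
    have := P.bracket_eq hy hy' hg a b
    rwa [commutatorElement_def, one_mul] at this
  have b6 : ∀ a b : F, cj φ wS (X (-a)) * cj φ wS (X' b) * (cj φ wS (X (-a)))⁻¹ *
      (cj φ wS (X' b))⁻¹ = φ (vS (a * b)) := fun a b => by
    rw [← cj_inv, ← cj_inv, ← cj_mul, ← cj_mul, ← cj_mul, b5, hv, neg_mul]
  obtain ⟨Ψ, hΨ⟩ := exists_hom_of_roots uadd
    (fun s t => by rw [← map_mul, vS_add]) xadd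
    (fun s t => by rw [← cj_mul, xadd']) (fun s t => by rw [← cj_mul, xadd, neg_add])
    xadd' c1 c2 (fun s t => c3 s (-t)) c4 (fun s t => c5 s (-t)) c6 b1 b2 b3 b4 b5 b6
  have hu : ∀ a, φ (uS a) ∈ Ψ.range := fun a => ⟨_, (hΨ a).1⟩
  have hv' : ∀ a, φ (vS a) ∈ Ψ.range := fun a => ⟨_, (hΨ a).2.1⟩
  refine ⟨Ψ, ?_, ?_, ?_, ?_, fun a => ⟨(hΨ a).1, (hΨ a).2.1⟩⟩
  · rintro - ⟨g, rfl⟩
    induction g using Matrix.SL2.transvection_induction with
    | htransvec i j h a =>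
      fin_cases i <;> fin_cases j
      · exact absurd rfl h
      · have : Matrix.SpecialLinearGroup.transvection h a = (uS a : Matrix.SpecialLinearGroup (Fin 2) F) := by
          apply Subtype.ext; ext i j; fin_cases i <;> fin_cases j <;>
            simp [uS, Matrix.SpecialLinearGroup.transvection, Matrix.transvection]
        exact this ▸ hu a
      · have : Matrix.SpecialLinearGroup.transvection h a = (vS a : Matrix.SpecialLinearGroup (Fin 2) F) := by
          apply Subtype.ext; ext i j; fin_cases i <;> fin_cases j <;>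
            simp [vS, Matrix.SpecialLinearGroup.transvection, Matrix.transvection]
        exact this ▸ hv' a
      · exact absurd rfl h
    | hmul x z hx hz => rw [map_mul]; exact Ψ.range.mul_mem hx hz
  · intro z hz
    obtain ⟨a, rfl⟩ := M.sc_surj P.cardY hy hy1 z hz
    exact ⟨_, (hΨ a).2.2.1⟩
  · intro z hz
    obtain ⟨a, rfl⟩ := M'.sc_surj P.cardY' hy' hy1' z hz
    exact ⟨_, (hΨ a).2.2.2.1⟩
  · rintro - ⟨g, rfl⟩
    have hg' : g ∈ Subgroup.closure (Linear.slTvSet (Fin 3) F) := by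
      rw [Linear.closure_slTvSet]; exact Subgroup.mem_top g
    refine ((Subgroup.closure_le (K := Subgroup.comap Ψ (φ.range ⊔ Y ⊔ Y'))).2 ?_) hg'
    rintro _ ⟨i, j, hij, c, rfl⟩
    have hR : φ.range ≤ φ.range ⊔ Y ⊔ Y' := le_sup_left.trans le_sup_left
    have hY : Y ≤ φ.range ⊔ Y ⊔ Y' := le_sup_right.trans le_sup_left
    have hY' : Y' ≤ φ.range ⊔ Y ⊔ Y' := le_sup_right
    have hw : ∀ x ∈ φ.range ⊔ Y ⊔ Y', cj φ wS x ∈ φ.range ⊔ Y ⊔ Y' := fun x hx =>
      mul_mem (mul_mem (hR ⟨_, rfl⟩) hx) (inv_mem (hR ⟨_, rfl⟩))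
    show Ψ _ ∈ φ.range ⊔ Y ⊔ Y'
    fin_cases i <;> fin_cases j <;>
      first
        | exact absurd rfl hij
        | exact (hΨ c).1.symm ▸ hR ⟨_, rfl⟩
        | exact (hΨ c).2.1.symm ▸ hR ⟨_, rfl⟩
        | exact (hΨ c).2.2.1.symm ▸ hY (Xm c)
        | exact (hΨ c).2.2.2.1.symm ▸ hY' (Xm' c)
        | exact (hΨ c).2.2.2.2.1.symm ▸ hw _ (hY (Xm (-c)))
        | exact (hΨ c).2.2.2.2.2.symm ▸ hw _ (hY' (Xm' c))

end PairData

end Cfsg.Agent.LThreeRec
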