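/-
The case of three elements: an involution centralizer `GL(2,3)` in a simple group.
-/
import Cfsg.Prelude.Def_Sporadic
import Cfsg.Agent.Lib.LThreeRec.Basic
import Cfsg.Agent.Lib.GL23Ident.Identify
import Cfsg.Agent.Lib.MathieuEleven.Basic
import Cfsg.Agent.Lib.Linear.GenTools

set_option autoImplicit false

namespace Cfsg.Agent.LThreeRec

open Subgroup

theorem three {G : Type*} [Group G] [Finite G] [IsSimpleGroup G] {F : Type*} [Field F] [Fintype F]
    (h3 : Fintype.card F = 3) (Z : Subgroup (GL (Fin 2) F)) [Z.Normal]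
    (hZc : Z ≤ Subgroup.center (GL (Fin 2) F)) (hZo : Odd (Nat.card Z)) (t : G) (ht : orderOf t = 2)
    (hC : Nonempty (Subgroup.centralizer ({t} : Set G) ≃* (GL (Fin 2) F ⧸ Z))) :
    Nonempty (G ≃* Matrix.ProjectiveSpecialLinearGroup (Fin 3) F) ∨ Cfsg.IsM11 G := by
  have : Fact (Nat.Prime 2) := ⟨Nat.prime_two⟩
  have : Fact (Nat.Prime 3) := ⟨Nat.prime_three⟩
  have hZ : Z = ⊥ := by
    refine (eq_bot_iff_forall _).2 fun k hk => ?_
    obtain ⟨h01, h10, h00⟩ := center_scalar (hZc hk)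
    have hk0 : k 0 0 ≠ 0 := by
      intro h
      have := Matrix.GeneralLinearGroup.det_ne_zero k
      rw [Matrix.det_fin_two, h, h01] at this
      simp at this
    have hsq : k 0 0 * k 0 0 = 1 := by
      have h := FiniteField.pow_card_sub_one_eq_one (k 0 0) hk0
      rw [h3] at h
      simpa [pow_two] using h
    have hk2 : k ^ 2 = 1 := by
      rw [pow_two]
      exact ext2 (by simp [h01, h10, hsq]) (by simp [h01]) (by simp [h10])
        (by simp [h01, ← h00, hsq])
    have hcop : (Nat.card Z).Coprime 2 := Nat.coprime_two_right.2 hZo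
    have h1 := Nat.dvd_gcd (Subgroup.orderOf_dvd_natCard Z hk) (orderOf_dvd_of_pow_eq_one hk2)
    rw [hcop.gcd_eq_one, Nat.dvd_one, orderOf_eq_one_iff] at h1
    exact h1
  subst hZ
  obtain ⟨e⟩ := hC
  have σ : F ≃+* ZMod 3 := (ZMod.ringEquivOfPrime F Nat.prime_three h3).symm
  let e3 : Subgroup.centralizer ({t} : Set G) ≃* GL (Fin 2) (ZMod 3) :=
    (e.trans QuotientGroup.quotientBot).trans (Units.mapEquiv σ.mapMatrix.toMulEquiv)
  let T := GL23Cent.Table.ofEquiv e3
  have hres : Cfsg.pResidual 2 G = ⊤ := by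
    rcases (Transfer.pResidual_normal (p := 2) (G := G)).eq_bot_or_eq_top with h | h
    · exfalso
      have h48 : Nat.card (Subgroup.centralizer ({t} : Set G)) = 48 := T.card_eq
      obtain ⟨x, hx⟩ := exists_prime_orderOf_dvd_card' (G := G) 3
        (dvd_trans (h48 ▸ (by norm_num : 3 ∣ 48)) (Subgroup.card_subgroup_dvd_card _))
      have hm : x ∈ Cfsg.pResidual 2 G :=
        subset_closure (show Nat.Coprime (orderOf x) 2 by rw [hx]; norm_num)
      rw [h, mem_bot] at hm
      rw [hm, orderOf_one] at hx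
      omega
    · exact h
  have hH : GL23Ident.Hyp t :=
    ⟨ht, GL23Ident.invol_conj T ht hres, GL23Cent.card_of_simple t ht e3⟩
  rcases GL23Ident.identify hH T with ⟨⟨i⟩⟩ | ⟨⟨i⟩⟩
  · exact Or.inr ⟨inferInstance, by rw [Nat.card_congr i.toEquiv, MathieuEleven.natCard_m11]⟩
  · exact Or.inl ⟨i.trans (Agent.Linear.pslMapEquiv σ.symm)⟩

end Cfsg.Agent.LThreeRec
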